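import Groth.Agent.Lib.ProperFormalH7.ExtSect
import Groth.Agent.Lib.SitePAdj16.Modules
import Groth.Agent.Lib.SiteRlim16.Acyclic

/-!
# Classes on inverse images as sections of higher direct images
-/

set_option autoImplicit false
set_option linter.style.haveILetI false
set_option linter.unusedSectionVars false
set_option backward.isDefEq.respectTransparency false
set_option backward.isDefEq.respectTransparency.types false
set_option synthInstance.maxHeartbeats 400000
universe u w w₁ w' v v' u₁ u₂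

open CategoryTheory CategoryTheory.Limits Opposite

noncomputable section

namespace Groth.Agent.ProperFormalH7

section Generic

variable {D : Type u₂} [Category.{v'} D] [Abelian D] [HasExt.{w'} D] [HasDerivedCategory.{w₁} D]
  {A : Type u₁} [Category.{v} A] [Abelian A] [EnoughInjectives A] [HasDerivedCategory.{w} A]
  {R : A ⥤ D} {L : D ⥤ A} [R.Additive] [L.Additive] (adj : L ⊣ R)
  {RF : DerivedCategory A ⥤ DerivedCategory D}
  (α : R.mapHomotopyCategory (ComplexShape.up ℤ) ⋙ DerivedCategory.Qh ⟶ DerivedCategory.Qh ⋙ RF)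

open SitePAdj in
theorem transpose_pre {X X' : D} (φ : X' ⟶ X) {m : ℤ} {K : DerivedCategory A}
    (g : (DerivedCategory.singleFunctor A m).obj (L.obj X) ⟶ K) :
    transpose adj α ((DerivedCategory.singleFunctor A m).map (L.map φ) ≫ g) =
      (DerivedCategory.singleFunctor D m).map φ ≫ transpose adj α g := by
  simp only [transpose, unitClass, Functor.map_comp, ← Category.assoc]
  congr 1
  simp only [Category.assoc]
  have h1 := (αQ α).naturality ((HomologicalComplex.single A (ComplexShape.up ℤ) m).map (L.map φ))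
  rw [Functor.comp_map] at h1
  refine Eq.trans (congrArg (_ ≫ _ ≫ ·) h1.symm) ?_
  change _ = DerivedCategory.Q.map ((HomologicalComplex.single D (ComplexShape.up ℤ) m).map φ) ≫ _
  simp only [← Functor.map_comp_assoc]
  congr 2
  have h2 := (HomologicalComplex.singleMapHomologicalComplex R (ComplexShape.up ℤ) m).inv.naturality (L.map φ)
  dsimp at h2
  rw [← h2, ← Functor.map_comp_assoc]
  exact congrArg (fun ψ => (HomologicalComplex.single D (ComplexShape.up ℤ) m).map ψ ≫ _) (adj.unit.naturality φ).symm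

end Generic

attribute [local instance] HasDerivedCategory.standard

variable {C : Type u} [SmallCategory C] {J : GrothendieckTopology C} {O_C : Sheaf J CommRingCat.{u}}
  {D : Type u} [SmallCategory D] {K : GrothendieckTopology D} {O_D : Sheaf K CommRingCat.{u}}
  (f : ModSite.RMor O_C O_D)

/-- The free module on the inverse image maps to the inverse image of the free module. -/
def eF (W : D) : ModSite.freeOn O_C (f.fn.obj W) ⟶ f.pull.obj (ModSite.freeOn O_D W) :=
  (ev O_C (f.fn.obj W)).symm (ev O_D W (f.adj.unit.app (ModSite.freeOn O_D W)))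

theorem ev_eF_comp {W : D} {M : ModSite.Mod O_C} (ψ : f.pull.obj (ModSite.freeOn O_D W) ⟶ M) :
    ev O_C (f.fn.obj W) (eF f W ≫ ψ) = ev O_D W (f.adj.homEquiv _ _ ψ) := by
  rw [ev_comp, eF, Equiv.apply_symm_apply, Adjunction.homEquiv_unit, ev_comp]
  rfl

theorem isIso_eF (W : D) : IsIso (eF f W) := by
  have hb : ∀ M, Function.Bijective (fun ψ : f.pull.obj (ModSite.freeOn O_D W) ⟶ M => eF f W ≫ ψ) := fun M => by
    have e : (fun ψ : f.pull.obj (ModSite.freeOn O_D W) ⟶ M => eF f W ≫ ψ) =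
        (ev O_C (f.fn.obj W)).symm ∘ (fun ψ => ev O_D W (f.adj.homEquiv _ _ ψ)) := funext fun ψ =>
      (ev O_C (f.fn.obj W)).injective (by
        rw [ev_eF_comp]
        exact ((ev O_C (f.fn.obj W)).apply_symm_apply _).symm)
    rw [e]
    exact (ev O_C (f.fn.obj W)).symm.bijective.comp ((ev O_D W).bijective.comp (f.adj.homEquiv _ _).bijective)
  obtain ⟨g, hg⟩ := (hb _).2 (𝟙 (ModSite.freeOn O_C (f.fn.obj W)))
  refine ⟨⟨g, hg, (hb _).1 ?_⟩⟩
  change eF f W ≫ g ≫ eF f W = eF f W ≫ 𝟙 _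
  rw [← Category.assoc]
  exact (congrArg (· ≫ eF f W) hg).trans ((Category.id_comp _).trans (Category.comp_id _).symm)

/-- `j_! O` commutes with inverse images. -/
def eI (W : D) : ModSite.freeOn O_C (f.fn.obj W) ≅ f.pull.obj (ModSite.freeOn O_D W) :=
  @asIso _ _ _ _ (eF f W) (isIso_eF f W)

/-- The comorphism on sections. -/
abbrev shp (W : D) : O_D.obj.obj (op W) →+* O_C.obj.obj (op (f.fn.obj W)) := (f.sharp.hom.app (op W)).hom

theorem smF_eF {W : D} (a : O_D.obj.obj (op W)) :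
    smF O_C (f.fn.obj W) (shp f W a) ≫ eF f W = eF f W ≫ f.pull.map (smF O_D W a) :=
  (ev O_C (f.fn.obj W)).injective (by
    rw [ev_smF_comp, ev_eF_comp, Adjunction.homEquiv_unit]
    refine Eq.trans ?_ (congrArg (ev O_D W) (f.adj.unit.naturality (smF O_D W a)))
    exact Eq.trans (congrArg (shp f W a • ·) (Equiv.apply_symm_apply _ _))
      (ev_smF_comp O_D a (f.adj.unit.app (ModSite.freeOn O_D W))).symm)

theorem gen_eF {W' W : D} (l : W' ⟶ W) :
    (SiteRlim.genMod O_C).map (f.fn.map l) ≫ eF f W = eF f W' ≫ f.pull.map ((SiteRlim.genMod O_D).map l) :=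
  (ev O_C (f.fn.obj W')).injective (by
    rw [ev_gen_comp, ev_eF_comp, Adjunction.homEquiv_unit]
    refine Eq.trans ?_ (congrArg (ev O_D W') (f.adj.unit.naturality ((SiteRlim.genMod O_D).map l)))
    exact Eq.trans (congrArg (ModFlat16.smap _ (f.fn.map l)) (Equiv.apply_symm_apply _ _))
      (ev_gen_comp O_D l (f.adj.unit.app (ModSite.freeOn O_D W))).symm)

variable [HasExt.{u} (ModSite.Mod O_C)] [HasExt.{u} (ModSite.Mod O_D)] [SiteCmp.HasRpushD f]

/-- The derived direct images of modules. -/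
abbrev Rq (n : ℕ) : ModSite.Mod O_C ⥤ ModSite.Mod O_D :=
  DerivedCategory.singleFunctor (ModSite.Mod O_C) 0 ⋙ SiteCmp.RpushD f ⋙
    DerivedCategory.homologyFunctor (ModSite.Mod O_D) (n : ℤ)

/-- Classes as morphisms of the derived category. -/
def clsHom {X : ModSite.Mod O_C} {M : ModSite.Mod O_C} {n : ℕ} (ξ : Abelian.Ext.{u} X M n) :
    (DerivedCategory.singleFunctor (ModSite.Mod O_C) (n : ℤ)).obj X ⟶
      (DerivedCategory.singleFunctor (ModSite.Mod O_C) 0).obj M :=
  (Equiv.ofBijective _ (SiteRlim.bijective_shiftTr (n : ℤ) (SiteRlim.singleShift X (n : ℤ)) _)).symm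
    (Abelian.Ext.homEquiv ξ)

theorem shiftTr_clsHom {X M : ModSite.Mod O_C} {n : ℕ} (ξ : Abelian.Ext.{u} X M n) :
    SiteRlim.shiftTr (n : ℤ) (SiteRlim.singleShift X (n : ℤ)) (clsHom ξ) = Abelian.Ext.homEquiv ξ :=
  Equiv.apply_symm_apply (Equiv.ofBijective _ (SiteRlim.bijective_shiftTr (n : ℤ) (SiteRlim.singleShift X (n : ℤ)) _)) _

theorem bijective_clsHom (X M : ModSite.Mod O_C) (n : ℕ) :
    Function.Bijective (clsHom : Abelian.Ext.{u} X M n → _) :=
  (Equiv.ofBijective _ (SiteRlim.bijective_shiftTr (n : ℤ) (SiteRlim.singleShift X (n : ℤ)) _)).symm.bijective.comp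
    Abelian.Ext.homEquiv.bijective

theorem clsHom_add {X M : ModSite.Mod O_C} {n : ℕ} (ξ η : Abelian.Ext.{u} X M n) :
    clsHom (ξ + η) = clsHom ξ + clsHom η :=
  (SiteRlim.bijective_shiftTr (n : ℤ) (SiteRlim.singleShift X (n : ℤ)) _).1 (by
    rw [SiteRlim.shiftTr_add, shiftTr_clsHom, shiftTr_clsHom, shiftTr_clsHom]
    exact Abelian.Ext.add_hom ξ η)

theorem clsHom_pre {X X' M : ModSite.Mod O_C} {n : ℕ} (φ : X' ⟶ X) (ξ : Abelian.Ext.{u} X M n) :
    clsHom ((Abelian.Ext.mk₀ φ).comp ξ (zero_add n)) =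
      (DerivedCategory.singleFunctor (ModSite.Mod O_C) (n : ℤ)).map φ ≫ clsHom ξ :=
  (SiteRlim.bijective_shiftTr (n : ℤ) (SiteRlim.singleShift X' (n : ℤ)) _).1 (by
    rw [shiftTr_clsHom, SiteRlim.shiftTr, Functor.map_comp, ← Category.assoc]
    refine ((Abelian.Ext.comp_hom _ _ _).trans ?_).trans (congrArg (· ≫ _)
      ((((DerivedCategory.singleFunctors (ModSite.Mod O_C)).shiftIso (n : ℤ) 0 (n : ℤ) (add_zero (n : ℤ))).inv.naturality φ)))
    rw [Abelian.Ext.mk₀_hom, ShiftedHom.mk₀_comp, Category.assoc]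
    exact congrArg (_ ≫ ·) (shiftTr_clsHom ξ).symm)

theorem clsHom_post {X M N : ModSite.Mod O_C} {n : ℕ} (g : M ⟶ N) (ξ : Abelian.Ext.{u} X M n) :
    clsHom (ξ.comp (Abelian.Ext.mk₀ g) (add_zero n)) =
      clsHom ξ ≫ (DerivedCategory.singleFunctor (ModSite.Mod O_C) 0).map g :=
  (SiteRlim.bijective_shiftTr (n : ℤ) (SiteRlim.singleShift X (n : ℤ)) _).1 (by
    rw [shiftTr_clsHom, SiteRlim.shiftTr_comp, shiftTr_clsHom]
    refine (Abelian.Ext.comp_hom _ _ _).trans ?_
    rw [Abelian.Ext.mk₀_hom, ShiftedHom.comp_mk₀])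

theorem additive_rpushD : (SiteCmp.RpushD f).Additive := by
  obtain ⟨_, _⟩ := SitePAdj.exists_commShift_isTriangulated_rpushD f
  infer_instance

/-- The class on the bottom attached to a class on the inverse image. -/
def cls {W : D} {M : ModSite.Mod O_C} {n : ℕ} (ξ : XC O_C (f.fn.obj W) M n) :
    (DerivedCategory.singleFunctor (ModSite.Mod O_D) (n : ℤ)).obj (ModSite.freeOn O_D W) ⟶
      (SiteCmp.RpushD f).obj ((DerivedCategory.singleFunctor (ModSite.Mod O_C) 0).obj M) :=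
  SitePAdj.transpose f.adj (SitePAdj.rpushUnit f)
    ((DerivedCategory.singleFunctor (ModSite.Mod O_C) (n : ℤ)).map (eI f W).inv ≫ clsHom ξ)

theorem bijective_cls (W : D) (M : ModSite.Mod O_C) (n : ℕ) :
    Function.Bijective (cls f : XC O_C (f.fn.obj W) M n → _) :=
  (SitePAdj.bijective_transpose f.adj (SitePAdj.rpushUnit f) KInjLib.enoughKInj_of_grothendieck
    (SitePAdj.isQuasiLiftable_adapted f) (SitePAdj.adapted_freeOn f W) (n : ℤ) _).comp
      ((((DerivedCategory.singleFunctor (ModSite.Mod O_C) (n : ℤ)).mapIso (eI f W)).homFromEquiv).bijective.comp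
        (bijective_clsHom _ M n))

/-- Classes on the inverse image give sections of the higher direct image. -/
def eta (W : D) (M : ModSite.Mod O_C) (n : ℕ) : XC O_C (f.fn.obj W) M n →+ ModSite.sect ((Rq f n).obj M) W :=
  AddMonoidHom.mk' (fun ξ => ev O_D W (SiteRlim.θ (cls f ξ))) fun ξ η => by
    haveI := additive_rpushD f
    rw [← ev_add]
    refine congrArg (ev O_D W) ?_
    rw [← SiteRlim.θ_add]
    refine congrArg SiteRlim.θ ?_
    change SitePAdj.transpose _ _ (_ ≫ clsHom (ξ + η : Abelian.Ext.{u} _ _ n)) = _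
    rw [clsHom_add]
    simp only [cls, SitePAdj.transpose, Preadditive.comp_add, Functor.map_add]

theorem eta_apply {W : D} {M : ModSite.Mod O_C} {n : ℕ} (ξ : XC O_C (f.fn.obj W) M n) :
    eta f W M n ξ = ev O_D W (SiteRlim.θ (cls f ξ)) := rfl

theorem cls_pre {W' W : D} {M : ModSite.Mod O_C} {n : ℕ} (φ : ModSite.freeOn O_D W' ⟶ ModSite.freeOn O_D W)
    (φ' : ModSite.freeOn O_C (f.fn.obj W') ⟶ ModSite.freeOn O_C (f.fn.obj W))
    (h : φ' ≫ eF f W = eF f W' ≫ f.pull.map φ) (ξ : XC O_C (f.fn.obj W) M n) :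
    cls f (show XC O_C (f.fn.obj W') M n from (Abelian.Ext.mk₀ φ').comp ξ (zero_add n)) =
      (DerivedCategory.singleFunctor (ModSite.Mod O_D) (n : ℤ)).map φ ≫ cls f ξ := by
  have e : (eI f W').inv ≫ φ' = f.pull.map φ ≫ (eI f W).inv := by
    rw [Iso.inv_comp_eq, ← Category.assoc, Iso.eq_comp_inv]
    exact h
  change SitePAdj.transpose _ _ (_ ≫ clsHom ((Abelian.Ext.mk₀ φ').comp (ξ : Abelian.Ext.{u} _ _ n) (zero_add n))) = _
  rw [clsHom_pre, ← Category.assoc, ← Functor.map_comp, e, Functor.map_comp, Category.assoc]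
  exact transpose_pre _ _ φ _

theorem eta_smul {W : D} {M : ModSite.Mod O_C} {n : ℕ} (a : O_D.obj.obj (op W)) (ξ : XC O_C (f.fn.obj W) M n) :
    eta f W M n (shp f W a • ξ) = a • eta f W M n ξ := by
  rw [eta_apply, eta_apply, ← ev_smF_comp, ← SiteRlim.θ_pre, ← cls_pre f (smF O_D W a) _ (smF_eF f a) ξ]
  rfl

theorem eta_res {W' W : D} {M : ModSite.Mod O_C} {n : ℕ} (l : W' ⟶ W) (ξ : XC O_C (f.fn.obj W) M n) :
    eta f W' M n (XC.res (f.fn.map l) ξ) = ModFlat16.smap _ l (eta f W M n ξ) := by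
  rw [eta_apply, eta_apply]
  refine Eq.trans ?_ (ev_gen_comp O_D l (SiteRlim.θ (cls f ξ)))
  refine congrArg (ev O_D W') ?_
  exact (congrArg SiteRlim.θ (cls_pre f _ _ (gen_eF f l) ξ)).trans (SiteRlim.θ_pre _ _)

theorem eta_post {W : D} {M N : ModSite.Mod O_C} {n : ℕ} (g : M ⟶ N) (ξ : XC O_C (f.fn.obj W) M n) :
    eta f W N n (XC.post g ξ) = ((Rq f n).map g).val.app (op W) (eta f W M n ξ) := by
  rw [eta_apply, eta_apply]
  refine Eq.trans ?_ (ev_comp O_D (SiteRlim.θ (cls f ξ)) ((Rq f n).map g))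
  refine congrArg (ev O_D W) ?_
  change SiteRlim.θ (SitePAdj.transpose _ _ (_ ≫ clsHom ((ξ : Abelian.Ext.{u} _ _ n).comp (Abelian.Ext.mk₀ g) (add_zero n)))) = _
  rw [clsHom_post, ← Category.assoc, SitePAdj.transpose_comp, SiteRlim.θ_comp]
  rfl

theorem locally_zero_of_eta {W : D} {M : ModSite.Mod O_C} {n : ℕ} (ξ : XC O_C (f.fn.obj W) M n)
    (h : eta f W M n ξ = 0) :
    ∃ S ∈ K W, ∀ {V : D} (g : V ⟶ W), S g → XC.res (f.fn.map g) ξ = 0 := by
  have h0 : SiteRlim.θ (cls f ξ) = 0 := (ev O_D W).injective (by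
    rw [← eta_apply, h]
    rfl)
  obtain ⟨S, hS, hS'⟩ := SiteRlim.locally_zero_of_θ (SiteRlim.localGen_genMod O_D) (cls f ξ) h0
  refine ⟨S, hS, fun {V} g hg => (bijective_cls f V M n).1 ?_⟩
  refine (cls_pre f _ _ (gen_eF f g) ξ).trans ((hS' g hg).trans ?_)
  haveI := additive_rpushD f
  have e : clsHom (0 : Abelian.Ext.{u} (ModSite.freeOn O_C (f.fn.obj V)) M n) = 0 := by
    have := clsHom_add (0 : Abelian.Ext.{u} (ModSite.freeOn O_C (f.fn.obj V)) M n) 0
    rwa [add_zero, eq_comm, add_eq_left] at this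
  change 0 = SitePAdj.transpose _ _ (_ ≫ clsHom (0 : Abelian.Ext.{u} (ModSite.freeOn O_C (f.fn.obj V)) M n))
  rw [e, comp_zero]
  simp [SitePAdj.transpose]

theorem locally_exists_eta {W : D} {M : ModSite.Mod O_C} {n : ℕ} (s : ModSite.sect ((Rq f n).obj M) W) :
    ∃ S ∈ K W, ∀ {V : D} (g : V ⟶ W), S g → ∃ ξ, eta f V M n ξ = ModFlat16.smap _ g s := by
  obtain ⟨S, hS, hS'⟩ := SiteRlim.locally_exists_θ (SiteRlim.localGen_genMod O_D) ((ev O_D W).symm s)
  refine ⟨S, hS, fun {V} g hg => ?_⟩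
  obtain ⟨t, ht⟩ := hS' g hg
  obtain ⟨ξ, rfl⟩ := (bijective_cls f V M n).2 t
  refine ⟨ξ, ?_⟩
  rw [eta_apply, ht, ev_gen_comp, Equiv.apply_symm_apply]
  rfl

/-- Over objects acyclic for the higher direct images, classes are sections. -/
theorem bijective_eta (W : D) (M : ModSite.Mod O_C) (n : ℕ)
    (h : ∀ q : ℕ, q < n → ∀ k, 0 < k → Subsingleton (XC O_D W ((Rq f q).obj M) k)) :
    Function.Bijective (eta f W M n) := by
  haveI := SitePAdj.isGE_rpushD f ((DerivedCategory.singleFunctor (ModSite.Mod O_C) 0).obj M) 0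
  change Function.Bijective (⇑(ev O_D W) ∘ SiteRlim.θ ∘ (cls f : XC O_C (f.fn.obj W) M n → _))
  refine (ev O_D W).bijective.comp (Function.Bijective.comp
    (SiteRlim.bijective_θ_of_isGE (ModSite.freeOn O_D W) (n : ℤ) _ 0 inferInstance fun q hq j hj => ?_)
    (bijective_cls f W M n))
  rcases lt_or_ge q 0 with hq0 | hq0
  · exact ⟨fun x y => ((DerivedCategory.singleFunctor (ModSite.Mod O_D) q).map_isZero
      (DerivedCategory.isZero_of_isGE _ 0 q hq0)).eq_of_tgt x y⟩
  · obtain ⟨q, rfl⟩ := Int.eq_ofNat_of_zero_le hq0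
    exact SiteRlim.subsingleton_hom_single j q (j - q).toNat (by omega) (h q (by omega) _ (by omega))

end Groth.Agent.ProperFormalH7
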