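import Groth.Agent.Lib.SiteCmp16.RpushTrunc
import Groth.Agent.Lib.RFPlus.DerivedZero
import Groth.Agent.Lib.ProperFormalH7.Classes

/-!
# The derived direct image of modules in degree zero, as a functor
-/

set_option autoImplicit false
set_option linter.style.haveILetI false
set_option linter.unusedSectionVars false
set_option backward.isDefEq.respectTransparency false
set_option backward.isDefEq.respectTransparency.types false
universe w w₁ w' v v' u u' u₂

open CategoryTheory CategoryTheory.Limits HomologicalComplex

noncomputable section

namespace Groth.Agent.ProperFormalH7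

section Abstract

variable {D : Type u'} [Category.{v'} D] [Abelian D] [HasExt.{w'} D] [HasDerivedCategory.{w₁} D]
  {A : Type u} [Category.{v} A] [Abelian A] [EnoughInjectives A] [HasDerivedCategory.{w} A]
  {R : A ⥤ D} [R.Additive] {RF : DerivedCategory A ⥤ DerivedCategory D}
  (α : R.mapHomotopyCategory (ComplexShape.up ℤ) ⋙ DerivedCategory.Qh ⟶ DerivedCategory.Qh ⋙ RF)
  [RF.IsRightDerivedFunctor α (HomotopyCategory.quasiIso A (ComplexShape.up ℤ))]
  (hk : KInjLib.EnoughKInj A)

include hk in
theorem isIso_αQ_res {X : A} (I : InjectiveResolution X) :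
    IsIso ((SitePAdj.αQ α).app I.cochainComplex) :=
  haveI : I.cochainComplex.IsKInjective := CochainComplex.isKInjective_of_injective I.cochainComplex 0
  SitePAdj.isIso_αQ α hk I.cochainComplex

include hk in
/-- The component at a resolution. -/
def homologySingleApp {X : A} (I : InjectiveResolution X) (p : ℕ) :
    (DerivedCategory.homologyFunctor D (p : ℤ)).obj (RF.obj ((DerivedCategory.singleFunctor A 0).obj X)) ≅
      (R.rightDerived p).obj X :=
  haveI := isIso_αQ_res α hk I
  haveI : IsIso (DerivedCategory.Q.map I.ι') := (DerivedCategory.isIso_Q_map_iff_quasiIso A I.ι').2 inferInstance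
  (DerivedCategory.homologyFunctor D (p : ℤ)).mapIso
      (RF.mapIso (asIso (DerivedCategory.Q.map I.ι')) ≪≫ (asIso ((SitePAdj.αQ α).app I.cochainComplex)).symm) ≪≫
    (DerivedCategory.homologyFunctorFactors D (p : ℤ)).app _ ≪≫ RFPlus.homologyMapResolutionIso R I p

include hk in
/-- `H^p (RF X) = R^p X`, naturally. -/
def homologySingleIso (p : ℕ) :
    DerivedCategory.singleFunctor A 0 ⋙ RF ⋙ DerivedCategory.homologyFunctor D (p : ℤ) ≅ R.rightDerived p :=
  NatIso.ofComponents (fun X => homologySingleApp α hk (injectiveResolution X) p) (fun {X Y} f => by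
    let φ : (injectiveResolution X).Hom (injectiveResolution Y) f :=
      { hom := InjectiveResolution.desc f _ _
        ι_f_zero_comp_hom_f_zero := by
          rw [← HomologicalComplex.comp_f, InjectiveResolution.desc_commutes, HomologicalComplex.comp_f] }
    haveI := isIso_αQ_res α hk (injectiveResolution X)
    haveI := isIso_αQ_res α hk (injectiveResolution Y)
    let K := DerivedCategory.homologyFunctor D (p : ℤ)
    have h1 : (DerivedCategory.singleFunctor A 0).map f ≫ DerivedCategory.Q.map (injectiveResolution Y).ι' =
        DerivedCategory.Q.map (injectiveResolution X).ι' ≫ DerivedCategory.Q.map φ.hom' := by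
      rw [← DerivedCategory.Q.map_comp, InjectiveResolution.Hom.ι'_comp_hom', Functor.map_comp]
      rfl
    have h2 : RF.map (DerivedCategory.Q.map φ.hom') ≫ inv ((SitePAdj.αQ α).app (injectiveResolution Y).cochainComplex) =
        inv ((SitePAdj.αQ α).app (injectiveResolution X).cochainComplex) ≫
          DerivedCategory.Q.map ((R.mapHomologicalComplex (ComplexShape.up ℤ)).map φ.hom') := by
      rw [IsIso.comp_inv_eq, Category.assoc, IsIso.eq_inv_comp]
      exact ((SitePAdj.αQ α).naturality φ.hom').symm
    have h3 := (DerivedCategory.homologyFunctorFactors D (p : ℤ)).hom.naturality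
      ((R.mapHomologicalComplex (ComplexShape.up ℤ)).map φ.hom')
    have h4 := RFPlus.homologyMapResolutionIso_naturality R f _ _ φ p
    change K.map (RF.map ((DerivedCategory.singleFunctor A 0).map f)) ≫
        K.map (RF.map (DerivedCategory.Q.map (injectiveResolution Y).ι') ≫ inv ((SitePAdj.αQ α).app _)) ≫
          (DerivedCategory.homologyFunctorFactors D (p : ℤ)).hom.app _ ≫ (RFPlus.homologyMapResolutionIso R _ p).hom =
      (K.map (RF.map (DerivedCategory.Q.map (injectiveResolution X).ι') ≫ inv ((SitePAdj.αQ α).app _)) ≫
          (DerivedCategory.homologyFunctorFactors D (p : ℤ)).hom.app _ ≫ (RFPlus.homologyMapResolutionIso R _ p).hom) ≫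
        (R.rightDerived p).map f
    rw [← K.map_comp_assoc, ← RF.map_comp_assoc, h1, RF.map_comp_assoc, h2, ← Category.assoc (RF.map _),
      K.map_comp_assoc]
    erw [reassoc_of% h3]
    simp only [Category.assoc]
    erw [h4])

end Abstract

section Site

universe t

attribute [local instance] HasDerivedCategory.standard

variable {C D : Type u} [SmallCategory C] [SmallCategory D] {J : GrothendieckTopology C} {K : GrothendieckTopology D}
  {O_C : Sheaf J CommRingCat.{u}} {O_D : Sheaf K CommRingCat.{u}} (f : ModSite.RMor O_C O_D)
  [SiteCmp.HasRpushD f] [HasInjectiveResolutions (ModSite.Mod O_C)]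

/-- The higher direct image functor through the derived one. -/
def rqIso (q : ℕ) : Rq f q ≅ f.Rpush q :=
  homologySingleIso (SitePAdj.rpushUnit f) KInjLib.enoughKInj_of_grothendieck q

end Site

end Groth.Agent.ProperFormalH7
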