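import Groth.Agent.Lib.ModM1.Coh
import Groth.Agent.Lib.ModM1.Stalk
import Groth.Prelude.Def_CohB1

/-!
# Supports of direct images
-/

set_option autoImplicit false
set_option backward.isDefEq.respectTransparency false
set_option backward.isDefEq.respectTransparency.types false
universe u

open CategoryTheory AlgebraicGeometry Opposite TopologicalSpace

namespace Groth.Agent.ProperFormalH7

/-- The support of a direct image lies in a closed image of the support. -/
theorem support_push_subset {X X' : Scheme.{u}} (f : X' ⟶ X) {F : X'.Modules}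
    (hZ : IsClosed (f '' CohB1.support F)) :
    CohB1.support ((Scheme.Modules.pushforward f).obj F) ⊆ f '' CohB1.support F := by
  intro x hx
  by_contra hxZ
  refine hx ⟨fun a b => ?_⟩
  have key : ∀ a : ((Scheme.Modules.pushforward f).obj F).presheaf.stalk x, a = 0 := fun a => by
    obtain ⟨W, hW, s, rfl⟩ := TopCat.Presheaf.exists_germ_eq _ a
    let W' : X.Opens := W ⊓ ⟨_, hZ.isOpen_compl⟩
    have hxW' : x ∈ W' := ⟨hW, hxZ⟩
    have h0 : M1.mres ((Scheme.Modules.pushforward f).obj F) (inf_le_left : W' ≤ W) s = 0 := by
      refine M1.section_ext (M := F) (U := f ⁻¹ᵁ W') _ _ fun y hy => ?_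
      have hy' : y ∉ CohB1.support F := fun h => hy.2 ⟨y, h, rfl⟩
      exact @Subsingleton.elim _ (not_not.1 hy') _ _
    rw [← M1.germ_mres _ (inf_le_left : W' ≤ W) hxW' s, h0, map_zero]
  rw [key a, key b]

end Groth.Agent.ProperFormalH7
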