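import Groth.Agent.Lib.Compl.Complete
import Mathlib.RingTheory.Finiteness.Basic
import Mathlib.RingTheory.Nakayama
import Mathlib.Algebra.Exact.Basic
import Mathlib.RingTheory.Noetherian.Basic

/-!
# Nakayama arguments for modules without divisible sequences
-/

set_option autoImplicit false
set_option linter.unusedSectionVars false
set_option linter.style.haveILetI false
universe u

namespace Groth.Agent.ProperFormalH7

open Pointwise

variable {A : Type u} [CommRing A] (g : A) (M : Type u) [AddCommGroup M] [Module A M]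

/-- The map whose kernel consists of the sequences `x i = g • x (i + 1)`. -/
def phiSeq (x : ℕ → M) : ℕ → M := fun i => x i - g • x (i + 1)

variable {g M}

theorem phiSeq_sub (x y : ℕ → M) : phiSeq g M (x - y) = phiSeq g M x - phiSeq g M y :=
  funext fun i => by simp only [phiSeq, Pi.sub_apply, smul_sub]; abel

/-- Over an adically complete ring, the equations `x i - g • x (i + 1) = y i` have exactly one solution in a
finite module. -/
theorem bijective_phiSeq_of_finite [IsNoetherianRing A] (I : Ideal A) [IsAdicComplete I A] (hg : g ∈ I)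
    [Module.Finite A M] : Function.Bijective (phiSeq g M) := by
  haveI := Compl.isAdicComplete_of_finite I M
  have hpow : ∀ (k : ℕ) (m : M), g ^ k • m ∈ (I ^ k • ⊤ : Submodule A M) := fun k m =>
    Submodule.smul_mem_smul (Ideal.pow_mem_pow hg k) trivial
  constructor
  · intro x y h
    have h0 : phiSeq g M (x - y) = 0 := by rw [phiSeq_sub, h, sub_self]
    generalize hz : x - y = z at h0
    suffices z = 0 by rwa [this, sub_eq_zero] at hz
    have key : ∀ k i, z i = g ^ k • z (i + k) := by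
      intro k
      induction k with
      | zero => intro i; simp
      | succ k ih =>
        intro i
        rw [ih i, pow_succ, mul_smul, ← add_assoc]
        exact congrArg (g ^ k • ·) (sub_eq_zero.1 (congrFun h0 (i + k)))
    funext i
    exact IsHausdorff.haus (I := I) inferInstance _ fun k => by
      rw [SModEq.zero, key k i]
      exact hpow k _
  · intro y
    let s : ℕ → ℕ → M := fun i k => ∑ j ∈ Finset.range k, g ^ j • y (i + j)
    have hs : ∀ i {k l : ℕ}, k ≤ l → s i k ≡ s i l [SMOD (I ^ k • ⊤ : Submodule A M)] := fun i k l h => by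
      rw [SModEq.sub_mem, ← neg_mem_iff, neg_sub, show s i l - s i k = ∑ j ∈ Finset.Ico k l, g ^ j • y (i + j) from
        (Finset.sum_Ico_eq_sub _ h).symm]
      exact Submodule.sum_mem _ fun j hj =>
        Submodule.smul_mono (Ideal.pow_le_pow_right (Finset.mem_Ico.1 hj).1) le_rfl (hpow j _)
    choose x hx using fun i => IsPrecomplete.prec (I := I) inferInstance (@hs i)
    refine ⟨x, funext fun i => ?_⟩
    refine sub_eq_zero.1 (IsHausdorff.haus (I := I) inferInstance _ fun k => ?_)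
    rw [SModEq.zero]
    have h1 : s i (k + 1) = y i + g • s (i + 1) k := by
      simp only [s]
      rw [Finset.sum_range_succ', Finset.smul_sum, add_comm]
      simp only [pow_zero, one_smul, add_zero]
      refine congrArg (_ + ·) (Finset.sum_congr rfl fun j _ => ?_)
      rw [pow_succ', mul_smul, add_assoc, add_comm 1 j]
    have e : phiSeq g M x i - y i =
        (x i - s i (k + 1)) - g • (x (i + 1) - s (i + 1) k) := by
      simp only [phiSeq, h1, smul_sub]
      abel
    rw [e]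
    refine Submodule.sub_mem _ ?_ (Submodule.smul_mem _ _ ?_)
    · rw [← neg_mem_iff, neg_sub]
      exact Submodule.smul_mono (Ideal.pow_le_pow_right (Nat.le_succ k)) le_rfl (SModEq.sub_mem.1 (hx i (k + 1)))
    · rw [← neg_mem_iff, neg_sub]
      exact SModEq.sub_mem.1 (hx (i + 1) k)

/-- A module without divisible sequences which is finite modulo `g` is finite. -/
theorem finite_of_quotient [IsNoetherianRing A] (I : Ideal A) [IsAdicComplete I A] (hg : g ∈ I)
    (hinj : Function.Injective (phiSeq g M)) [Module.Finite A (M ⧸ LinearMap.range (g • LinearMap.id : M →ₗ[A] M))] :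
    Module.Finite A M := by
  classical
  let L := LinearMap.range (g • LinearMap.id : M →ₗ[A] M)
  obtain ⟨S, hS⟩ := (Module.Finite.fg_top (R := A) (M := M ⧸ L))
  choose t ht using fun q : S => Submodule.mkQ_surjective L q.1
  let N : Submodule A M := Submodule.span A (Set.range t)
  haveI : Module.Finite A N := Module.Finite.span_of_finite A (Set.finite_range t)
  have hNL : ∀ m : M, ∃ n ∈ N, ∃ m', m = n + g • m' := fun m => by
    have h1 : L.mkQ m ∈ Submodule.map L.mkQ N := by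
      rw [Submodule.map_span, show L.mkQ '' Set.range t = (S : Set (M ⧸ L)) by
        ext z
        exact ⟨fun ⟨w, ⟨q, hq⟩, hz⟩ => by rw [← hz, ← hq, ht q]; exact q.2,
          fun hz => ⟨t ⟨z, hz⟩, ⟨_, rfl⟩, ht _⟩⟩, hS]
      trivial
    obtain ⟨n, hn, he⟩ := h1
    obtain ⟨m', hm'⟩ := (Submodule.Quotient.eq L).1 he.symm
    exact ⟨n, hn, m', eq_add_of_sub_eq' hm'.symm⟩
  suffices h : N = ⊤ by
    exact ⟨h ▸ Submodule.fg_span (Set.finite_range t)⟩
  rw [eq_top_iff]
  intro m _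
  choose n hn m' hm' using hNL
  let ms : ℕ → M := fun i => m'^[i] m
  have hms : ∀ i, g • ms (i + 1) - ms i = -n (ms i) := fun i => by
    simp only [ms, Function.iterate_succ_apply']
    exact sub_eq_iff_eq_add.2 (by
      have := hm' (m'^[i] m)
      rw [neg_add_eq_sub, eq_sub_iff_add_eq]
      exact (add_comm _ _).trans this.symm)
  obtain ⟨x, hx⟩ := (bijective_phiSeq_of_finite (M := N) I hg).2 fun i => ⟨-n (ms i), N.neg_mem (hn _)⟩
  have h0 : phiSeq g M (fun i => ms i + (x i).1) = phiSeq g M 0 := funext fun i => by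
    have h1 : (x i).1 - g • (x (i + 1)).1 = -n (ms i) := congrArg Subtype.val (congrFun hx i)
    simp only [phiSeq, Pi.zero_apply, smul_zero, sub_zero, smul_add]
    rw [← hms i] at h1
    calc ms i + (x i).1 - (g • ms (i + 1) + g • (x (i + 1)).1)
        = ((x i).1 - g • (x (i + 1)).1) - (g • ms (i + 1) - ms i) := by abel
      _ = 0 := by rw [h1, sub_self]
  have h2 := congrFun (hinj h0) 0
  simp only [ms, Function.iterate_zero_apply, Pi.zero_apply] at h2
  rw [eq_neg_of_add_eq_zero_left h2]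
  exact N.neg_mem (x 0).2

/-- Finiteness modulo `g` from a factorisation of `g` with finite defects. -/
theorem finite_quotient_range [IsNoetherianRing A] {H P Q : Type u} [AddCommGroup H] [Module A H] [AddCommGroup P]
    [Module A P] [AddCommGroup Q] [Module A Q] (α : M →ₗ[A] H) (δ : H →ₗ[A] P) (β : H →ₗ[A] M) (p : M →ₗ[A] Q)
    (h₁ : ∀ z, δ z = 0 → ∃ y, α y = z) (h₂ : ∀ y, p y = 0 → ∃ z, β z = y) (hg : ∀ y, β (α y) = g • y)
    [Module.Finite A P] [Module.Finite A Q] :
    Module.Finite A (M ⧸ LinearMap.range (g • LinearMap.id : M →ₗ[A] M)) := by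
  classical
  obtain ⟨S, hS⟩ := (IsNoetherian.noetherian (LinearMap.range δ) : (LinearMap.range δ).FG)
  obtain ⟨T, hT⟩ := (IsNoetherian.noetherian (LinearMap.range p) : (LinearMap.range p).FG)
  choose s hs using fun x : S => LinearMap.mem_range.1 (hS ▸ Submodule.subset_span x.2 : x.1 ∈ LinearMap.range δ)
  choose t ht using fun x : T => LinearMap.mem_range.1 (hT ▸ Submodule.subset_span x.2 : x.1 ∈ LinearMap.range p)
  let L := LinearMap.range (g • LinearMap.id : M →ₗ[A] M)
  let W : Submodule A M := Submodule.span A (Set.range t ∪ Set.range fun x => β (s x))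
  refine ⟨Submodule.fg_def.2 ⟨L.mkQ '' (Set.range t ∪ Set.range fun x => β (s x)),
    ((Set.finite_range t).union (Set.finite_range _)).image _, ?_⟩⟩
  rw [← Submodule.map_span, eq_top_iff]
  rintro z -
  obtain ⟨y, rfl⟩ := Submodule.mkQ_surjective L z
  have h3 : p y ∈ Submodule.map p (Submodule.span A (Set.range t)) := by
    rw [Submodule.map_span, show p '' Set.range t = (T : Set Q) by
      ext z
      exact ⟨fun ⟨w, ⟨q, hq⟩, hz⟩ => by rw [← hz, ← hq, ht q]; exact q.2,
        fun hz => ⟨t ⟨z, hz⟩, ⟨_, rfl⟩, ht _⟩⟩, hT]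
    exact LinearMap.mem_range_self p y
  obtain ⟨y₁, hy₁, he⟩ := h3
  obtain ⟨w, hw⟩ := h₂ (y - y₁) (by rw [map_sub, he, sub_self])
  have h4 : δ w ∈ Submodule.map δ (Submodule.span A (Set.range s)) := by
    rw [Submodule.map_span, show δ '' Set.range s = (S : Set P) by
      ext z
      exact ⟨fun ⟨w, ⟨q, hq⟩, hz⟩ => by rw [← hz, ← hq, hs q]; exact q.2,
        fun hz => ⟨s ⟨z, hz⟩, ⟨_, rfl⟩, hs _⟩⟩, hS]
    exact LinearMap.mem_range_self δ w
  obtain ⟨w₁, hw₁, he'⟩ := h4
  obtain ⟨v, hv⟩ := h₁ (w - w₁) (by rw [map_sub, he', sub_self])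
  have h5 : β w₁ ∈ W := by
    have := Submodule.mem_map_of_mem (f := β) hw₁
    rw [Submodule.map_span, ← Set.range_comp] at this
    exact Submodule.span_mono (fun _ h => Or.inr h) this
  refine ⟨y₁ + β w₁, W.add_mem (Submodule.span_mono (fun _ h => Or.inl h) hy₁) h5, ?_⟩
  refine (Submodule.Quotient.eq L).2 ⟨-v, ?_⟩
  show g • -v = y₁ + β w₁ - y
  rw [smul_neg, ← hg, hv, map_sub, hw]
  abel

section Chase

variable {B : Type u} [CommRing B] {AS FS HS CS AT FT HT CT : ℕ → Type u}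
  [∀ n, AddCommGroup (AS n)] [∀ n, Module B (AS n)] [∀ n, AddCommGroup (FS n)] [∀ n, Module B (FS n)]
  [∀ n, AddCommGroup (HS n)] [∀ n, Module B (HS n)] [∀ n, AddCommGroup (CS n)] [∀ n, Module B (CS n)]
  [∀ n, AddCommGroup (AT n)] [∀ n, Module B (AT n)] [∀ n, AddCommGroup (FT n)] [∀ n, Module B (FT n)]
  [∀ n, AddCommGroup (HT n)] [∀ n, Module B (HT n)] [∀ n, AddCommGroup (CT n)] [∀ n, Module B (CT n)]
  (i : ∀ n, AS n →ₗ[B] FS n) (α : ∀ n, FS n →ₗ[B] HS n) (δ₁ : ∀ n, HS n →ₗ[B] AS (n + 1))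
  (δ₂ : ∀ n, CS n →ₗ[B] HS n) (β : ∀ n, HS n →ₗ[B] FS n) (p : ∀ n, FS n →ₗ[B] CS (n + 1))
  (i' : ∀ n, AT n →ₗ[B] FT n) (α' : ∀ n, FT n →ₗ[B] HT n) (δ₁' : ∀ n, HT n →ₗ[B] AT (n + 1))
  (δ₂' : ∀ n, CT n →ₗ[B] HT n) (β' : ∀ n, HT n →ₗ[B] FT n) (p' : ∀ n, FT n →ₗ[B] CT (n + 1))
  (tA : ∀ n, AS n →ₗ[B] AT n) (tF : ∀ n, FS n →ₗ[B] FT n) (tH : ∀ n, HS n →ₗ[B] HT n)
  (tC : ∀ n, CS n →ₗ[B] CT n) (g : B)

/-- A comparison of exact sequences around a factorisation of `g` is bijective if it is so on the defects and the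
modules are finite, `g` being in the radical. -/
theorem bijective_of_defects
    (ei : ∀ n, Function.Exact (i n) (α n)) (eα : ∀ n, Function.Exact (α n) (δ₁ n))
    (eδ₁ : ∀ n, Function.Exact (δ₁ n) (i (n + 1)))
    (eδ₂ : ∀ n, Function.Exact (δ₂ n) (β n)) (eβ : ∀ n, Function.Exact (β n) (p n))
    (ep : ∀ n, Function.Exact (p n) (δ₂ (n + 1)))
    (ei' : ∀ n, Function.Exact (i' n) (α' n)) (eα' : ∀ n, Function.Exact (α' n) (δ₁' n))
    (eδ₁' : ∀ n, Function.Exact (δ₁' n) (i' (n + 1)))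
    (eδ₂' : ∀ n, Function.Exact (δ₂' n) (β' n)) (eβ' : ∀ n, Function.Exact (β' n) (p' n))
    (ep' : ∀ n, Function.Exact (p' n) (δ₂' (n + 1)))
    (hi : ∀ n x, tF n (i n x) = i' n (tA n x)) (hα : ∀ n x, tH n (α n x) = α' n (tF n x))
    (hδ₁ : ∀ n x, tA (n + 1) (δ₁ n x) = δ₁' n (tH n x)) (hδ₂ : ∀ n x, tH n (δ₂ n x) = δ₂' n (tC n x))
    (hβ : ∀ n x, tF n (β n x) = β' n (tH n x)) (hp : ∀ n x, tC (n + 1) (p n x) = p' n (tF n x))
    (hg : ∀ n x, β n (α n x) = g • x) (hg' : ∀ n x, β' n (α' n x) = g • x)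
    (hA : ∀ n, Function.Bijective (tA n)) (hC : ∀ n, Function.Bijective (tC n))
    (hjac : g ∈ Ideal.jacobson (⊥ : Ideal B)) [∀ n, Module.Finite B (FS n)] [∀ n, Module.Finite B (FT n)]
    [IsNoetherianRing B] (n : ℕ) : Function.Bijective (tF n) := by
  have lift : ∀ n z, tH n z ∈ LinearMap.range (δ₂' n) → ∃ z₁, β n z₁ = β n z ∧ tH n z₁ = 0 := fun n z ⟨w', hw'⟩ => by
    obtain ⟨w, rfl⟩ := (hC n).2 w'
    exact ⟨z - δ₂ n w, by rw [map_sub, (eδ₂ n).apply_apply_eq_zero, sub_zero],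
      by rw [map_sub, hδ₂, hw', sub_self]⟩
  have upH : ∀ n z, tH n z = 0 → ∃ y, α n y = z ∧ tF n y = 0 := fun n z hz => by
    have h1 : δ₁ n z = 0 := (hA (n + 1)).1 (by rw [hδ₁, hz, map_zero, map_zero])
    obtain ⟨y₀, hy₀⟩ := (eα n z).1 h1
    obtain ⟨a', ha'⟩ := (ei' n (tF n y₀)).1 (by rw [← hα, hy₀, hz])
    obtain ⟨a, rfl⟩ := (hA n).2 a'
    exact ⟨y₀ - i n a, by rw [map_sub, (ei n).apply_apply_eq_zero, sub_zero, hy₀],
      by rw [map_sub, hi, ha', sub_self]⟩
  have kerF : ∀ n, LinearMap.ker (tF n) = ⊥ := fun n => by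
    refine Submodule.eq_bot_of_le_smul_of_le_jacobson_bot (Ideal.span {g}) _ (IsNoetherian.noetherian _) ?_
      ((Ideal.span_singleton_le_iff_mem _).2 hjac)
    intro x hx
    rw [LinearMap.mem_ker] at hx
    have h1 : p n x = 0 := (hC (n + 1)).1 (by rw [hp, hx, map_zero, map_zero])
    obtain ⟨z, rfl⟩ := (eβ n x).1 h1
    obtain ⟨z₁, hz₁, hz₁'⟩ := lift n z ((eδ₂' n (tH n z)).1 (by rw [← hβ, hx]))
    obtain ⟨y, hy, hy'⟩ := upH n z₁ hz₁'
    rw [← hz₁, ← hy, hg]
    exact Submodule.smul_mem_smul (Ideal.mem_span_singleton_self g) (LinearMap.mem_ker.2 hy')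
  have injF : ∀ n, Function.Injective (tF n) := fun n => LinearMap.ker_eq_bot.1 (kerF n)
  have injH : ∀ n z, tH n z = 0 → z = 0 := fun n z hz => by
    obtain ⟨y, rfl, hy⟩ := upH n z hz
    rw [injF n (hy.trans (map_zero _).symm), map_zero]
  refine ⟨injF n, LinearMap.range_eq_top.1 (eq_top_iff.2 ?_)⟩
  refine Submodule.le_of_le_smul_of_le_jacobson_bot (I := Ideal.span {g}) Module.Finite.fg_top
    ((Ideal.span_singleton_le_iff_mem _).2 hjac) ?_
  intro c _
  obtain ⟨a, ha⟩ := (hC (n + 1)).2 (p' n c)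
  have h1 : δ₂ (n + 1) a = 0 := injH _ _ (by rw [hδ₂, ha, (ep' n).apply_apply_eq_zero])
  obtain ⟨b, rfl⟩ := (ep n a).1 h1
  obtain ⟨z', hz'⟩ := (eβ' n (c - tF n b)).1 (by rw [map_sub, ← hp, ha, sub_self])
  obtain ⟨e, he⟩ := (hA (n + 1)).2 (δ₁' n z')
  have h2 : i (n + 1) e = 0 := injF (n + 1) (by rw [hi, he, (eδ₁' n).apply_apply_eq_zero, map_zero])
  obtain ⟨z, rfl⟩ := (eδ₁ n e).1 h2
  obtain ⟨c', hc'⟩ := (eα' n (z' - tH n z)).1 (by rw [map_sub, ← hδ₁, he, sub_self])
  have h3 : c = tF n (b + β n z) + g • c' := by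
    rw [map_add, hβ, ← hg', hc', map_sub, hz']
    abel
  rw [h3]
  exact Submodule.add_mem_sup (LinearMap.mem_range_self _ _)
    (Submodule.smul_mem_smul (Ideal.mem_span_singleton_self g) trivial)

end Chase

end Groth.Agent.ProperFormalH7
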