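import Groth.Agent.Lib.CohFound.FormalFn
import Groth.Agent.Lib.CurveCoh17.Skyscraper
import Groth.Agent.Lib.HomShH7.FullFaith
import Groth.Agent.Lib.FormalModH7.CplBridge

/-!
# The theorem on formal functions for sections over the preimage of an affine open
-/

set_option autoImplicit false
set_option linter.style.haveILetI false
set_option linter.unusedSectionVars false
set_option backward.isDefEq.respectTransparency false
set_option backward.isDefEq.respectTransparency.types false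
set_option maxHeartbeats 1000000
set_option synthInstance.maxHeartbeats 400000
universe u

open CategoryTheory CategoryTheory.Limits AlgebraicGeometry Opposite TopologicalSpace

noncomputable section

namespace Groth.Agent.ProperFormalH7

open CohFound FormalModH7

section Global

variable {A : Type u} [CommRing A] [IsNoetherianRing A] {X : Scheme.{u}} [X.Over (Spec (CommRingCat.of A))]
  [IsProper (X ↘ Spec (CommRingCat.of A))] (I : Ideal A) (M : X.Modules)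

attribute [local instance] FormalH7.secMod

theorem hh0_toHHmodPow (n : ℕ) (x : Coh.HH X M 0) :
    CurveCoh17.hh0 (Formal.modPow I (n + 1) M) (Formal.toHHmodPow I M 0 n x) =
      (Formal.modPowπ I (n + 1) M).app ⊤ (CurveCoh17.hh0 M x) :=
  CurveCoh17.hh0_hmap A (Formal.modPowπ I (n + 1) M) x

theorem hh0_HHmodPowTrans (n : ℕ) (x : Formal.HHmodPow I M 0 (n + 1)) :
    CurveCoh17.hh0 (Formal.modPow I (n + 1) M) (Formal.HHmodPowTrans I M 0 n x) =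
      (Formal.modPowTrans I (n + 1) M).app ⊤ (CurveCoh17.hh0 (Formal.modPow I (n + 1 + 1) M) x) :=
  CurveCoh17.hh0_hmap A (Formal.modPowTrans I (n + 1) M) x

theorem hh0_smulA (a : A) (x : Coh.HH X M 0) : CurveCoh17.hh0 M (a • x) = a • CurveCoh17.hh0 M x := by
  refine (CurveCoh17.hh0_smul (Coh.toGlobal (X ↘ Spec (CommRingCat.of A)) a) x).trans ?_
  congr 1
  show _ = FormalH7.multHom X ⊤ a
  simp [FormalH7.multHom]
  rfl

theorem exists_ker_sec (hM : Coh.IsCoh M) :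
    ∃ c : ℕ, ∀ n, c ≤ n → ∀ s : Γ(M, ⊤), (Formal.modPowπ I (n + 1) M).app ⊤ s = 0 →
      s ∈ I ^ (n + 1 - c) • (⊤ : Submodule A Γ(M, ⊤)) := by
  obtain ⟨c, hc⟩ := FF.exists_R_small I M 0 hM
  refine ⟨c, fun n hn s hs => ?_⟩
  let e : Coh.HH X M 0 ≃ₗ[A] Γ(M, ⊤) := (CurveCoh17.hh0 M).toLinearEquiv fun a x => hh0_smulA M a x
  obtain ⟨x, rfl⟩ := e.surjective s
  have hx : Formal.toHHmodPow I M 0 n x = 0 :=
    (CurveCoh17.hh0 _).injective ((hh0_toHHmodPow I M n x).trans (hs.trans (map_zero _).symm))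
  have h1 : x ∈ (FF.R I M 0 (n + 1) : Set (Coh.HH X M 0)) := (FF.ker_toHHmodPow I M 0 n) ▸ hx
  have h2 := Submodule.mem_map_of_mem (f := e.toLinearMap) (hc (n + 1) (by omega) h1)
  rw [Submodule.map_smul'', Submodule.map_top, LinearEquiv.range] at h2
  exact h2

theorem exists_lift_sec (hM : Coh.IsCoh M) (z : ∀ n, Γ(Formal.modPow I (n + 1) M, ⊤))
    (hz : ∀ n, (Formal.modPowTrans I (n + 1) M).app ⊤ (z (n + 1)) = z n) (k : ℕ) :
    ∃ s : Γ(M, ⊤), (Formal.modPowπ I (k + 1) M).app ⊤ s = z k := by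
  let y : Formal.HHlim I M 0 := ⟨fun n => (CurveCoh17.hh0 _).symm (z n), fun n =>
    (CurveCoh17.hh0 _).injective ((hh0_HHmodPowTrans I M n _).trans (by
      rw [AddEquiv.apply_symm_apply, AddEquiv.apply_symm_apply, hz]))⟩
  obtain ⟨h, hh⟩ := FF.exists_lifts I M 0 hM y
  exact ⟨CurveCoh17.hh0 M (h k), (hh0_toHHmodPow I M k (h k)).symm.trans
    ((congrArg _ (hh k)).trans ((CurveCoh17.hh0 _).apply_symm_apply (z k)))⟩

end Global

section OverAffine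

/-- Submodules generated by an ideal over an open of an open subscheme. -/
theorem mem_smul_restrict {X : Scheme.{u}} (V : X.Opens) (F : X.Modules) (W : (V : Scheme.{u}).Opens)
    (J : Ideal Γ(X, V.ι ''ᵁ W)) (s : Γ(F.restrict V.ι, W)) :
    s ∈ (show Ideal Γ((V : Scheme.{u}), W) from J) • (⊤ : Submodule Γ((V : Scheme.{u}), W) Γ(F.restrict V.ι, W)) ↔
      (F.restrictAppIso V.ι W).hom s ∈ J • (⊤ : Submodule Γ(X, V.ι ''ᵁ W) Γ(F, V.ι ''ᵁ W)) := by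
  let e := (F.restrictAppIso V.ι W).addCommGroupIsoToAddEquiv
  constructor <;> intro hs
  · refine Submodule.smul_induction_on hs (fun r hr m _ => ?_) (fun x y hx hy => ?_)
    · rw [show (F.restrictAppIso V.ι W).hom ((r : Γ((V : Scheme.{u}), W)) • m) = _ from
        M1.restrict_ι_smul F (show Γ(X, V.ι ''ᵁ W) from r) m]
      exact Submodule.smul_mem_smul hr Submodule.mem_top
    · rw [map_add]
      exact add_mem hx hy
  · obtain ⟨t, ht⟩ : ∃ t, t = (F.restrictAppIso V.ι W).hom s := ⟨_, rfl⟩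
    rw [← ht] at hs
    rw [show s = e.symm t from (e.symm_apply_eq.2 ht).symm]
    refine Submodule.smul_induction_on hs (fun r hr m _ => ?_) (fun x y hx hy => ?_)
    · have : e ((show Γ((V : Scheme.{u}), W) from r) • e.symm m) = r • m :=
        (M1.restrict_ι_smul F r (e.symm m)).trans (congrArg (r • ·) (e.apply_symm_apply m))
      rw [e.symm_apply_eq.2 this.symm]
      exact Submodule.smul_mem_smul hr Submodule.mem_top
    · rw [map_add]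
      exact add_mem hx hy

variable {X Y : Scheme.{u}} (f : X ⟶ Y) {U : Y.Opens} (hU : IsAffineOpen U)

/-- The preimage of an affine open over its ring of functions. -/
abbrev overPre : ((f ⁻¹ᵁ U : X.Opens) : Scheme.{u}).Over (Spec (CommRingCat.of Γ(Y, U))) :=
  ⟨f ∣_ U ≫ hU.isoSpec.hom⟩

theorem image_le_preimage (W : (f ⁻¹ᵁ U : X.Opens).toScheme.Opens) : (f ⁻¹ᵁ U).ι ''ᵁ W ≤ f ⁻¹ᵁ U := by
  rintro _ ⟨y, -, rfl⟩
  exact y.2

theorem multHom_overPre (W : (f ⁻¹ᵁ U : X.Opens).toScheme.Opens) :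
    letI := overPre f hU
    FormalH7.multHom (f ⁻¹ᵁ U : X.Opens).toScheme W =
      (f.appLE U ((f ⁻¹ᵁ U).ι ''ᵁ W) (image_le_preimage f W)).hom := by
  letI := overPre f hU
  let X₁ : Scheme.{u} := (f ⁻¹ᵁ U : X.Opens)
  let g : X₁ ⟶ Spec Γ(Y, U) := f ∣_ U ≫ hU.isoSpec.hom
  have hg : g ≫ hU.fromSpec = (f ⁻¹ᵁ U).ι ≫ f := by
    show (f ∣_ U ≫ hU.isoSpec.hom) ≫ hU.isoSpec.inv ≫ U.ι = _
    rw [Category.assoc, Iso.hom_inv_id_assoc, morphismRestrict_ι]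
  have e₁ : W ≤ (g ≫ hU.fromSpec) ⁻¹ᵁ U := fun y _ => by
    rw [hg]
    exact y.2
  have e₂ : W ≤ ((f ⁻¹ᵁ U).ι ≫ f) ⁻¹ᵁ U := fun y _ => y.2
  have h1 : (g ≫ hU.fromSpec).appLE U W e₁ = ((f ⁻¹ᵁ U).ι ≫ f).appLE U W e₂ := by
    congr 1
  have h2 : ((f ⁻¹ᵁ U).ι ≫ f).appLE U W e₂ = f.appLE U ((f ⁻¹ᵁ U).ι ''ᵁ W) (image_le_preimage f W) := by
    rw [Scheme.Hom.comp_appLE, Scheme.Opens.ι_appLE]
    rfl
  have h3 : (g ≫ hU.fromSpec).appLE U W e₁ =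
      (Scheme.ΓSpecIso Γ(Y, U)).inv ≫ g.appLE ⊤ W le_top := by
    rw [Scheme.Hom.comp_appLE, hU.fromSpec_app_self, Category.assoc, Scheme.Hom.map_appLE]
  refine Eq.trans ?_ (congrArg CommRingCat.Hom.hom ((h3.symm.trans h1).trans h2))
  rfl

variable [IsLocallyNoetherian Y] [IsProper f] (𝓘 : Y.IdealSheafData) (𝓚 : X.IdealSheafData) (h𝓚 : 𝓚 = 𝓘.comap f)
  (hX : (FSch.completionAlong X 𝓚).IsFormal) (F : X.Modules)

/-- The restriction of a module over the preimage. -/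
abbrev resPre (U : Y.Opens) : ((f ⁻¹ᵁ U : X.Opens) : Scheme.{u}).Modules := F.restrict (f ⁻¹ᵁ U).ι

include h𝓚 in
theorem app_π_eq_zero_iff_resC [IsLocallyNoetherian X] (hF : Coh.IsCoh F)
    {W : (f ⁻¹ᵁ U : X.Opens).toScheme.Opens} (hW : IsAffineOpen W)
    (s : Γ(F, (f ⁻¹ᵁ U).ι ''ᵁ W)) (n : ℕ) :
    letI := overPre f hU
    (Formal.modPowπ (𝓘.ideal ⟨U, hU⟩) (n + 1) (resPre f F U)).app W s = 0 ↔
      resC 𝓚 hX F n ((f ⁻¹ᵁ U).ι ''ᵁ W) s = 0 := by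
  letI := overPre f hU
  haveI := hF.1
  have hW' : IsAffineOpen ((f ⁻¹ᵁ U).ι ''ᵁ W) := hW.image_of_isOpenImmersion _
  have hi : 𝓚.ideal ⟨_, hW'⟩ = HomShH7.idl (𝓘.ideal ⟨U, hU⟩) W := by
    subst h𝓚
    rw [EffCartier.comap_ideal 𝓘 f ⟨U, hU⟩ ⟨_, hW'⟩ (image_le_preimage f W)]
    show _ = Ideal.map (FormalH7.multHom (f ⁻¹ᵁ U : X.Opens).toScheme W) _
    rw [multHom_overPre]
  rw [HomShH7.app_modPowπ_eq_zero_iff (𝓘.ideal ⟨U, hU⟩) (M1.isQCoh_restrict hF.1 _) (n + 1) hW,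
    resC_eq_zero_iff 𝓚 hX F hW', hi]
  exact mem_smul_restrict (f ⁻¹ᵁ U) F W _ s

include h𝓚 in
theorem app_π_eq_zero_of_resC [IsLocallyNoetherian X] (hF : Coh.IsCoh F)
    (W : (f ⁻¹ᵁ U : X.Opens).toScheme.Opens) (s : Γ(F, (f ⁻¹ᵁ U).ι ''ᵁ W)) (n : ℕ)
    (hs : resC 𝓚 hX F n ((f ⁻¹ᵁ U).ι ''ᵁ W) s = 0) :
    letI := overPre f hU
    (Formal.modPowπ (𝓘.ideal ⟨U, hU⟩) (n + 1) (resPre f F U)).app W s = 0 := by
  letI := overPre f hU
  refine M1.section_ext _ _ fun x hx => ?_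
  obtain ⟨W', hW', hxW', hle⟩ := exists_isAffineOpen_mem_and_subset (x := x) (U := W) hx
  rw [← M1.germ_mres _ hle hxW', map_zero, ← M1.app_mres]
  refine (congrArg (Scheme.Modules.presheaf _ |>.germ W' x hxW') ?_).trans (map_zero _)
  refine (app_π_eq_zero_iff_resC f hU 𝓘 𝓚 h𝓚 hX F hF hW' _ n).2 ?_
  refine (mres_resC 𝓚 hX F n ((f ⁻¹ᵁ U).ι.image_mono hle) s).symm.trans ?_
  rw [hs, map_zero]

attribute [local instance] FormalH7.secMod in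
/-- Global sections over the preimage transported to sections of the direct image. -/
theorem toPush_mem_smul (n : ℕ) (J : Ideal Γ(Y, U)) :
    letI := overPre f hU
    ∀ s₁ : Γ(resPre f F U, ⊤), s₁ ∈ J ^ n • (⊤ : Submodule Γ(Y, U) Γ(resPre f F U, ⊤)) →
      (show Γ((Scheme.Modules.pushforward f).obj F, U) from
          M1.mres F (M1.image_ι_top (f ⁻¹ᵁ U)).ge ((F.restrictAppIso (f ⁻¹ᵁ U).ι ⊤).hom s₁)) ∈
        J ^ n • (⊤ : Submodule Γ(Y, U) Γ((Scheme.Modules.pushforward f).obj F, U)) := by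
  letI := overPre f hU
  intro s₁ hs₁
  refine Submodule.smul_induction_on hs₁ (fun a ha m _ => ?_) (fun x y hx hy => ?_)
  · have e : M1.mres F (M1.image_ι_top (f ⁻¹ᵁ U)).ge ((F.restrictAppIso (f ⁻¹ᵁ U).ι ⊤).hom (a • m)) =
        (f.app U a) • M1.mres F (M1.image_ι_top (f ⁻¹ᵁ U)).ge ((F.restrictAppIso (f ⁻¹ᵁ U).ι ⊤).hom m) := by
      have e1 : (F.restrictAppIso (f ⁻¹ᵁ U).ι ⊤).hom (a • m) =
          (f.appLE U ((f ⁻¹ᵁ U).ι ''ᵁ ⊤) (image_le_preimage f ⊤)) a • (F.restrictAppIso (f ⁻¹ᵁ U).ι ⊤).hom m := by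
        refine Eq.trans ?_ (M1.restrict_ι_smul F _ m)
        exact congrArg (fun r : Γ(((f ⁻¹ᵁ U : X.Opens) : Scheme.{u}), ⊤) =>
          (F.restrictAppIso (f ⁻¹ᵁ U).ι ⊤).hom (r • m)) (RingHom.congr_fun (multHom_overPre f hU ⊤) a)
      rw [e1, M1.mres_smul]
      congr 1
      show (f.appLE U _ _ ≫ X.presheaf.map _).hom a = _
      rw [Scheme.Hom.appLE_map, Scheme.Hom.app_eq_appLE]
    exact (congrArg (fun t => t ∈ J ^ n • (⊤ : Submodule Γ(Y, U) Γ((Scheme.Modules.pushforward f).obj F, U))) e).mpr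
      (Submodule.smul_mem_smul (M := (Γ((Scheme.Modules.pushforward f).obj F, U) : Type u)) ha Submodule.mem_top)
  · rw [map_add, map_add]
    exact add_mem hx hy

include h𝓚 in
/-- Sections over the preimage which vanish deep enough are adically small. -/
theorem exists_ker_preimage [IsLocallyNoetherian X] (hF : Coh.IsCoh F) (k : ℕ) :
    ∃ m, ∀ s : Γ(F, f ⁻¹ᵁ U), resC 𝓚 hX F m (f ⁻¹ᵁ U) s = 0 →
      (show Γ((Scheme.Modules.pushforward f).obj F, U) from s) ∈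
        𝓘.ideal ⟨U, hU⟩ ^ (k + 1) • (⊤ : Submodule Γ(Y, U) Γ((Scheme.Modules.pushforward f).obj F, U)) := by
  letI := overPre f hU
  haveI : IsNoetherianRing Γ(Y, U) := IsLocallyNoetherian.component_noetherian ⟨U, hU⟩
  haveI : IsProper ((f ⁻¹ᵁ U : X.Opens).toScheme ↘ Spec (CommRingCat.of Γ(Y, U))) :=
    inferInstanceAs (IsProper (f ∣_ U ≫ hU.isoSpec.hom))
  obtain ⟨c, hc⟩ := exists_ker_sec (𝓘.ideal ⟨U, hU⟩) (resPre f F U)
    ⟨M1.isQCoh_restrict hF.1 _, M1.isFT_restrict hF.2 _⟩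
  refine ⟨k + c, fun s hs => ?_⟩
  let s₁ : Γ(resPre f F U, ⊤) := (F.restrictAppIso (f ⁻¹ᵁ U).ι ⊤).inv (M1.mres F (M1.image_ι_top (f ⁻¹ᵁ U)).le s)
  have hs₁ : (F.restrictAppIso (f ⁻¹ᵁ U).ι ⊤).hom s₁ = M1.mres F (M1.image_ι_top (f ⁻¹ᵁ U)).le s :=
    Iso.inv_hom_id_apply (F.restrictAppIso (f ⁻¹ᵁ U).ι ⊤) _
  have h0 := app_π_eq_zero_of_resC f hU 𝓘 𝓚 h𝓚 hX F hF ⊤ (M1.mres F (M1.image_ι_top (f ⁻¹ᵁ U)).le s) (k + c) (by
    rw [← mres_resC 𝓚 hX F (k + c) (M1.image_ι_top (f ⁻¹ᵁ U)).le, hs, map_zero])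
  have h1 := toPush_mem_smul f hU F (k + 1) (𝓘.ideal ⟨U, hU⟩) s₁ (by
    have := hc (k + c) (Nat.le_add_left c k) s₁ h0
    rwa [show k + c + 1 - c = k + 1 by omega] at this)
  rw [hs₁, M1.mres_mres, M1.mres_id] at h1
  exact h1

/-- Sections agreeing near every point on affine opens are equal. -/
theorem ext_affine {Z : Scheme.{u}} (M : Z.Modules) {V : Z.Opens} (s t : Γ(M, V))
    (H : ∀ x ∈ V, ∃ (W : Z.Opens) (e : W ≤ V), x ∈ W ∧ M1.mres M e s = M1.mres M e t) : s = t :=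
  M1.section_ext s t fun x hx => by
    obtain ⟨W, e, hxW, he⟩ := H x hx
    rw [← M1.germ_mres M e hxW, ← M1.germ_mres M e hxW, he]

/-- The trace over an open of the preimage of a family of sections of the levels. -/
abbrev traceL (y : ∀ n, MV hX (FSch.complMod 𝓚 F) (zO 𝓚 (f ⁻¹ᵁ U)) n) (n : ℕ)
    (W : (f ⁻¹ᵁ U : X.Opens).toScheme.Opens) :
    MV hX (FSch.complMod 𝓚 F) (zO 𝓚 ((f ⁻¹ᵁ U).ι ''ᵁ W)) n :=
  M1.mres ((FSch.complMod 𝓚 F).F n) (lvU_mono hX (zO_mono 𝓚 (image_le_preimage f W)) n) (y n)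

theorem traceL_mres (y : ∀ n, MV hX (FSch.complMod 𝓚 F) (zO 𝓚 (f ⁻¹ᵁ U)) n) (n : ℕ)
    {W W' : (f ⁻¹ᵁ U : X.Opens).toScheme.Opens} (e : W' ≤ W) :
    M1.mres ((FSch.complMod 𝓚 F).F n) (lvU_mono hX (zO_mono 𝓚 ((f ⁻¹ᵁ U).ι.image_mono e)) n)
      (traceL f 𝓚 hX F y n W) = traceL f 𝓚 hX F y n W' :=
  M1.mres_mres _ _ _ _

theorem trM_mres (n : ℕ) {V V' : ((FSch.completionAlong X 𝓚).X 0).Opens} (e : V' ≤ V)
    (x : MV hX (FSch.complMod 𝓚 F) V (n + 1)) :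
    trM hX (FSch.complMod 𝓚 F) V' n (M1.mres ((FSch.complMod 𝓚 F).F (n + 1)) (lvU_mono hX e (n + 1)) x) =
      M1.mres ((FSch.complMod 𝓚 F).F n) (lvU_mono hX e n) (trM hX (FSch.complMod 𝓚 F) V n x) := by
  rw [← levelSys_app, ← levelSys_app]
  exact PresheafOfModules.naturality_apply
    (((FSch.levelSysOf (FSch.completionAlong X 𝓚) hX (FSch.complMod 𝓚 F).F (FSch.complMod 𝓚 F).toPush).map
      (homOfLE (Nat.le_add_right n 1)).op)).val (homOfLE e).op x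

theorem resC_step_trace (n : ℕ) {V V' : X.Opens} (e : V' ≤ V)
    (a : MV hX (FSch.complMod 𝓚 F) (zO 𝓚 V) (n + 1)) (b : MV hX (FSch.complMod 𝓚 F) (zO 𝓚 V) n)
    (hab : trM hX (FSch.complMod 𝓚 F) (zO 𝓚 V) n a = b) (t : Γ(F, V'))
    (ht : resC 𝓚 hX F (n + 1) V' t =
      M1.mres ((FSch.complMod 𝓚 F).F (n + 1)) (lvU_mono hX (zO_mono 𝓚 e) (n + 1)) a) :
    resC 𝓚 hX F n V' t = M1.mres ((FSch.complMod 𝓚 F).F n) (lvU_mono hX (zO_mono 𝓚 e) n) b := by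
  subst hab
  refine (trM_resC 𝓚 hX F n V' t).symm.trans
    ((congrArg (fun q => trM hX (FSch.complMod 𝓚 F) (zO 𝓚 V') n q) ht).trans ?_)
  exact trM_mres 𝓚 hX F n (zO_mono 𝓚 e) a

theorem app_modPowπ_trans' {A : Type u} [CommRing A] {Z : Scheme.{u}} [Z.Over (Spec (CommRingCat.of A))]
    (I : Ideal A) (M : Z.Modules) (n : ℕ) (W : Z.Opens) (t : Γ(M, W)) :
    (Formal.modPowTrans I n M).app W ((Formal.modPowπ I (n + 1) M).app W t) = (Formal.modPowπ I n M).app W t :=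
  congrArg (fun q => q.app W t) (Formal.modPowπ_trans I n M)

include h𝓚 in
theorem app_π_congr_resC [IsLocallyNoetherian X] (hF : Coh.IsCoh F) (n : ℕ)
    (W : (f ⁻¹ᵁ U : X.Opens).toScheme.Opens) (a b : Γ(F, (f ⁻¹ᵁ U).ι ''ᵁ W))
    (hab : resC 𝓚 hX F n _ a = resC 𝓚 hX F n _ b) :
    letI := overPre f hU
    (Formal.modPowπ (𝓘.ideal ⟨U, hU⟩) (n + 1) (resPre f F U)).app W (a : Γ(resPre f F U, W)) =
      (Formal.modPowπ (𝓘.ideal ⟨U, hU⟩) (n + 1) (resPre f F U)).app W (b : Γ(resPre f F U, W)) := by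
  letI := overPre f hU
  refine sub_eq_zero.1 ((map_sub ((Formal.modPowπ (𝓘.ideal ⟨U, hU⟩) (n + 1) (resPre f F U)).app W).hom
    (a : Γ(resPre f F U, W)) (b : Γ(resPre f F U, W))).symm.trans ?_)
  exact app_π_eq_zero_of_resC f hU 𝓘 𝓚 h𝓚 hX F hF W (a - b) n (by rw [map_sub, hab, sub_self])

include h𝓚 in
/-- A family of level sections glues to a section of the quotient by a power. -/
theorem exists_glue_modPow [IsLocallyNoetherian X] (hF : Coh.IsCoh F)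
    (y : ∀ n, MV hX (FSch.complMod 𝓚 F) (zO 𝓚 (f ⁻¹ᵁ U)) n) (n : ℕ) :
    letI := overPre f hU
    ∃ z : Γ(Formal.modPow (𝓘.ideal ⟨U, hU⟩) (n + 1) (resPre f F U), ⊤),
      ∀ (W : (f ⁻¹ᵁ U : X.Opens).toScheme.Opens) (a : Γ(F, (f ⁻¹ᵁ U).ι ''ᵁ W)),
        resC 𝓚 hX F n _ a = traceL f 𝓚 hX F y n W →
          M1.mres _ le_top z = (Formal.modPowπ (𝓘.ideal ⟨U, hU⟩) (n + 1) (resPre f F U)).app W
            (a : Γ(resPre f F U, W)) := by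
  letI := overPre f hU
  haveI := hF.1
  have hW : ∀ W : (f ⁻¹ᵁ U : X.Opens).toScheme.affineOpens, ∃ t : Γ(F, (f ⁻¹ᵁ U).ι ''ᵁ W.1),
      resC 𝓚 hX F n _ t = traceL f 𝓚 hX F y n W.1 := fun W =>
    resC_surjective 𝓚 hX F (W.2.image_of_isOpenImmersion _) n _
  choose t ht using hW
  obtain ⟨z, hz, -⟩ := TopCat.Sheaf.existsUnique_gluing'
    ⟨(Formal.modPow (𝓘.ideal ⟨U, hU⟩) (n + 1) (resPre f F U)).presheaf,
      (Formal.modPow (𝓘.ideal ⟨U, hU⟩) (n + 1) (resPre f F U)).isSheaf⟩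
    (fun W : (f ⁻¹ᵁ U : X.Opens).toScheme.affineOpens => W.1) ⊤ (fun W => homOfLE le_top)
    (iSup_affineOpens_eq_top _).ge
    (fun W => (Formal.modPowπ (𝓘.ideal ⟨U, hU⟩) (n + 1) (resPre f F U)).app W.1 (t W : Γ(resPre f F U, W.1)))
    fun W W' => by
      change M1.mres _ inf_le_left _ = M1.mres _ inf_le_right _
      rw [← M1.app_mres, ← M1.app_mres]
      refine app_π_congr_resC f hU 𝓘 𝓚 h𝓚 hX F hF n _
        (M1.mres F ((f ⁻¹ᵁ U).ι.image_mono inf_le_left) (t W))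
        (M1.mres F ((f ⁻¹ᵁ U).ι.image_mono inf_le_right) (t W')) ?_
      rw [← mres_resC 𝓚 hX F n ((f ⁻¹ᵁ U).ι.image_mono inf_le_left),
        ← mres_resC 𝓚 hX F n ((f ⁻¹ᵁ U).ι.image_mono inf_le_right), ht, ht]
      exact (traceL_mres f 𝓚 hX F y n inf_le_left).trans (traceL_mres f 𝓚 hX F y n inf_le_right).symm
  refine ⟨z, fun W a ha => M1.section_ext _ _ fun x hx => ?_⟩
  obtain ⟨W', hW', hxW', hle⟩ := exists_isAffineOpen_mem_and_subset (x := x) (U := W) hx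
  rw [← M1.germ_mres _ hle hxW', ← M1.germ_mres _ hle hxW', M1.mres_mres, ← M1.app_mres]
  refine congrArg _ ((hz ⟨W', hW'⟩).trans (app_π_congr_resC f hU 𝓘 𝓚 h𝓚 hX F hF n W' (t ⟨W', hW'⟩)
    (M1.mres F ((f ⁻¹ᵁ U).ι.image_mono hle) a) ?_))
  refine (ht ⟨W', hW'⟩).trans ?_
  rw [← mres_resC 𝓚 hX F n ((f ⁻¹ᵁ U).ι.image_mono hle), ha]
  exact (traceL_mres f 𝓚 hX F y n hle).symm

/-- The glued sections are compatible. -/
theorem compat_glue [IsLocallyNoetherian X] (hF : Coh.IsCoh F)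
    (y : ∀ n, MV hX (FSch.complMod 𝓚 F) (zO 𝓚 (f ⁻¹ᵁ U)) n)
    (hy : ∀ n, trM hX (FSch.complMod 𝓚 F) (zO 𝓚 (f ⁻¹ᵁ U)) n (y (n + 1)) = y n) (n : ℕ) :
    letI := overPre f hU
    ∀ (z : ∀ n, Γ(Formal.modPow (𝓘.ideal ⟨U, hU⟩) (n + 1) (resPre f F U), ⊤)),
      (∀ m (W : (f ⁻¹ᵁ U : X.Opens).toScheme.Opens) (a : Γ(F, (f ⁻¹ᵁ U).ι ''ᵁ W)),
        resC 𝓚 hX F m _ a = traceL f 𝓚 hX F y m W →
          M1.mres _ le_top (z m) = (Formal.modPowπ (𝓘.ideal ⟨U, hU⟩) (m + 1) (resPre f F U)).app W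
            (a : Γ(resPre f F U, W))) →
        (Formal.modPowTrans (𝓘.ideal ⟨U, hU⟩) (n + 1) (resPre f F U)).app ⊤ (z (n + 1)) = z n := by
  letI := overPre f hU
  haveI := hF.1
  intro z hz
  refine ext_affine _ _ _ fun x hx => ?_
  obtain ⟨W, hW, hxW, hle⟩ := exists_isAffineOpen_mem_and_subset (x := x)
    (U := (⊤ : (f ⁻¹ᵁ U : X.Opens).toScheme.Opens)) hx
  refine ⟨W, le_top, hxW, ?_⟩
  rw [← M1.app_mres]
  obtain ⟨t, ht⟩ := resC_surjective 𝓚 hX F (hW.image_of_isOpenImmersion (f ⁻¹ᵁ U).ι) (n + 1)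
    (traceL f 𝓚 hX F y (n + 1) W)
  have ha := resC_step_trace 𝓚 hX F n (V := f ⁻¹ᵁ U) (image_le_preimage f W) (y (n + 1)) (y n) (hy n) t ht
  rw [hz (n + 1) W t ht, hz n W t ha]
  exact app_modPowπ_trans' (𝓘.ideal ⟨U, hU⟩) (resPre f F U) (n + 1) W _

include h𝓚 in
/-- A lift of a glued section induces the level section. -/
theorem resC_eq_of_lift [IsLocallyNoetherian X] (hF : Coh.IsCoh F)
    (y : ∀ n, MV hX (FSch.complMod 𝓚 F) (zO 𝓚 (f ⁻¹ᵁ U)) n) (k : ℕ) :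
    letI := overPre f hU
    ∀ (z : Γ(Formal.modPow (𝓘.ideal ⟨U, hU⟩) (k + 1) (resPre f F U), ⊤)),
      (∀ (W : (f ⁻¹ᵁ U : X.Opens).toScheme.Opens) (a : Γ(F, (f ⁻¹ᵁ U).ι ''ᵁ W)),
        resC 𝓚 hX F k _ a = traceL f 𝓚 hX F y k W →
          M1.mres _ le_top z = (Formal.modPowπ (𝓘.ideal ⟨U, hU⟩) (k + 1) (resPre f F U)).app W
            (a : Γ(resPre f F U, W))) →
      ∀ s₁ : Γ(resPre f F U, ⊤), (Formal.modPowπ (𝓘.ideal ⟨U, hU⟩) (k + 1) (resPre f F U)).app ⊤ s₁ = z →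
        resC 𝓚 hX F k (f ⁻¹ᵁ U)
          (M1.mres F (M1.image_ι_top (f ⁻¹ᵁ U)).ge ((F.restrictAppIso (f ⁻¹ᵁ U).ι ⊤).hom s₁)) = y k := by
  letI := overPre f hU
  haveI := hF.1
  intro z hz s₁ hs₁
  refine M1.section_ext _ _ fun x hx => ?_
  have hxV : FSch.completionToX X 𝓚 k x ∈ f ⁻¹ᵁ U := (lvU_zO 𝓚 hX k (f ⁻¹ᵁ U)).ge hx
  obtain ⟨W, hW, hxW, hle⟩ := exists_isAffineOpen_mem_and_subset (x := (⟨_, hxV⟩ : (f ⁻¹ᵁ U : X.Opens)))
    (U := (⊤ : (f ⁻¹ᵁ U : X.Opens).toScheme.Opens)) trivial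
  have hxW' : x ∈ (FSch.completionAlong X 𝓚).lvU hX k (zO 𝓚 ((f ⁻¹ᵁ U).ι ''ᵁ W)) :=
    (lvU_zO 𝓚 hX k ((f ⁻¹ᵁ U).ι ''ᵁ W)).le ⟨_, hxW, rfl⟩
  rw [← M1.germ_mres _ (lvU_mono hX (zO_mono 𝓚 (image_le_preimage f W)) k) hxW',
    ← M1.germ_mres _ (lvU_mono hX (zO_mono 𝓚 (image_le_preimage f W)) k) hxW',
    mres_resC 𝓚 hX F k (image_le_preimage f W), M1.mres_mres]
  refine congrArg _ ?_
  show resC 𝓚 hX F k ((f ⁻¹ᵁ U).ι ''ᵁ W) _ = traceL f 𝓚 hX F y k W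
  obtain ⟨t, ht⟩ := resC_surjective 𝓚 hX F (hW.image_of_isOpenImmersion (f ⁻¹ᵁ U).ι) k (traceL f 𝓚 hX F y k W)
  rw [← sub_eq_zero, ← ht, ← map_sub]
  refine (app_π_eq_zero_iff_resC f hU 𝓘 𝓚 h𝓚 hX F hF hW _ k).1 ?_
  refine (map_sub ((Formal.modPowπ (𝓘.ideal ⟨U, hU⟩) (k + 1) (resPre f F U)).app W).hom _ _).trans (sub_eq_zero.2 ?_)
  refine Eq.trans ?_ ((congrArg (M1.mres _ (le_top : W ≤ ⊤)) hs₁).trans (hz W _ ht))
  exact M1.app_mres (Formal.modPowπ (𝓘.ideal ⟨U, hU⟩) (k + 1) (resPre f F U)) le_top s₁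

theorem eq_of_trM_step (y : ∀ n, MV hX (FSch.complMod 𝓚 F) (zO 𝓚 (f ⁻¹ᵁ U)) n)
    (hy : ∀ n, trM hX (FSch.complMod 𝓚 F) (zO 𝓚 (f ⁻¹ᵁ U)) n (y (n + 1)) = y n)
    (s : Γ(F, f ⁻¹ᵁ U)) {k i : ℕ} (hi : i ≤ k) (hk : resC 𝓚 hX F k (f ⁻¹ᵁ U) s = y k) :
    resC 𝓚 hX F i (f ⁻¹ᵁ U) s = y i := by
  induction k, hi using Nat.le_induction with
  | base => exact hk
  | succ k _ ih => exact ih (by rw [← trM_resC, hk, hy])

include h𝓚 hU in
/-- Compatible sections of the levels come from sections over the preimage. -/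
theorem exists_lift_preimage [IsLocallyNoetherian X] (hF : Coh.IsCoh F)
    (y : ∀ n, MV hX (FSch.complMod 𝓚 F) (zO 𝓚 (f ⁻¹ᵁ U)) n)
    (hy : ∀ n, trM hX (FSch.complMod 𝓚 F) (zO 𝓚 (f ⁻¹ᵁ U)) n (y (n + 1)) = y n) (k : ℕ) :
    ∃ s : Γ(F, f ⁻¹ᵁ U), ∀ i ≤ k, resC 𝓚 hX F i (f ⁻¹ᵁ U) s = y i := by
  letI := overPre f hU
  haveI : IsNoetherianRing Γ(Y, U) := IsLocallyNoetherian.component_noetherian ⟨U, hU⟩
  haveI : IsProper ((f ⁻¹ᵁ U : X.Opens).toScheme ↘ Spec (CommRingCat.of Γ(Y, U))) :=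
    inferInstanceAs (IsProper (f ∣_ U ≫ hU.isoSpec.hom))
  choose z hz using exists_glue_modPow f hU 𝓘 𝓚 h𝓚 hX F hF y
  obtain ⟨s₁, hs₁⟩ := exists_lift_sec (𝓘.ideal ⟨U, hU⟩) (resPre f F U)
    ⟨M1.isQCoh_restrict hF.1 _, M1.isFT_restrict hF.2 _⟩ z
    (fun n => compat_glue f hU 𝓘 𝓚 hX F hF y hy n z hz) k
  exact ⟨_, fun i hi => eq_of_trM_step f 𝓚 hX F y hy _ hi
    (resC_eq_of_lift f hU 𝓘 𝓚 h𝓚 hX F hF y k (z k) (hz k) s₁ hs₁)⟩

end OverAffine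

end Groth.Agent.ProperFormalH7
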