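import Groth.Prelude.Def_FSch6
set_option maxHeartbeats 400000
set_option autoImplicit false
set_option backward.isDefEq.respectTransparency false
set_option backward.isDefEq.respectTransparency.types false
/-!
# Sections of base change maps of ringed sites
-/

set_option linter.style.haveILetI false

universe u
open CategoryTheory Opposite
namespace Groth.Agent.ProperFormalH7
open ModSite
variable {A : Type u} [SmallCategory A] {JA : GrothendieckTopology A}
  {B : Type u} [SmallCategory B] {JB : GrothendieckTopology B}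
  {C : Type u} [SmallCategory C] {JC : GrothendieckTopology C}
  {D : Type u} [SmallCategory D] {JD : GrothendieckTopology D}
  {OA : Sheaf JA CommRingCat.{u}} {OB : Sheaf JB CommRingCat.{u}}
  {OC : Sheaf JC CommRingCat.{u}} {OD : Sheaf JD CommRingCat.{u}}
  {a : RMor OA OB} {b : RMor OB OD} {c : RMor OA OC} {d : RMor OC OD}
  {e : b.fn ⋙ a.fn ≅ d.fn ⋙ c.fn}

theorem pushforwardCongr₂_app_apply {C' : Type u} [SmallCategory C'] {D' : Type u} [SmallCategory D']
    {J : GrothendieckTopology C'} {K : GrothendieckTopology D'} {F G : C' ⥤ D'}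
    {T : Sheaf J RingCat.{u}} {S : Sheaf K RingCat.{u}}
    [Functor.IsContinuous F J K] [Functor.IsContinuous G J K]
    (φ : T ⟶ (G.sheafPushforwardContinuous RingCat.{u} J K).obj S)
    {ψ : T ⟶ (F.sheafPushforwardContinuous RingCat J K).obj S} (e : F ≅ G)
    (he : φ ≫ (Functor.sheafPushforwardContinuousNatTrans e.hom _ _ _).app S = ψ)
    (M : SheafOfModules.{u} S) (U : C') (x : ((SheafOfModules.pushforward.{u} φ).obj M).val.obj (op U)) :
    ((SheafOfModules.pushforwardCongr₂ φ e he).hom.app M).val.app (op U) x = M.val.map (e.hom.app U).op x := by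
  rw [SheafOfModules.pushforwardCongr₂, Iso.trans_hom, NatTrans.comp_app, SheafOfModules.comp_val,
    PresheafOfModules.comp_app, SheafOfModules.pushforwardNatIso_hom]
  erw [SheafOfModules.pushforwardCongr_hom_app_val_app]
  rfl

open SheafOfModules in
theorem threeIso_app_apply {OA' : Sheaf JA RingCat.{u}} {OB' : Sheaf JB RingCat.{u}} {OC' : Sheaf JC RingCat.{u}}
    {OD' : Sheaf JD RingCat.{u}} {Fb : D ⥤ B} {Fa : B ⥤ A} {Fd : D ⥤ C} {Fc : C ⥤ A}
    [Fb.IsContinuous JD JB] [Fa.IsContinuous JB JA] [Fd.IsContinuous JD JC] [Fc.IsContinuous JC JA]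
    [(Fb ⋙ Fa).IsContinuous JD JA] [(Fd ⋙ Fc).IsContinuous JD JA]
    (φb : OD' ⟶ (Fb.sheafPushforwardContinuous RingCat.{u} JD JB).obj OB')
    (φa : OB' ⟶ (Fa.sheafPushforwardContinuous RingCat.{u} JB JA).obj OA')
    (φd : OD' ⟶ (Fd.sheafPushforwardContinuous RingCat.{u} JD JC).obj OC')
    (φc : OC' ⟶ (Fc.sheafPushforwardContinuous RingCat.{u} JC JA).obj OA')
    (ε : Fd ⋙ Fc ≅ Fb ⋙ Fa) (he : (φb ≫ (Fb.sheafPushforwardContinuous RingCat.{u} JD JB).map φa) ≫
      (Functor.sheafPushforwardContinuousNatTrans (F := Fd ⋙ Fc) (F' := Fb ⋙ Fa) ε.hom RingCat.{u} JD JA).app OA' =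
        φd ≫ (Fd.sheafPushforwardContinuous RingCat.{u} JD JC).map φc) (M : SheafOfModules.{u} OA') (U : D)
    (x : ((pushforward φa ⋙ pushforward φb).obj M).val.obj (op U)) :
    ((pushforwardComp φb φa ≪≫ pushforwardCongr₂ (F := Fd ⋙ Fc) (G := Fb ⋙ Fa) (S := OA') (φb ≫ (Fb.sheafPushforwardContinuous RingCat.{u} JD JB).map φa) ε he ≪≫
      (pushforwardComp φd φc).symm).hom.app M).val.app (op U) x = M.val.map (ε.hom.app U).op x := by
  rw [Iso.trans_hom, Iso.trans_hom, NatTrans.comp_app, NatTrans.comp_app, SheafOfModules.comp_val, SheafOfModules.comp_val,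
    PresheafOfModules.comp_app, PresheafOfModules.comp_app]
  exact pushforwardCongr₂_app_apply _ ε he M U x

theorem pushSq_app_apply (h : RMor.SharpSq a b c d e) (M : Mod OA) (U : D)
    (x : ((a.push ⋙ b.push).obj M).val.obj (op U)) :
    ((RMor.pushSq h).hom.app M).val.app (op U) x = M.val.map (e.inv.app U).op x := by
  unfold RMor.pushSq
  haveI := Functor.isContinuous_comp b.fn a.fn JD JB JA
  haveI := Functor.isContinuous_comp d.fn c.fn JD JC JA
  exact threeIso_app_apply b.sharpR a.sharpR d.sharpR c.sharpR e.symm _ M U x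

theorem bcMap_unit_app (h : RMor.SharpSq a b c d e) (M : Mod OB) (U : D)
    (s : (b.push.obj M).val.obj (op U)) :
    (RMor.bcMap h M).val.app (op (d.fn.obj U)) ((d.adj.unit.app (b.push.obj M)).val.app (op U) s) =
      (a.pull.obj M).val.map (e.inv.app U).op ((a.adj.unit.app M).val.app (op (b.fn.obj U)) s) := by
  have h1 := RMor.bcMap_transpose h M
  rw [Adjunction.homEquiv_unit] at h1
  have h2 := congrArg (fun q => q.val.app (op U) s) h1
  simp only [SheafOfModules.comp_val, PresheafOfModules.comp_app, ModuleCat.comp_apply] at h2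
  refine Eq.trans ?_ (h2.trans ((pushSq_app_apply h (a.pull.obj M) U _).trans ?_))
  · rfl
  · rfl

end Groth.Agent.ProperFormalH7
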