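import Groth.Agent.Lib.ProperFormalH7.BcCrit
import Groth.Agent.Lib.ProperFormalH7.FFZero
import Groth.Agent.Lib.ProperFormalH7.PushSqApp
import Groth.Agent.Lib.CohFound.RpushCoh
import Groth.Prelude.Def_FSch6

/-!
# The completion commutes with the direct image by a proper morphism
-/

set_option autoImplicit false
set_option linter.style.haveILetI false
set_option linter.unusedSectionVars false
set_option backward.isDefEq.respectTransparency false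
set_option backward.isDefEq.respectTransparency.types false
set_option maxHeartbeats 1000000
set_option synthInstance.maxHeartbeats 400000
set_option synthInstance.maxSize 1024
universe u

open CategoryTheory CategoryTheory.Limits AlgebraicGeometry Opposite TopologicalSpace

noncomputable section

namespace Groth.Agent.ProperFormalH7

open FormalModH7

/-- Direct images of coherent modules by proper morphisms are coherent. -/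
theorem isCoh_pushforward_of_isProper {X Y : Scheme.{u}} (f : X ⟶ Y) [IsProper f] [IsLocallyNoetherian Y]
    {F : X.Modules} (hF : Coh.IsCoh F) : Coh.IsCoh ((Scheme.Modules.pushforward f).obj F) := by
  haveI : (Scheme.Modules.pushforward f).IsRightAdjoint :=
    (Scheme.Modules.pullbackPushforwardAdjunction f).isRightAdjoint
  haveI : PreservesFiniteLimits (Scheme.Modules.pushforward f) := inferInstance
  exact CohFound.isCoh_of_iso ((Functor.rightDerivedZeroIsoSelf _).app F) (CohFound.isCoh_rpush f hF 0)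

variable {X Y : Scheme.{u}} (f : X ⟶ Y) (𝓘 : Y.IdealSheafData) (𝓚 : X.IdealSheafData)
  (hpc : FSch.PowCompat f 𝓚 𝓘) (hX : (FSch.completionAlong X 𝓚).IsFormal)
  (hY : (FSch.completionAlong Y 𝓘).IsFormal) (F : X.Modules)

/-- The inverse image in the completion of an open of the base. -/
abbrev preU (U : Y.Opens) : ((FSch.completionAlong X 𝓚).X 0).Opens :=
  ((FSch.completionMap f 𝓚 𝓘 hpc : FSch.Hom _ _).app 0) ⁻¹ᵁ zO 𝓘 U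

theorem zO_preimage_eq (U : Y.Opens) : zO 𝓚 (f ⁻¹ᵁ U) = preU f 𝓘 𝓚 hpc U :=
  FSch.sch_sq_preimage (FSch.completionMap f 𝓚 𝓘 hpc) f (FSch.completionToX X 𝓚) (FSch.completionToX Y 𝓘)
    (FSch.completionMap_sq f 𝓚 𝓘 hpc) U

/-- The projection to a level of the sections of the direct image. -/
def piG (U : Y.Opens) (k : ℕ) :
    ModSite.sect ((FSch.pushF (FSch.completionMap f 𝓚 𝓘 hpc) hX hY).obj (Fh 𝓚 hX F)) (zO 𝓘 U) →+
      MV hX (FSch.complMod 𝓚 F) (zO 𝓚 (f ⁻¹ᵁ U)) k :=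
  AddMonoidHom.mk' (fun y => piM hX (FSch.complMod 𝓚 F) (zO 𝓚 (f ⁻¹ᵁ U)) k
      ((gam 𝓚 hX F).val.app (op (zO 𝓚 (f ⁻¹ᵁ U)))
        (ModFlat16.smap (Fh 𝓚 hX F) (homOfLE (zO_preimage_eq f 𝓘 𝓚 hpc U).le)
          (show ModSite.sect (Fh 𝓚 hX F) (preU f 𝓘 𝓚 hpc U) from y))))
    fun x y => by
      refine Eq.trans ?_ (map_add (piM hX (FSch.complMod 𝓚 F) (zO 𝓚 (f ⁻¹ᵁ U)) k) _ _)
      refine congrArg (piM hX (FSch.complMod 𝓚 F) (zO 𝓚 (f ⁻¹ᵁ U)) k) ?_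
      refine Eq.trans ?_ (map_add ((gam 𝓚 hX F).val.app (op (zO 𝓚 (f ⁻¹ᵁ U)))).hom _ _)
      exact congrArg ((gam 𝓚 hX F).val.app (op (zO 𝓚 (f ⁻¹ᵁ U)))).hom (map_add (ModFlat16.smap _ _) _ _)

theorem piG_apply (U : Y.Opens) (k : ℕ)
    (y : ModSite.sect ((FSch.pushF (FSch.completionMap f 𝓚 𝓘 hpc) hX hY).obj (Fh 𝓚 hX F)) (zO 𝓘 U)) :
    piG f 𝓘 𝓚 hpc hX hY F U k y = piM hX (FSch.complMod 𝓚 F) (zO 𝓚 (f ⁻¹ᵁ U)) k
      ((gam 𝓚 hX F).val.app (op (zO 𝓚 (f ⁻¹ᵁ U)))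
        (ModFlat16.smap (Fh 𝓚 hX F) (homOfLE (zO_preimage_eq f 𝓘 𝓚 hpc U).le)
          (show ModSite.sect (Fh 𝓚 hX F) (preU f 𝓘 𝓚 hpc U) from y))) := rfl

theorem trM_piG (U : Y.Opens) (k : ℕ)
    (y : ModSite.sect ((FSch.pushF (FSch.completionMap f 𝓚 𝓘 hpc) hX hY).obj (Fh 𝓚 hX F)) (zO 𝓘 U)) :
    trM hX (FSch.complMod 𝓚 F) (zO 𝓚 (f ⁻¹ᵁ U)) k (piG f 𝓘 𝓚 hpc hX hY F U (k + 1) y) =
      piG f 𝓘 𝓚 hpc hX hY F U k y :=
  (congrArg (fun q => trM hX (FSch.complMod 𝓚 F) (zO 𝓚 (f ⁻¹ᵁ U)) k q) (piG_apply f 𝓘 𝓚 hpc hX hY F U (k + 1) y)).trans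
    ((trM_piM hX (FSch.complMod 𝓚 F) (zO 𝓚 (f ⁻¹ᵁ U)) k _).trans (piG_apply f 𝓘 𝓚 hpc hX hY F U k y).symm)

theorem schBcMap_uS (U : Y.Opens) (s : Γ(F, f ⁻¹ᵁ U)) :
    (show ModSite.sect (Fh 𝓚 hX F) (preU f 𝓘 𝓚 hpc U) from
      (FSch.schBcMap (FSch.completionMap f 𝓚 𝓘 hpc) hX hY f (FSch.completionToX X 𝓚) (FSch.completionToX_comm X 𝓚)
        (FSch.completionToX Y 𝓘) (FSch.completionToX_comm Y 𝓘) (FSch.completionMap_sq f 𝓚 𝓘 hpc) F).val.app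
          (op (zO 𝓘 U)) (uS 𝓘 hY ((Scheme.Modules.pushforward f).obj F) U s)) =
      ModFlat16.smap (Fh 𝓚 hX F) (homOfLE (zO_preimage_eq f 𝓘 𝓚 hpc U).ge) (uS 𝓚 hX F (f ⁻¹ᵁ U) s) := by
  refine (bcMap_unit_app (FSch.schSharp_sq (FSch.completionMap f 𝓚 𝓘 hpc) hX hY f
    (FSch.completionToX X 𝓚) (FSch.completionToX_comm X 𝓚) (FSch.completionToX Y 𝓘) (FSch.completionToX_comm Y 𝓘)
    (FSch.completionMap_sq f 𝓚 𝓘 hpc)) F U s).trans ?_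
  exact congrArg (fun i : preU f 𝓘 𝓚 hpc U ⟶ zO 𝓚 (f ⁻¹ᵁ U) => ModFlat16.smap (Fh 𝓚 hX F) i (uS 𝓚 hX F (f ⁻¹ᵁ U) s))
    (Subsingleton.elim _ _)

theorem piG_smul (U : Y.Opens) (k : ℕ) (a : AV (FSch.completionAlong Y 𝓘) hY (zO 𝓘 U))
    (ha : prj (FSch.completionAlong Y 𝓘) hY (zO 𝓘 U) k a = 0)
    (y : ModSite.sect ((FSch.pushF (FSch.completionMap f 𝓚 𝓘 hpc) hX hY).obj (Fh 𝓚 hX F)) (zO 𝓘 U)) :
    piG f 𝓘 𝓚 hpc hX hY F U k (a • y) = 0 := by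
  let a' : AV (FSch.completionAlong X 𝓚) hX (preU f 𝓘 𝓚 hpc U) :=
    (FSch.Hom.sharp (FSch.completionMap f 𝓚 𝓘 hpc) hX hY).hom.app (op (zO 𝓘 U)) a
  have ha' : prj (FSch.completionAlong X 𝓚) hX (preU f 𝓘 𝓚 hpc U) k a' = 0 := by
    refine (congrArg (fun t => t.hom.app (op (zO 𝓘 U)) a)
      (FSch.Hom.sharp_proj (FSch.completionMap f 𝓚 𝓘 hpc) hX hY k)).trans ?_
    exact (congrArg ((FSch.Hom.levelPush (FSch.completionMap f 𝓚 𝓘 hpc) hX hY k).hom.app (op (zO 𝓘 U))).hom ha).trans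
      (map_zero _)
  show piM hX (FSch.complMod 𝓚 F) (zO 𝓚 (f ⁻¹ᵁ U)) k
      ((gam 𝓚 hX F).val.app (op (zO 𝓚 (f ⁻¹ᵁ U)))
        (ModFlat16.smap (Fh 𝓚 hX F) (homOfLE (zO_preimage_eq f 𝓘 𝓚 hpc U).le)
          (a' • (show ModSite.sect (Fh 𝓚 hX F) (preU f 𝓘 𝓚 hpc U) from y)))) = 0
  rw [ModFlat16.smap_smul]
  refine (congrArg (piM hX (FSch.complMod 𝓚 F) (zO 𝓚 (f ⁻¹ᵁ U)) k)
    (((gam 𝓚 hX F).val.app (op (zO 𝓚 (f ⁻¹ᵁ U)))).hom.map_smul _ _)).trans ?_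
  refine (piM_smul hX (FSch.complMod 𝓚 F) k _ _).trans ?_
  rw [show prj (FSch.completionAlong X 𝓚) hX (zO 𝓚 (f ⁻¹ᵁ U)) k
      (ModFlat16.rmap ((FSch.completionAlong X 𝓚).Osh hX) (homOfLE (zO_preimage_eq f 𝓘 𝓚 hpc U).le) a') =
      rL hX (zO_preimage_eq f 𝓘 𝓚 hpc U).le k (prj (FSch.completionAlong X 𝓚) hX (preU f 𝓘 𝓚 hpc U) k a') from
    prj_rA hX (zO_preimage_eq f 𝓘 𝓚 hpc U).le k a', ha', map_zero, zero_smul]

/-- The base change map for the completion of a proper morphism is an isomorphism. -/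
theorem isIso_schBcMap_completionMap [IsLocallyNoetherian Y] [IsProper f] (h𝓚 : 𝓚 = 𝓘.comap f) (hF : Coh.IsCoh F) :
    IsIso (FSch.schBcMap (FSch.completionMap f 𝓚 𝓘 hpc) hX hY f
      (FSch.completionToX X 𝓚) (FSch.completionToX_comm X 𝓚)
      (FSch.completionToX Y 𝓘) (FSch.completionToX_comm Y 𝓘)
      (FSch.completionMap_sq f 𝓚 𝓘 hpc) F) := by
  haveI : IsLocallyNoetherian X := LocallyOfFiniteType.isLocallyNoetherian f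
  have hN : Coh.IsCoh ((Scheme.Modules.pushforward f).obj F) := isCoh_pushforward_of_isProper f hF
  haveI : Coh.IsQCoh ((Scheme.Modules.pushforward f).obj F) := hN.1
  refine isIso_of_bijective_zO 𝓘 hY ((Scheme.Modules.pushforward f).obj F) hN _ fun U hU => ?_
  set c := FSch.schBcMap (FSch.completionMap f 𝓚 𝓘 hpc) hX hY f
      (FSch.completionToX X 𝓚) (FSch.completionToX_comm X 𝓚)
      (FSch.completionToX Y 𝓘) (FSch.completionToX_comm Y 𝓘)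
      (FSch.completionMap_sq f 𝓚 𝓘 hpc) F with hc
  have hψ : ∀ (k : ℕ) (s : Γ(F, f ⁻¹ᵁ U)), piG f 𝓘 𝓚 hpc hX hY F U k
      (c.val.app (op (zO 𝓘 U)) (uS 𝓘 hY ((Scheme.Modules.pushforward f).obj F) U s)) =
        resC 𝓚 hX F k (f ⁻¹ᵁ U) s := fun k s => by
    show piM hX (FSch.complMod 𝓚 F) (zO 𝓚 (f ⁻¹ᵁ U)) k
      ((gam 𝓚 hX F).val.app (op (zO 𝓚 (f ⁻¹ᵁ U)))
        (ModFlat16.smap (Fh 𝓚 hX F) (homOfLE (zO_preimage_eq f 𝓘 𝓚 hpc U).le) _)) = _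
    rw [hc, schBcMap_uS f 𝓘 𝓚 hpc hX hY F U s, ← ModFlat16.smap_comp,
      Subsingleton.elim (homOfLE (zO_preimage_eq f 𝓘 𝓚 hpc U).le ≫ homOfLE (zO_preimage_eq f 𝓘 𝓚 hpc U).ge)
        (𝟙 (zO 𝓚 (f ⁻¹ᵁ U))), ModFlat16.smap_id]
    exact (congrArg (piM hX (FSch.complMod 𝓚 F) (zO 𝓚 (f ⁻¹ᵁ U)) k) (gam_unit 𝓚 hX F (f ⁻¹ᵁ U) s)).trans
      (piM_cplSec 𝓚 hX F (f ⁻¹ᵁ U) s k)
  refine bijective_app_of_levels 𝓘 hY ((Scheme.Modules.pushforward f).obj F) hN c hU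
    (piG f 𝓘 𝓚 hpc hX hY F U) (fun y hy => ?_) (fun k x hx => ?_) (fun k => ?_) (fun y k => ?_)
  · have h0 := (bijective_gam_app 𝓚 hX F hF (zO 𝓚 (f ⁻¹ᵁ U))).1
      ((piM_ext hX _ _ hy).trans (map_zero ((gam 𝓚 hX F).val.app (op (zO 𝓚 (f ⁻¹ᵁ U)))).hom).symm)
    show (show ModSite.sect (Fh 𝓚 hX F) (preU f 𝓘 𝓚 hpc U) from y) = 0
    rw [← ModFlat16.smap_id (F := Fh 𝓚 hX F) (show ModSite.sect (Fh 𝓚 hX F) (preU f 𝓘 𝓚 hpc U) from y),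
      Subsingleton.elim (𝟙 (preU f 𝓘 𝓚 hpc U))
        (homOfLE (zO_preimage_eq f 𝓘 𝓚 hpc U).ge ≫ homOfLE (zO_preimage_eq f 𝓘 𝓚 hpc U).le),
      ModFlat16.smap_comp, h0, map_zero]
  · have hx' := (mem_pow_iff_piM 𝓘 hY ((Scheme.Modules.pushforward f).obj F) hN hU k x).2 hx
    refine Submodule.smul_induction_on hx' (fun a ha m _ => ?_) (fun a b ha hb => ?_)
    · refine (congrArg (piG f 𝓘 𝓚 hpc hX hY F U k) ((c.val.app (op (zO 𝓘 U))).hom.map_smul a m)).trans ?_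
      refine piG_smul f 𝓘 𝓚 hpc hX hY F U k a ?_ _
      rw [← RingHom.mem_ker, (structure_AV (hN := hC 𝓘 hY) (isAffineOpen_zO 𝓘 hU)).2.2 k]
      exact ha
    · rw [map_add, map_add, ha, hb, add_zero]
  · obtain ⟨m, hm⟩ := exists_ker_preimage f hU 𝓘 𝓚 h𝓚 hX F hF k
    exact ⟨m, fun s hs => (resC_eq_zero_iff 𝓘 hY _ hU k s).2 (hm s ((hψ m s).symm.trans hs))⟩
  · obtain ⟨Y', hY'⟩ : ∃ Y' : ∀ n, MV hX (FSch.complMod 𝓚 F) (zO 𝓚 (f ⁻¹ᵁ U)) n,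
        ∀ n, Y' n = piG f 𝓘 𝓚 hpc hX hY F U n y := ⟨_, fun _ => rfl⟩
    have hy' : ∀ n, trM hX (FSch.complMod 𝓚 F) (zO 𝓚 (f ⁻¹ᵁ U)) n (Y' (n + 1)) = Y' n := fun n =>
      (congrArg (fun q => trM hX (FSch.complMod 𝓚 F) (zO 𝓚 (f ⁻¹ᵁ U)) n q) (hY' (n + 1))).trans
        ((trM_piG f 𝓘 𝓚 hpc hX hY F U n y).trans (hY' n).symm)
    obtain ⟨s, hs⟩ := exists_lift_preimage f hU 𝓘 𝓚 h𝓚 hX F hF Y' hy' k
    exact ⟨s, fun i hi => (hψ i s).trans ((hs i hi).trans (hY' i))⟩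

end Groth.Agent.ProperFormalH7
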