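import Groth.Agent.Lib.SiteRlim16.Instances
import Groth.Agent.Lib.ModFlat16.LocFT
import Mathlib.CategoryTheory.Abelian.Injective.Basic
import Mathlib.Algebra.Homology.DerivedCategory.Ext.ExactSequences
import Mathlib.Algebra.Homology.DerivedCategory.Ext.EnoughInjectives
import Mathlib.Algebra.Exact.Basic

/-!
# Classes of cohomology as modules over the sections of the structure sheaf
-/

set_option autoImplicit false
set_option linter.style.haveILetI false
set_option linter.unusedSectionVars false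
set_option backward.isDefEq.respectTransparency false
set_option backward.isDefEq.respectTransparency.types false
universe u

open CategoryTheory CategoryTheory.Limits Opposite

noncomputable section

namespace Groth.Agent.ProperFormalH7

open SiteRlim ModFlat16

variable {C : Type u} [SmallCategory C] {J : GrothendieckTopology C} (O : Sheaf J CommRingCat.{u})
  [HasExt.{u} (ModSite.Mod O)]

/-- Sections are morphisms out of `j_! O_U`. -/
abbrev ev (U : C) {M : ModSite.Mod O} : (ModSite.freeOn O U ⟶ M) ≃ ModSite.sect M U := freeOnHom O U M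

theorem ev_comp {U : C} {M N : ModSite.Mod O} (φ : ModSite.freeOn O U ⟶ M) (f : M ⟶ N) :
    ev O U (φ ≫ f) = f.val.app (op U) (ev O U φ) := freeOnHom_comp O φ f

theorem ev_add {U : C} {M : ModSite.Mod O} (φ ψ : ModSite.freeOn O U ⟶ M) :
    ev O U (φ + ψ) = ev O U φ + ev O U ψ := by
  conv_lhs => rw [← Category.id_comp (φ + ψ), ev_comp]
  conv_rhs => rw [← Category.id_comp φ, ← Category.id_comp ψ, ev_comp, ev_comp]
  rfl

/-- Multiplication by a section of the structure sheaf on `j_! O_U`. -/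
def smF (U : C) (a : O.obj.obj (op U)) : ModSite.freeOn O U ⟶ ModSite.freeOn O U :=
  (ev O U).symm (a • ev O U (𝟙 (ModSite.freeOn O U)))

theorem ev_smF_comp {U : C} (a : O.obj.obj (op U)) {M : ModSite.Mod O} (φ : ModSite.freeOn O U ⟶ M) :
    ev O U (smF O U a ≫ φ) = a • ev O U φ := by
  rw [ev_comp, smF, Equiv.apply_symm_apply]
  refine ((φ.val.app (op U)).hom.map_smul a _).trans ?_
  exact congrArg (a • ·) ((ev_comp O (𝟙 _) φ).symm.trans (congrArg _ (Category.id_comp φ)))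

theorem ev_smF {U : C} (a : O.obj.obj (op U)) :
    ev O U (smF O U a) = a • ev O U (𝟙 (ModSite.freeOn O U)) := Equiv.apply_symm_apply _ _

theorem smF_one (U : C) : smF O U 1 = 𝟙 _ := (ev O U).injective (by rw [ev_smF, one_smul])

theorem smF_mul {U : C} (a b : O.obj.obj (op U)) : smF O U (a * b) = smF O U a ≫ smF O U b :=
  (ev O U).injective (by rw [ev_smF, ev_smF_comp, ev_smF, mul_smul])

theorem smF_add {U : C} (a b : O.obj.obj (op U)) : smF O U (a + b) = smF O U a + smF O U b :=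
  (ev O U).injective (by rw [ev_smF, ev_add, ev_smF, ev_smF, add_smul])

theorem smF_zero (U : C) : smF O U 0 = 0 := by
  have h := smF_add O (0 : O.obj.obj (op U)) 0
  rwa [add_zero, eq_comm, add_eq_left] at h

theorem ev_gen_comp {V U : C} (l : V ⟶ U) {M : ModSite.Mod O} (φ : ModSite.freeOn O U ⟶ M) :
    ev O V ((genMod O).map l ≫ φ) = smap M l (ev O U φ) := freeOnHom_pre O l M φ

theorem gen_smF {V U : C} (l : V ⟶ U) (a : O.obj.obj (op U)) :
    (genMod O).map l ≫ smF O U a = smF O V (rmap O l a) ≫ (genMod O).map l :=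
  (ev O V).injective (by
    rw [ev_gen_comp, ev_smF, ev_smF_comp, smap_smul]
    refine congrArg (_ • ·) ?_
    exact (ev_gen_comp O l (𝟙 _)).symm.trans (congrArg _ (Category.comp_id _)))

/-- Classes of degree `n` on `U`. -/
def XC (U : C) (M : ModSite.Mod O) (n : ℕ) : Type u := Abelian.Ext.{u} (ModSite.freeOn O U) M n

namespace XC

variable {O}

instance (U : C) (M : ModSite.Mod O) (n : ℕ) : AddCommGroup (XC O U M n) :=
  inferInstanceAs (AddCommGroup (Abelian.Ext.{u} (ModSite.freeOn O U) M n))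

open Abelian.Ext in
instance (U : C) (M : ModSite.Mod O) (n : ℕ) : Module (O.obj.obj (op U)) (XC O U M n) where
  smul a ξ := (mk₀ (smF O U a)).comp ξ (zero_add n)
  one_smul ξ := by
    change (mk₀ (smF O U 1)).comp ξ (zero_add n) = ξ
    rw [smF_one, mk₀_id_comp]
  mul_smul a b ξ := by
    change (mk₀ (smF O U (a * b))).comp ξ (zero_add n) =
      (mk₀ (smF O U a)).comp ((mk₀ (smF O U b)).comp ξ (zero_add n)) (zero_add n)
    rw [mk₀_comp_mk₀_assoc, smF_mul]
  smul_zero a := comp_zero _ _ _ _ _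
  smul_add a ξ η := comp_add _ _ _ _
  add_smul a b ξ := by
    change (mk₀ (smF O U (a + b))).comp ξ (zero_add n) = _
    rw [smF_add, mk₀_add, add_comp]
    rfl
  zero_smul ξ := by
    change (mk₀ (smF O U 0)).comp ξ (zero_add n) = 0
    rw [smF_zero, mk₀_zero, Abelian.Ext.zero_comp]

theorem smul_def {U : C} {M : ModSite.Mod O} {n : ℕ} (a : O.obj.obj (op U)) (ξ : XC O U M n) :
    a • ξ = (Abelian.Ext.mk₀ (smF O U a)).comp ξ (zero_add n) := rfl

variable {U V : C} {M N : ModSite.Mod O} {n : ℕ}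

/-- Restriction of classes. -/
def res (l : V ⟶ U) : XC O U M n →+ XC O V M n where
  toFun ξ := (Abelian.Ext.mk₀ ((genMod O).map l)).comp ξ (zero_add n)
  map_zero' := Abelian.Ext.comp_zero _ _ _ _ _
  map_add' _ _ := Abelian.Ext.comp_add _ _ _ _

theorem res_smul (l : V ⟶ U) (a : O.obj.obj (op U)) (ξ : XC O U M n) :
    res l (a • ξ) = rmap O l a • res l ξ := by
  change (Abelian.Ext.mk₀ ((genMod O).map l)).comp ((Abelian.Ext.mk₀ (smF O U a)).comp ξ (zero_add n)) (zero_add n) =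
    (Abelian.Ext.mk₀ (smF O V (rmap O l a))).comp
      ((Abelian.Ext.mk₀ ((genMod O).map l)).comp ξ (zero_add n)) (zero_add n)
  rw [Abelian.Ext.mk₀_comp_mk₀_assoc, Abelian.Ext.mk₀_comp_mk₀_assoc, gen_smF]

theorem res_res {W : C} (k : W ⟶ V) (l : V ⟶ U) (ξ : XC O U M n) : res k (res l ξ) = res (k ≫ l) ξ := by
  change (Abelian.Ext.mk₀ ((genMod O).map k)).comp ((Abelian.Ext.mk₀ ((genMod O).map l)).comp ξ (zero_add n))
    (zero_add n) = (Abelian.Ext.mk₀ ((genMod O).map (k ≫ l))).comp ξ (zero_add n)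
  rw [Abelian.Ext.mk₀_comp_mk₀_assoc, Functor.map_comp]

theorem res_id (ξ : XC O U M n) : res (𝟙 U) ξ = ξ := by
  change (Abelian.Ext.mk₀ ((genMod O).map (𝟙 U))).comp ξ (zero_add n) = ξ
  rw [CategoryTheory.Functor.map_id]
  exact Abelian.Ext.mk₀_id_comp ξ

/-- Functoriality in the coefficients. -/
def post (f : M ⟶ N) : XC O U M n →ₗ[O.obj.obj (op U)] XC O U N n where
  toFun ξ := Abelian.Ext.comp ξ (Abelian.Ext.mk₀ f) (add_zero n)
  map_add' ξ η := Abelian.Ext.add_comp _ _ _ _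
  map_smul' a ξ := by
    rw [RingHom.id_apply, smul_def, smul_def]
    exact Abelian.Ext.comp_assoc _ _ _ (zero_add n) (add_zero n) (by omega)

theorem res_post (l : V ⟶ U) (f : M ⟶ N) (ξ : XC O U M n) : res l (post f ξ) = post f (res l ξ) :=
  (Abelian.Ext.comp_assoc _ _ _ (zero_add n) (add_zero n) (by omega)).symm

theorem post_post {P : ModSite.Mod O} (f : M ⟶ N) (g : N ⟶ P) (ξ : XC O U M n) :
    post g (post f ξ) = post (f ≫ g) ξ := by
  change (Abelian.Ext.comp ξ (Abelian.Ext.mk₀ f) (add_zero n)).comp (Abelian.Ext.mk₀ g) (add_zero n) = _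
  rw [Abelian.Ext.comp_assoc _ _ _ (add_zero n) (add_zero 0) (by omega), Abelian.Ext.mk₀_comp_mk₀]
  rfl

variable {S : ShortComplex (ModSite.Mod O)} (hS : S.ShortExact)

/-- The connecting maps. -/
def delta (n : ℕ) : XC O U S.X₃ n →ₗ[O.obj.obj (op U)] XC O U S.X₁ (n + 1) where
  toFun ξ := Abelian.Ext.comp ξ hS.extClass rfl
  map_add' ξ η := Abelian.Ext.add_comp _ _ _ _
  map_smul' a ξ := by
    rw [RingHom.id_apply, smul_def, smul_def]
    exact Abelian.Ext.comp_assoc _ _ _ (zero_add n) rfl (by omega)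

theorem res_delta (l : V ⟶ U) (ξ : XC O U S.X₃ n) : res l (delta hS n ξ) = delta hS n (res l ξ) :=
  (Abelian.Ext.comp_assoc _ _ _ (zero_add n) rfl (by omega)).symm

include hS in
theorem exact_post (U : C) (n : ℕ) : Function.Exact (post (U := U) (n := n) S.f) (post (U := U) (n := n) S.g) :=
  (ShortComplex.ab_exact_iff_function_exact _).1 (Abelian.Ext.covariant_sequence_exact₂' (ModSite.freeOn O U) hS n)

theorem exact_delta (U : C) (n : ℕ) : Function.Exact (post (U := U) (n := n) S.g) (delta (U := U) hS n) :=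
  (ShortComplex.ab_exact_iff_function_exact _).1
    (Abelian.Ext.covariant_sequence_exact₃' (ModSite.freeOn O U) hS n (n + 1) rfl)

theorem exact_delta' (U : C) (n : ℕ) :
    Function.Exact (delta (U := U) hS n) (post (U := U) (n := n + 1) S.f) :=
  (ShortComplex.ab_exact_iff_function_exact _).1
    (Abelian.Ext.covariant_sequence_exact₁' (ModSite.freeOn O U) hS n (n + 1) rfl)

include hS in
theorem injective_post_zero (U : C) : Function.Injective (post (U := U) (n := 0) S.f) := by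
  intro x y h
  obtain ⟨φ, rfl⟩ := (Abelian.Ext.mk₀_bijective _ _).2 x
  obtain ⟨ψ, rfl⟩ := (Abelian.Ext.mk₀_bijective _ _).2 y
  change Abelian.Ext.comp (Abelian.Ext.mk₀ φ) (Abelian.Ext.mk₀ S.f) (add_zero 0) =
    Abelian.Ext.comp (Abelian.Ext.mk₀ ψ) (Abelian.Ext.mk₀ S.f) (add_zero 0) at h
  rw [Abelian.Ext.mk₀_comp_mk₀, Abelian.Ext.mk₀_comp_mk₀] at h
  haveI := hS.mono_f
  rw [cancel_mono S.f |>.1 ((Abelian.Ext.mk₀_bijective _ _).1 h)]

theorem eq_zero_of_injective {I : ModSite.Mod O} [Injective I] (ξ : XC O U I (n + 1)) : ξ = 0 :=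
  Abelian.Ext.eq_zero_of_injective _

/-- Classes of degree zero are sections. -/
def sect₀ (U : C) (M : ModSite.Mod O) : XC O U M 0 ≃ₗ[O.obj.obj (op U)] ModSite.sect M U where
  toFun ξ := ev O U (Abelian.Ext.addEquiv₀ ξ)
  invFun s := Abelian.Ext.addEquiv₀.symm ((ev O U).symm s)
  left_inv ξ := by
    show Abelian.Ext.addEquiv₀.symm ((ev O U).symm (ev O U (Abelian.Ext.addEquiv₀ ξ))) = ξ
    rw [Equiv.symm_apply_apply]
    exact AddEquiv.symm_apply_apply _ _
  right_inv s := by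
    show ev O U (Abelian.Ext.addEquiv₀ (Abelian.Ext.addEquiv₀.symm ((ev O U).symm s))) = s
    rw [AddEquiv.apply_symm_apply, Equiv.apply_symm_apply]
  map_add' ξ η := by
    rw [← ev_add]
    exact congrArg _ (map_add (Abelian.Ext.addEquiv₀ (X := ModSite.freeOn O U) (Y := M)) ξ η)
  map_smul' a ξ := by
    obtain ⟨φ, rfl⟩ := (Abelian.Ext.mk₀_bijective _ _).2 ξ
    rw [RingHom.id_apply, smul_def, Abelian.Ext.mk₀_comp_mk₀]
    have e : ∀ ψ : ModSite.freeOn O U ⟶ M, Abelian.Ext.addEquiv₀ (Abelian.Ext.mk₀ ψ) = ψ := fun ψ =>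
      (Abelian.Ext.mk₀_bijective _ _).1 (Abelian.Ext.mk₀_addEquiv₀_apply _)
    rw [e, e, ev_smF_comp]

theorem addEquiv₀_mk₀ (φ : ModSite.freeOn O U ⟶ M) :
    Abelian.Ext.addEquiv₀ (Abelian.Ext.mk₀ φ) = φ :=
  (Abelian.Ext.mk₀_bijective _ _).1 (Abelian.Ext.mk₀_addEquiv₀_apply _)

theorem sect₀_res (l : V ⟶ U) (ξ : XC O U M 0) : sect₀ V M (res l ξ) = smap M l (sect₀ U M ξ) := by
  obtain ⟨φ, rfl⟩ := (Abelian.Ext.mk₀_bijective _ _).2 ξ
  change ev O V (Abelian.Ext.addEquiv₀ ((Abelian.Ext.mk₀ ((genMod O).map l)).comp (Abelian.Ext.mk₀ φ) (zero_add 0))) =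
    smap M l (ev O U (Abelian.Ext.addEquiv₀ (Abelian.Ext.mk₀ φ)))
  rw [Abelian.Ext.mk₀_comp_mk₀, addEquiv₀_mk₀, addEquiv₀_mk₀, ev_gen_comp]

theorem sect₀_post (f : M ⟶ N) (ξ : XC O U M 0) : sect₀ U N (post f ξ) = f.val.app (op U) (sect₀ U M ξ) := by
  obtain ⟨φ, rfl⟩ := (Abelian.Ext.mk₀_bijective _ _).2 ξ
  change ev O U (Abelian.Ext.addEquiv₀ (Abelian.Ext.comp (Abelian.Ext.mk₀ φ) (Abelian.Ext.mk₀ f) (add_zero 0))) =
    f.val.app (op U) (ev O U (Abelian.Ext.addEquiv₀ (Abelian.Ext.mk₀ φ)))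
  rw [Abelian.Ext.mk₀_comp_mk₀, addEquiv₀_mk₀, addEquiv₀_mk₀, ev_comp]

end XC

/-- A natural endomorphism of the identity acts on classes alike on both sides. -/
theorem comp_mk₀_endo [EnoughInjectives (ModSite.Mod O)] (τ : 𝟭 (ModSite.Mod O) ⟶ 𝟭 (ModSite.Mod O))
    (X : ModSite.Mod O) : ∀ (n : ℕ) (M : ModSite.Mod O) (ξ : Abelian.Ext.{u} X M n),
      ξ.comp (Abelian.Ext.mk₀ (τ.app M)) (add_zero n) = (Abelian.Ext.mk₀ (τ.app X)).comp ξ (zero_add n) := by
  intro n
  induction n with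
  | zero =>
    intro M ξ
    obtain ⟨φ, rfl⟩ := (Abelian.Ext.mk₀_bijective _ _).2 ξ
    rw [Abelian.Ext.mk₀_comp_mk₀, Abelian.Ext.mk₀_comp_mk₀]
    exact congrArg _ (τ.naturality φ)
  | succ n ih =>
    intro M ξ
    have hS : (ShortComplex.mk (Injective.ι M) (cokernel.π _) (cokernel.condition _)).ShortExact :=
      { exact := ShortComplex.exact_of_g_is_cokernel _ (cokernelIsCokernel _) }
    obtain ⟨η, rfl⟩ := Abelian.Ext.covariant_sequence_exact₁ X hS ξ (Abelian.Ext.eq_zero_of_injective _) rfl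
    have h1 := ShortComplex.ShortExact.extClass_naturality hS hS
      (ShortComplex.homMk (τ.app M) (τ.app _) (τ.app _) (τ.naturality _).symm (τ.naturality _).symm)
    rw [Abelian.Ext.comp_assoc _ _ _ rfl (add_zero 1) (by omega)]
    simp only [ShortComplex.homMk_τ₁, ShortComplex.homMk_τ₃] at h1
    dsimp at h1 ⊢
    rw [h1, ← Abelian.Ext.comp_assoc _ _ _ (add_zero n) (zero_add 1) (by omega), ih,
      Abelian.Ext.comp_assoc _ _ _ (zero_add n) rfl (by omega)]

end Groth.Agent.ProperFormalH7
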