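import Groth.Agent.Lib.ProperFormalH7.Nak
import Mathlib.RingTheory.Flat.Basic
import Mathlib.RingTheory.TensorProduct.Basic
import Mathlib.LinearAlgebra.TensorProduct.Tower
import Mathlib.RingTheory.TensorProduct.Finite

/-!
# Base change maps of semilinear maps
-/

set_option autoImplicit false
set_option linter.unusedSectionVars false
set_option linter.style.haveILetI false
universe u

open TensorProduct

noncomputable section

namespace Groth.Agent.ProperFormalH7

variable {A B : Type u} [CommRing A] [CommRing B] [Algebra A B] {M N M' N' : Type u} [AddCommGroup M] [Module A M]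
  [AddCommGroup N] [Module B N] [AddCommGroup M'] [Module A M'] [AddCommGroup N'] [Module B N']

/-- The base change of a semilinear map. -/
def bcLift (φ : M →+ N) (hφ : ∀ (a : A) (x : M), φ (a • x) = algebraMap A B a • φ x) : B ⊗[A] M →ₗ[B] N :=
  letI : Module A N := Module.compHom N (algebraMap A B)
  haveI : IsScalarTower A B N := ⟨fun a b y => by rw [Algebra.smul_def, mul_smul]; rfl⟩
  LinearMap.liftBaseChange B ({ toFun := φ, map_add' := map_add φ, map_smul' := hφ } : M →ₗ[A] N)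

theorem bcLift_tmul (φ : M →+ N) (hφ : ∀ (a : A) (x : M), φ (a • x) = algebraMap A B a • φ x) (b : B) (x : M) :
    bcLift φ hφ (b ⊗ₜ[A] x) = b • φ x := rfl

theorem bcLift_baseChange (φ : M →+ N) (hφ : ∀ (a : A) (x : M), φ (a • x) = algebraMap A B a • φ x)
    (φ' : M' →+ N') (hφ' : ∀ (a : A) (x : M'), φ' (a • x) = algebraMap A B a • φ' x)
    (p : M →ₗ[A] M') (q : N →ₗ[B] N') (h : ∀ x, q (φ x) = φ' (p x)) (z : B ⊗[A] M) :
    bcLift φ' hφ' (p.baseChange B z) = q (bcLift φ hφ z) := by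
  induction z using TensorProduct.induction_on with
  | zero => simp
  | tmul b x => rw [LinearMap.baseChange_tmul, bcLift_tmul, bcLift_tmul, map_smul, h]
  | add z w hz hw => rw [map_add, map_add, map_add, map_add, hz, hw]

theorem exact_baseChange [Module.Flat A B] {P : Type u} [AddCommGroup P] [Module A P] {p : M →ₗ[A] M'}
    {q : M' →ₗ[A] P} (h : Function.Exact p q) : Function.Exact (p.baseChange B) (q.baseChange B) :=
  Module.Flat.lTensor_exact (M := B) h

/-- Generators going to generators, with the relations, give a bijective base change. -/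
theorem bijective_bcLift (φ : M →+ N) (hφ : ∀ (a : A) (x : M), φ (a • x) = algebraMap A B a • φ x)
    {ι κ : Type u} [Fintype ι] [Fintype κ] (s : ι → M) (hs : Submodule.span A (Set.range s) = ⊤)
    (hs' : Submodule.span B (Set.range fun j => φ (s j)) = ⊤) (R : κ → ι → A) (hR : ∀ r, ∑ j, R r j • s j = 0)
    (hrel : ∀ c : ι → B, ∑ j, c j • φ (s j) = 0 →
      c ∈ Submodule.span B (Set.range fun r j => algebraMap A B (R r j))) :
    Function.Bijective (bcLift φ hφ) := by
  have hgen : ∀ z : B ⊗[A] M, ∃ c : ι → B, z = ∑ j, c j ⊗ₜ[A] s j := fun z => by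
    induction z using TensorProduct.induction_on with
    | zero => exact ⟨0, by simp⟩
    | tmul b x =>
      obtain ⟨a, ha⟩ := (Submodule.mem_span_range_iff_exists_fun A).1 (hs ▸ (Submodule.mem_top (x := x)))
      refine ⟨fun j => a j • b, ?_⟩
      rw [← ha, TensorProduct.tmul_sum]
      exact Finset.sum_congr rfl fun j _ => (TensorProduct.smul_tmul _ _ _).symm
    | add z w hz hw =>
      obtain ⟨c, rfl⟩ := hz
      obtain ⟨d, rfl⟩ := hw
      exact ⟨c + d, by simp [TensorProduct.add_tmul, Finset.sum_add_distrib]⟩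
  constructor
  · refine (injective_iff_map_eq_zero _).2 fun z hz => ?_
    obtain ⟨c, rfl⟩ := hgen z
    rw [map_sum] at hz
    simp only [bcLift_tmul] at hz
    obtain ⟨d, hd⟩ := (Submodule.mem_span_range_iff_exists_fun B).1 (hrel c hz)
    calc ∑ j, c j ⊗ₜ[A] s j = ∑ j, ∑ r, d r ⊗ₜ[A] (R r j • s j) := by
          refine Finset.sum_congr rfl fun j _ => ?_
          rw [← congrFun hd j, Finset.sum_apply, TensorProduct.sum_tmul]
          exact Finset.sum_congr rfl fun r _ => by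
            rw [Pi.smul_apply, smul_eq_mul, mul_comm, ← Algebra.smul_def, TensorProduct.smul_tmul]
      _ = ∑ r, d r ⊗ₜ[A] ∑ j, R r j • s j := by
          rw [Finset.sum_comm]
          simp only [TensorProduct.tmul_sum]
      _ = 0 := by simp [hR]
  · rw [← LinearMap.range_eq_top, eq_top_iff, ← hs', Submodule.span_le]
    rintro _ ⟨j, rfl⟩
    exact ⟨(1 : B) ⊗ₜ[A] s j, by rw [bcLift_tmul, one_smul]⟩

end Groth.Agent.ProperFormalH7

namespace Groth.Agent.ProperFormalH7

section Defects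

variable {A B : Type u} [CommRing A] [CommRing B] [Algebra A B] [Module.Flat A B]
  {AS FS HS CS AT FT HT CT : ℕ → Type u}
  [∀ n, AddCommGroup (AS n)] [∀ n, Module A (AS n)] [∀ n, AddCommGroup (FS n)] [∀ n, Module A (FS n)]
  [∀ n, AddCommGroup (HS n)] [∀ n, Module A (HS n)] [∀ n, AddCommGroup (CS n)] [∀ n, Module A (CS n)]
  [∀ n, AddCommGroup (AT n)] [∀ n, Module B (AT n)] [∀ n, AddCommGroup (FT n)] [∀ n, Module B (FT n)]
  [∀ n, AddCommGroup (HT n)] [∀ n, Module B (HT n)] [∀ n, AddCommGroup (CT n)] [∀ n, Module B (CT n)]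
  (i : ∀ n, AS n →ₗ[A] FS n) (α : ∀ n, FS n →ₗ[A] HS n) (δ₁ : ∀ n, HS n →ₗ[A] AS (n + 1))
  (δ₂ : ∀ n, CS n →ₗ[A] HS n) (β : ∀ n, HS n →ₗ[A] FS n) (p : ∀ n, FS n →ₗ[A] CS (n + 1))
  (i' : ∀ n, AT n →ₗ[B] FT n) (α' : ∀ n, FT n →ₗ[B] HT n) (δ₁' : ∀ n, HT n →ₗ[B] AT (n + 1))
  (δ₂' : ∀ n, CT n →ₗ[B] HT n) (β' : ∀ n, HT n →ₗ[B] FT n) (p' : ∀ n, FT n →ₗ[B] CT (n + 1))
  (tA : ∀ n, AS n →+ AT n) (tF : ∀ n, FS n →+ FT n) (tH : ∀ n, HS n →+ HT n) (tC : ∀ n, CS n →+ CT n)
  (sA : ∀ n (a : A) x, tA n (a • x) = algebraMap A B a • tA n x)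
  (sF : ∀ n (a : A) x, tF n (a • x) = algebraMap A B a • tF n x)
  (sH : ∀ n (a : A) x, tH n (a • x) = algebraMap A B a • tH n x)
  (sC : ∀ n (a : A) x, tC n (a • x) = algebraMap A B a • tC n x) (g : A)

include sA sC sH in
/-- Base change of a comparison of exact sequences around a factorisation of `g`. -/
theorem bijective_bc_of_defects
    (ei : ∀ n, Function.Exact (i n) (α n)) (eα : ∀ n, Function.Exact (α n) (δ₁ n))
    (eδ₁ : ∀ n, Function.Exact (δ₁ n) (i (n + 1)))
    (eδ₂ : ∀ n, Function.Exact (δ₂ n) (β n)) (eβ : ∀ n, Function.Exact (β n) (p n))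
    (ep : ∀ n, Function.Exact (p n) (δ₂ (n + 1)))
    (ei' : ∀ n, Function.Exact (i' n) (α' n)) (eα' : ∀ n, Function.Exact (α' n) (δ₁' n))
    (eδ₁' : ∀ n, Function.Exact (δ₁' n) (i' (n + 1)))
    (eδ₂' : ∀ n, Function.Exact (δ₂' n) (β' n)) (eβ' : ∀ n, Function.Exact (β' n) (p' n))
    (ep' : ∀ n, Function.Exact (p' n) (δ₂' (n + 1)))
    (hi : ∀ n x, i' n (tA n x) = tF n (i n x)) (hα : ∀ n x, α' n (tF n x) = tH n (α n x))
    (hδ₁ : ∀ n x, δ₁' n (tH n x) = tA (n + 1) (δ₁ n x)) (hδ₂ : ∀ n x, δ₂' n (tC n x) = tH n (δ₂ n x))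
    (hβ : ∀ n x, β' n (tH n x) = tF n (β n x)) (hp : ∀ n x, p' n (tF n x) = tC (n + 1) (p n x))
    (hg : ∀ n x, β n (α n x) = g • x) (hg' : ∀ n x, β' n (α' n x) = algebraMap A B g • x)
    (hA : ∀ n, Function.Bijective (bcLift (tA n) (sA n))) (hC : ∀ n, Function.Bijective (bcLift (tC n) (sC n)))
    (hjac : algebraMap A B g ∈ Ideal.jacobson (⊥ : Ideal B)) [∀ n, Module.Finite A (FS n)]
    [∀ n, Module.Finite B (FT n)] [IsNoetherianRing B] (n : ℕ) :
    Function.Bijective (bcLift (tF n) (sF n)) :=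
  bijective_of_defects (fun n => (i n).baseChange B) (fun n => (α n).baseChange B) (fun n => (δ₁ n).baseChange B)
    (fun n => (δ₂ n).baseChange B) (fun n => (β n).baseChange B) (fun n => (p n).baseChange B)
    i' α' δ₁' δ₂' β' p' (fun n => bcLift (tA n) (sA n)) (fun n => bcLift (tF n) (sF n))
    (fun n => bcLift (tH n) (sH n)) (fun n => bcLift (tC n) (sC n)) (algebraMap A B g)
    (fun n => exact_baseChange (ei n)) (fun n => exact_baseChange (eα n)) (fun n => exact_baseChange (eδ₁ n))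
    (fun n => exact_baseChange (eδ₂ n)) (fun n => exact_baseChange (eβ n)) (fun n => exact_baseChange (ep n))
    ei' eα' eδ₁' eδ₂' eβ' ep'
    (fun n z => bcLift_baseChange _ (sA n) _ (sF n) (i n) (i' n) (hi n) z)
    (fun n z => bcLift_baseChange _ (sF n) _ (sH n) (α n) (α' n) (hα n) z)
    (fun n z => bcLift_baseChange _ (sH n) _ (sA (n + 1)) (δ₁ n) (δ₁' n) (hδ₁ n) z)
    (fun n z => bcLift_baseChange _ (sC n) _ (sH n) (δ₂ n) (δ₂' n) (hδ₂ n) z)
    (fun n z => bcLift_baseChange _ (sH n) _ (sF n) (β n) (β' n) (hβ n) z)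
    (fun n z => bcLift_baseChange _ (sF n) _ (sC (n + 1)) (p n) (p' n) (hp n) z)
    (fun n z => by
      induction z using TensorProduct.induction_on with
      | zero => simp
      | tmul b x =>
        rw [LinearMap.baseChange_tmul, LinearMap.baseChange_tmul, hg, TensorProduct.tmul_smul]
        exact (algebraMap_smul B g (b ⊗ₜ[A] x)).symm
      | add z w hz hw => rw [map_add, map_add, hz, hw, smul_add])
    hg' hA hC hjac n

end Defects

end Groth.Agent.ProperFormalH7
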