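import Groth.Agent.Lib.ProperFormalH7.Classes
import Groth.Agent.Lib.ProperFormalH7.BaseChange

/-!
# Classes on inverse images as modules over the target
-/

set_option autoImplicit false
set_option linter.style.haveILetI false
set_option linter.unusedSectionVars false
set_option backward.isDefEq.respectTransparency false
set_option backward.isDefEq.respectTransparency.types false
set_option synthInstance.maxHeartbeats 400000
universe u

open CategoryTheory CategoryTheory.Limits Opposite

noncomputable section

namespace Groth.Agent.ProperFormalH7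

attribute [local instance] HasDerivedCategory.standard

variable {C : Type u} [SmallCategory C] {J : GrothendieckTopology C} {O_C : Sheaf J CommRingCat.{u}}
  {D : Type u} [SmallCategory D] {K : GrothendieckTopology D} {O_D : Sheaf K CommRingCat.{u}}
  (f : ModSite.RMor O_C O_D) [HasExt.{u} (ModSite.Mod O_C)]

/-- Classes on the inverse image. -/
def XW (W : D) (M : ModSite.Mod O_C) (n : ℕ) : Type u := XC O_C (f.fn.obj W) M n

instance (W : D) (M : ModSite.Mod O_C) (n : ℕ) : AddCommGroup (XW f W M n) :=
  inferInstanceAs (AddCommGroup (XC O_C (f.fn.obj W) M n))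

instance (W : D) (M : ModSite.Mod O_C) (n : ℕ) : Module (O_D.obj.obj (op W)) (XW f W M n) :=
  Module.compHom (XC O_C (f.fn.obj W) M n) (shp f W)

namespace XW

variable {f} {W W' : D} {M N : ModSite.Mod O_C} {n : ℕ}

/-- The underlying classes. -/
def toXC : XW f W M n ≃+ XC O_C (f.fn.obj W) M n := AddEquiv.refl _

theorem toXC_smul (a : O_D.obj.obj (op W)) (ξ : XW f W M n) : toXC (a • ξ) = shp f W a • toXC ξ := rfl

theorem shp_rmap (l : W' ⟶ W) (a : O_D.obj.obj (op W)) :
    shp f W' (ModFlat16.rmap O_D l a) = ModFlat16.rmap O_C (f.fn.map l) (shp f W a) :=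
  congrArg (fun φ => φ.hom a) (f.sharp.hom.naturality l.op)

/-- Restriction. -/
def res (l : W' ⟶ W) : XW f W M n →+ XW f W' M n := XC.res (f.fn.map l)

theorem res_smul (l : W' ⟶ W) (a : O_D.obj.obj (op W)) (ξ : XW f W M n) :
    res l (a • ξ) = ModFlat16.rmap O_D l a • res l ξ := by
  change XC.res (f.fn.map l) (shp f W a • toXC ξ) = shp f W' (ModFlat16.rmap O_D l a) • XC.res (f.fn.map l) (toXC ξ)
  rw [XC.res_smul, shp_rmap]

/-- Functoriality. -/
def post (g : M ⟶ N) : XW f W M n →ₗ[O_D.obj.obj (op W)] XW f W N n where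
  toFun ξ := XC.post g ξ
  map_add' := map_add (XC.post (U := f.fn.obj W) (n := n) g)
  map_smul' a ξ := (XC.post (U := f.fn.obj W) (n := n) g).map_smul (shp f W a) ξ

theorem res_post (l : W' ⟶ W) (g : M ⟶ N) (ξ : XW f W M n) : res l (post g ξ) = post g (res l ξ) :=
  XC.res_post (f.fn.map l) g ξ

theorem post_post {P : ModSite.Mod O_C} (g : M ⟶ N) (h : N ⟶ P) (ξ : XW f W M n) :
    post h (post g ξ) = post (g ≫ h) ξ := XC.post_post g h ξ

variable {S : ShortComplex (ModSite.Mod O_C)} (hS : S.ShortExact)

/-- The connecting maps. -/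
def delta (n : ℕ) : XW f W S.X₃ n →ₗ[O_D.obj.obj (op W)] XW f W S.X₁ (n + 1) where
  toFun ξ := XC.delta hS n ξ
  map_add' := map_add (XC.delta (U := f.fn.obj W) hS n)
  map_smul' a ξ := (XC.delta (U := f.fn.obj W) hS n).map_smul (shp f W a) ξ

theorem res_delta (l : W' ⟶ W) (ξ : XW f W S.X₃ n) : res l (delta hS n ξ) = delta hS n (res l ξ) :=
  XC.res_delta hS (f.fn.map l) ξ

variable (f W)

include hS in
theorem exact_post (n : ℕ) : Function.Exact (post (f := f) (W := W) (n := n) S.f) (post (f := f) (W := W) (n := n) S.g) :=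
  XC.exact_post hS (f.fn.obj W) n

theorem exact_delta (n : ℕ) : Function.Exact (post (f := f) (W := W) (n := n) S.g) (delta (f := f) (W := W) hS n) :=
  XC.exact_delta hS (f.fn.obj W) n

theorem exact_delta' (n : ℕ) :
    Function.Exact (delta (f := f) (W := W) hS n) (post (f := f) (W := W) (n := n + 1) S.f) :=
  XC.exact_delta' hS (f.fn.obj W) n

include hS in
theorem injective_post_zero : Function.Injective (post (f := f) (W := W) (n := 0) S.f) :=
  XC.injective_post_zero hS (f.fn.obj W)

variable [HasExt.{u} (ModSite.Mod O_D)] [SiteCmp.HasRpushD f]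

/-- Over acyclic objects, classes on the inverse image are the sections of the higher direct images. -/
def etaLin (M : ModSite.Mod O_C) (n : ℕ)
    (h : ∀ q : ℕ, q < n → ∀ k, 0 < k → Subsingleton (XC O_D W ((Rq f q).obj M) k)) :
    XW f W M n ≃ₗ[O_D.obj.obj (op W)] ModSite.sect ((Rq f n).obj M) W :=
  LinearEquiv.ofBijective
    { toFun := fun ξ => eta f W M n (toXC ξ)
      map_add' := fun x y => map_add (eta f W M n) _ _
      map_smul' := fun a ξ => by rw [RingHom.id_apply]; exact eta_smul f a (toXC ξ) }
    (bijective_eta f W M n h)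

theorem etaLin_apply (M : ModSite.Mod O_C) (n : ℕ)
    (h : ∀ q : ℕ, q < n → ∀ k, 0 < k → Subsingleton (XC O_D W ((Rq f q).obj M) k)) (ξ : XW f W M n) :
    etaLin f W M n h ξ = eta f W M n (toXC ξ) := rfl

end XW

end Groth.Agent.ProperFormalH7
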