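import Groth.Agent.Lib.ProperFormalH7.CplLevels
import Groth.Agent.Lib.CohFound.RpushComp

/-!
# A criterion for maps out of the inverse image to a completion to be isomorphisms
-/

set_option autoImplicit false
set_option linter.style.haveILetI false
set_option linter.unusedSectionVars false
set_option backward.isDefEq.respectTransparency false
set_option backward.isDefEq.respectTransparency.types false
set_option maxHeartbeats 1000000
set_option synthInstance.maxHeartbeats 400000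
set_option synthInstance.maxSize 1024
universe u

open CategoryTheory CategoryTheory.Limits AlgebraicGeometry Opposite TopologicalSpace

noncomputable section

namespace Groth.Agent.ProperFormalH7

open FormalModH7

/-- A map out of a completion is bijective when the levels have the properties of formal functions. -/
theorem bijective_of_levels_alg {M Mh G : Type u} [AddCommGroup M] [AddCommGroup Mh] [AddCommGroup G]
    {L P : ℕ → Type u} [∀ k, AddCommGroup (L k)] [∀ k, AddCommGroup (P k)] (tr : ∀ k, L (k + 1) → L k)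
    (pr : ∀ k, Mh →+ L k) (r : ∀ k, M →+ L k) (w : M → Mh) (hw : ∀ s k, pr k (w s) = r k s)
    (htp : ∀ k x, tr k (pr (k + 1) x) = pr k x) (htr : ∀ k s, tr k (r (k + 1) s) = r k s)
    (hsep : ∀ x, (∀ k, pr k x = 0) → x = 0)
    (hcpl : ∀ y : ∀ k, L k, (∀ k, tr k (y (k + 1)) = y k) → ∃ x, ∀ k, pr k x = y k)
    (hsurj : ∀ k, Function.Surjective (r k)) (c : Mh →+ G) (π : ∀ k, G →+ P k)
    (hinj : ∀ y, (∀ k, π k y = 0) → y = 0)
    (hkill : ∀ k x, pr k x = 0 → π k (c x) = 0)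
    (hker : ∀ k, ∃ m, ∀ s, π m (c (w s)) = 0 → r k s = 0)
    (hlift : ∀ y k, ∃ s, ∀ i ≤ k, π i (c (w s)) = π i y) : Function.Bijective c := by
  have hle : ∀ {m n : ℕ}, n ≤ m → ∀ x s, pr m x = r m s → pr n x = r n s := fun {m n} hn => by
    induction m, hn using Nat.le_induction with
    | base => exact fun _ _ h => h
    | succ m _ ih => exact fun x s h => ih x s (by rw [← htp, h, htr])
  have hnear : ∀ k x s, pr k x = r k s → π k (c x) = π k (c (w s)) := fun k x s e => by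
    rw [← sub_eq_zero, ← map_sub, ← map_sub]
    exact hkill k _ (by rw [map_sub, e, hw, sub_self])
  choose m hm using hker
  refine ⟨(injective_iff_map_eq_zero c).2 fun x hx => hsep x fun k => ?_, fun y => ?_⟩
  · obtain ⟨s, hs⟩ := hsurj (max k (m k)) (pr _ x)
    rw [hle (le_max_left k (m k)) x s hs.symm]
    exact hm k s ((hnear (m k) x s (hle (le_max_right k (m k)) x s hs.symm)).symm.trans (by rw [hx, map_zero]))
  · choose s hs using hlift y
    let N : ℕ → ℕ := fun k => k + (Finset.range (k + 1)).sup m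
    have hNm : ∀ k, m k ≤ N k := fun k =>
      (Finset.le_sup (f := m) (Finset.self_mem_range_succ k)).trans (Nat.le_add_left _ _)
    have hNk : ∀ k, k ≤ N k := fun k => Nat.le_add_right _ _
    have hmono : ∀ k, N k ≤ N (k + 1) := fun k =>
      Nat.add_le_add (Nat.le_succ k) (Finset.sup_mono (Finset.range_mono (Nat.le_succ (k + 1))))
    have hcompat : ∀ k, r k (s (N (k + 1))) = r k (s (N k)) := fun k => by
      obtain ⟨x, hx⟩ : ∃ x, x = w (s (N (k + 1))) - w (s (N k)) := ⟨_, rfl⟩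
      rw [← sub_eq_zero, ← map_sub]
      refine hm k _ ?_
      rw [← hnear (m k) x _ (by rw [hx, map_sub, hw, hw, map_sub]), hx, map_sub, map_sub,
        hs _ _ ((hNm k).trans (hmono k)), hs _ _ (hNm k), sub_self]
    obtain ⟨x, hx⟩ := hcpl (fun k => r k (s (N k))) fun k => (htr k _).trans (hcompat k)
    refine ⟨x, sub_eq_zero.1 (hinj _ fun k => ?_)⟩
    rw [map_sub, hnear k x _ (hx k), hs (N k) k (hNk k), sub_self]

variable {X : Scheme.{u}} [IsLocallyNoetherian X] (𝓘 : X.IdealSheafData)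
  (h : (FSch.completionAlong X 𝓘).IsFormal) (N : X.Modules)

variable (hN : Coh.IsCoh N) {G : FSch.ModF (FSch.completionAlong X 𝓘) h} (c : (tsm 𝓘 h).pull.obj N ⟶ G)

/-- The levels of a section of the inverse image. -/
def levP (U : X.Opens) (k : ℕ) :
    ModSite.sect ((tsm 𝓘 h).pull.obj N) (zO 𝓘 U) →+ MV h (FSch.complMod 𝓘 N) (zO 𝓘 U) k :=
  (piM h (FSch.complMod 𝓘 N) (zO 𝓘 U) k).toAddMonoidHom.comp
    ((gam 𝓘 h N).val.app (op (zO 𝓘 U))).hom.toAddMonoidHom

theorem levP_apply (U : X.Opens) (k : ℕ) (x : ModSite.sect ((tsm 𝓘 h).pull.obj N) (zO 𝓘 U)) :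
    levP 𝓘 h N U k x = piM h (FSch.complMod 𝓘 N) (zO 𝓘 U) k ((gam 𝓘 h N).val.app (op (zO 𝓘 U)) x) := rfl

theorem levP_uS (U : X.Opens) (k : ℕ) (s : Γ(N, U)) : levP 𝓘 h N U k (uS 𝓘 h N U s) = resC 𝓘 h N k U s :=
  (congrArg (piM h (FSch.complMod 𝓘 N) (zO 𝓘 U) k) (gam_unit 𝓘 h N U s)).trans (piM_cplSec 𝓘 h N U s k)

theorem trM_levP (U : X.Opens) (k : ℕ) (x : ModSite.sect ((tsm 𝓘 h).pull.obj N) (zO 𝓘 U)) :
    trM h (FSch.complMod 𝓘 N) (zO 𝓘 U) k (levP 𝓘 h N U (k + 1) x) = levP 𝓘 h N U k x :=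
  (congrArg (fun q => trM h (FSch.complMod 𝓘 N) (zO 𝓘 U) k q) (levP_apply 𝓘 h N U (k + 1) x)).trans
    ((trM_piM h (FSch.complMod 𝓘 N) (zO 𝓘 U) k
      ((gam 𝓘 h N).val.app (op (zO 𝓘 U)) x)).trans (levP_apply 𝓘 h N U k x).symm)

include hN in
theorem levP_sep (U : X.Opens) (x : ModSite.sect ((tsm 𝓘 h).pull.obj N) (zO 𝓘 U))
    (hx : ∀ k, levP 𝓘 h N U k x = 0) : x = 0 :=
  (bijective_gam_app 𝓘 h N hN (zO 𝓘 U)).1
    ((piM_ext h _ _ hx).trans (map_zero ((gam 𝓘 h N).val.app (op (zO 𝓘 U))).hom).symm)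

include hN in
theorem levP_cpl (U : X.Opens) (y : ∀ k, MV h (FSch.complMod 𝓘 N) (zO 𝓘 U) k)
    (hy : ∀ k, trM h (FSch.complMod 𝓘 N) (zO 𝓘 U) k (y (k + 1)) = y k) : ∃ x, ∀ k, levP 𝓘 h N U k x = y k := by
  obtain ⟨z, hz⟩ := exists_piM h (FSch.complMod 𝓘 N) (zO 𝓘 U) y hy
  obtain ⟨x, rfl⟩ := (bijective_gam_app 𝓘 h N hN (zO 𝓘 U)).2 z
  exact ⟨x, hz⟩

include hN in
/-- Bijectivity over an affine open from formal-function properties of the levels. -/
theorem bijective_app_of_levels {U : X.Opens} (hU : IsAffineOpen U) {P : ℕ → Type u} [∀ k, AddCommGroup (P k)]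
    (π : ∀ k, ModSite.sect G (zO 𝓘 U) →+ P k)
    (hinj : ∀ y, (∀ k, π k y = 0) → y = 0)
    (hkill : ∀ (k : ℕ) (x : ModSite.sect ((tsm 𝓘 h).pull.obj N) (zO 𝓘 U)),
      piM h (FSch.complMod 𝓘 N) (zO 𝓘 U) k ((gam 𝓘 h N).val.app (op (zO 𝓘 U)) x) = 0 →
        π k (c.val.app (op (zO 𝓘 U)) x) = 0)
    (hker : ∀ k, ∃ m, ∀ s : Γ(N, U), π m (c.val.app (op (zO 𝓘 U)) (uS 𝓘 h N U s)) = 0 → resC 𝓘 h N k U s = 0)
    (hlift : ∀ (y : ModSite.sect G (zO 𝓘 U)) (k : ℕ), ∃ s : Γ(N, U),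
      ∀ i ≤ k, π i (c.val.app (op (zO 𝓘 U)) (uS 𝓘 h N U s)) = π i y) :
    Function.Bijective (c.val.app (op (zO 𝓘 U))) := by
  haveI : Coh.IsQCoh N := hN.1
  obtain ⟨t, ht⟩ : ∃ t : ∀ k, MV h (FSch.complMod 𝓘 N) (zO 𝓘 U) (k + 1) → MV h (FSch.complMod 𝓘 N) (zO 𝓘 U) k,
      ∀ k x, t k x = trM h (FSch.complMod 𝓘 N) (zO 𝓘 U) k x := ⟨_, fun _ _ => rfl⟩
  exact @bijective_of_levels_alg Γ(N, U) (ModSite.sect ((tsm 𝓘 h).pull.obj N) (zO 𝓘 U)) (ModSite.sect G (zO 𝓘 U)) _ _ _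
    (fun k => MV h (FSch.complMod 𝓘 N) (zO 𝓘 U) k) P
    (fun k => inferInstanceAs (AddCommGroup (MV h (FSch.complMod 𝓘 N) (zO 𝓘 U) k))) inferInstance t
    (levP 𝓘 h N U) (fun k => resC 𝓘 h N k U) (uS 𝓘 h N U) (fun s k => levP_uS 𝓘 h N U k s)
    (fun k x => (ht k _).trans (trM_levP 𝓘 h N U k x))
    (fun k s => (ht k _).trans (trM_resC 𝓘 h N k U s)) (levP_sep 𝓘 h N hN U)
    (fun y hy => levP_cpl 𝓘 h N hN U y fun k => (ht k _).symm.trans (hy k))
    (fun k => resC_surjective 𝓘 h N hU k) ((c.val.app (op (zO 𝓘 U))).hom.toAddMonoidHom) π hinj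
    (fun k x hx => hkill k x ((levP_apply 𝓘 h N U k x).symm.trans hx)) hker hlift

include hN in
/-- A map out of the inverse image bijective over affine opens is an isomorphism. -/
theorem isIso_of_bijective_zO (H : ∀ U : X.Opens, IsAffineOpen U → Function.Bijective (c.val.app (op (zO 𝓘 U)))) :
    IsIso c := by
  haveI : IsIso ((SheafOfModules.toSheaf (ModSite.ringSh ((FSch.completionAlong X 𝓘).Osh h))).map c) :=
    CohFound.isIso_of_bijective_basis (T := ((FSch.completionAlong X 𝓘).X 0).toPresheafedSpace.carrier)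
      ((SheafOfModules.toSheaf (ModSite.ringSh ((FSch.completionAlong X 𝓘).Osh h))).map c)
      (fun V => ∃ U : X.Opens, IsAffineOpen U ∧ V = zO 𝓘 U)
      (fun W y hy => by
        obtain ⟨U, hU, hyU, hUW⟩ := exists_affine_zO (𝓘 := 𝓘) hy
        exact ⟨zO 𝓘 U, ⟨U, hU, rfl⟩, hyU, hUW⟩)
      (by rintro V ⟨U, hU, rfl⟩; exact H U hU)
  exact isIso_of_reflects_iso c (SheafOfModules.toSheaf (ModSite.ringSh ((FSch.completionAlong X 𝓘).Osh h)))

end Groth.Agent.ProperFormalH7
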