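import Groth.Agent.Lib.ProperFormalH7.SheafFun

/-!
# The theorem on formal functions, sheaf version
-/

set_option autoImplicit false
set_option linter.style.haveILetI false
set_option linter.unusedSectionVars false
set_option backward.isDefEq.respectTransparency false
set_option backward.isDefEq.respectTransparency.types false
set_option maxHeartbeats 1000000
set_option synthInstance.maxHeartbeats 400000
set_option synthInstance.maxSize 1024
universe u

open CategoryTheory CategoryTheory.Limits AlgebraicGeometry Opposite TopologicalSpace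

noncomputable section

namespace Groth.Agent.ProperFormalH7

attribute [local instance] HasDerivedCategory.standard

variable {𝔛 𝔜 : FSch.Sys.{u}} (hX : 𝔛.IsLocNoethFormal) (hY : 𝔜.IsLocNoethFormal) (f : 𝔛 ⟶ 𝔜)
  (hf : FSch.IsProperHom f) [HasInjectiveResolutions (FSch.ModF 𝔛 hX.1)]
  (M : FSch.ModF 𝔛 hX.1) (hM : FSch.IsCohF 𝔛 hX.1 M) (q : ℕ)

include hf hM in
theorem exists_iso_limit_levels :
    ∃ e : (FSch.RpushF f hX.1 hY.1 q).obj M ≅ limit (rlS hX hY f M q),
      ∀ k : ℕ, e.hom ≫ limit.π (rlS hX hY f M q) (op k) =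
        (FSch.RpushF f hX.1 hY.1 q).map ((FSch.levelMor 𝔛 hX.1 k).adj.unit.app M) := by
  haveI : IsGrothendieckAbelian.{u} (FSch.ModF 𝔛 hX.1) :=
    CohFound.isGrothendieckAbelian_sheafOfModules (ModSite.ringSh (𝔛.Osh hX.1))
  haveI := IsGrothendieckAbelian.enoughInjectives (C := FSch.ModF 𝔛 hX.1)
  haveI : SiteCmp.HasRpushD (FSch.homMor f hX.1 hY.1) :=
    KInjLib.hasRightDerivedFunctor KInjLib.enoughKInj_of_grothendieck _
  haveI := isIso_lift_rlCone hX hY f hf M hM q
  exact ⟨asIso (limit.lift _ (rlCone hX hY f M q)), fun k => limit.lift_π _ _⟩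

include hf hM in
theorem rlS_isML_of_isProperHom [CompactSpace (𝔜.X 0)] : ARSys.IsML (rlS hX hY f M q) := by
  haveI : IsGrothendieckAbelian.{u} (FSch.ModF 𝔛 hX.1) :=
    CohFound.isGrothendieckAbelian_sheafOfModules (ModSite.ringSh (𝔛.Osh hX.1))
  haveI := IsGrothendieckAbelian.enoughInjectives (C := FSch.ModF 𝔛 hX.1)
  haveI : SiteCmp.HasRpushD (FSch.homMor f hX.1 hY.1) :=
    KInjLib.hasRightDerivedFunctor KInjLib.enoughKInj_of_grothendieck _
  exact rlS_isML hX hY f hf M hM q

end Groth.Agent.ProperFormalH7
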