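import Groth.Agent.Lib.ProperFormalH7.CplLevels
import Groth.Agent.Lib.SiteCmp16.RpushTrunc
import Groth.Agent.Lib.FormalH7.Adic

/-!
# Limits of cohomology groups on a completion
-/

set_option autoImplicit false
set_option linter.style.haveILetI false
set_option linter.unusedSectionVars false
set_option backward.isDefEq.respectTransparency false
set_option backward.isDefEq.respectTransparency.types false
set_option maxHeartbeats 1000000
set_option synthInstance.maxHeartbeats 400000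
set_option synthInstance.maxSize 1024
universe u

open CategoryTheory CategoryTheory.Limits AlgebraicGeometry Opposite TopologicalSpace

noncomputable section

namespace Groth.Agent.ProperFormalH7

open FormalModH7

attribute [local instance] HasDerivedCategory.standard

section HMap

universe w v₁ u₁ v₂ u₂

variable {C : Type u₁} [Category.{v₁} C] {J : GrothendieckTopology C} [HasSheafify J AddCommGrpCat.{w}]
  [HasExt.{w} (Sheaf J AddCommGrpCat.{w})]

/-- Isomorphic sheaves have isomorphic cohomology. -/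
def hIso {F G : Sheaf J AddCommGrpCat.{w}} (e : F ≅ G) (n : ℕ) : Sheaf.H F n ≃+ Sheaf.H G n :=
  AddMonoidHom.toAddEquiv (Sheaf.H.map e.hom n) (Sheaf.H.map e.inv n)
    (AddMonoidHom.ext fun x => (Sheaf.H.map_comp_apply e.hom e.inv x).symm.trans
      ((congrArg (fun φ => Sheaf.H.map φ n x) e.hom_inv_id).trans (Sheaf.H.map_id_apply x)))
    (AddMonoidHom.ext fun x => (Sheaf.H.map_comp_apply e.inv e.hom x).symm.trans
      ((congrArg (fun φ => Sheaf.H.map φ n x) e.inv_hom_id).trans (Sheaf.H.map_id_apply x)))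

theorem hIso_symm_apply {F G : Sheaf J AddCommGrpCat.{w}} (e : F ≅ G) (n : ℕ) (x : Sheaf.H G n) :
    (hIso e n).symm x = Sheaf.H.map e.inv n x := rfl

variable {D : Type u₂} [Category.{v₂} D] (T : D ⥤ Sheaf J AddCommGrpCat.{w})

theorem hmap_comp {a b c : D} (φ : a ⟶ b) (ψ : b ⟶ c) (n : ℕ) (x : Sheaf.H (T.obj a) n) :
    Sheaf.H.map (T.map ψ) n (Sheaf.H.map (T.map φ) n x) = Sheaf.H.map (T.map (φ ≫ ψ)) n x :=
  (Sheaf.H.map_comp_apply (T.map φ) (T.map ψ) x).symm.trans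
    (congrArg (fun χ => Sheaf.H.map χ n x) (T.map_comp φ ψ).symm)

end HMap

/-- Compatible bijections turn the lifting properties into a comparison with a limit. -/
theorem nonempty_addEquiv_lim {H : Type u} {G T : ℕ → Type u} [AddCommGroup H] [∀ k, AddCommGroup (G k)]
    [∀ k, AddCommGroup (T k)] (u : ∀ k, H →+ T k) (tT : ∀ k, T (k + 1) →+ T k) (tG : ∀ k, G (k + 1) →+ G k)
    (Φ : ∀ k, T k ≃+ G k) (L : AddSubgroup (∀ k, G k)) (hL : ∀ y, y ∈ L ↔ ∀ k, tG k (y (k + 1)) = y k)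
    (hΦ : ∀ k z, tG k (Φ (k + 1) z) = Φ k (tT k z)) (hu : ∀ k x, tT k (u (k + 1) x) = u k x)
    (hinj : ∀ x, (∀ k, u k x = 0) → x = 0)
    (hlift : ∀ y : ∀ k, T k, (∀ k, tT k (y (k + 1)) = y k) → ∃ x, ∀ k, u k x = y k) : Nonempty (H ≃+ L) := by
  refine ⟨AddEquiv.ofBijective (AddMonoidHom.mk' (fun x => (⟨fun k => Φ k (u k x), (hL _).2 fun k => ?_⟩ : L))
    fun x y => Subtype.ext (funext fun k => ?_)) ⟨(injective_iff_map_eq_zero _).2 fun x hx => ?_, fun y => ?_⟩⟩
  · rw [hΦ, hu]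
  · exact (congrArg (Φ k) (map_add (u k) x y)).trans (map_add (Φ k) _ _)
  · exact hinj x fun k => (Φ k).injective ((congrFun (congrArg Subtype.val hx) k).trans (map_zero (Φ k)).symm)
  · obtain ⟨x, hx⟩ := hlift (fun k => (Φ k).symm (y.1 k)) fun k => (Φ k).injective (by
      rw [← hΦ, AddEquiv.apply_symm_apply, AddEquiv.apply_symm_apply]
      exact (hL _).1 y.2 k)
    exact ⟨x, Subtype.ext (funext fun k => (congrArg (Φ k) (hx k)).trans ((Φ k).apply_symm_apply _))⟩

section ModLim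

variable {X : Scheme.{u}} [IsLocallyNoetherian X] (𝓘 : X.IdealSheafData) (h : (FSch.completionAlong X 𝓘).IsFormal)

/-- The map in cohomology on a completion induced by a map of modules. -/
def hfMap {G G' : FSch.ModF (FSch.completionAlong X 𝓘) h} (φ : G ⟶ G') (n : ℕ) :
    FSch.HF (FSch.completionAlong X 𝓘) h G n →+ FSch.HF (FSch.completionAlong X 𝓘) h G' n :=
  Sheaf.H.map ((SheafOfModules.toSheaf _).map φ) n

/-- The map in cohomology on a scheme induced by a map of modules. -/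
def hhMap {M N : X.Modules} (φ : M ⟶ N) (n : ℕ) : Coh.HH X M n →+ Coh.HH X N n :=
  Sheaf.H.map ((SheafOfModules.toSheaf X.ringCatSheaf).map φ) n

/-- Isomorphic modules have isomorphic cohomology. -/
def hhIso {M N : X.Modules} (e : M ≅ N) (n : ℕ) : Coh.HH X M n ≃+ Coh.HH X N n :=
  hIso ((SheafOfModules.toSheaf X.ringCatSheaf).mapIso e) n

theorem hhIso_symm_apply {M N : X.Modules} (e : M ≅ N) (n : ℕ) (x : Coh.HH X N n) :
    (hhIso e n).symm x = Sheaf.H.map ((SheafOfModules.toSheaf X.ringCatSheaf).map e.inv) n x := rfl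

/-- Cohomology on the completion of a module presented by its direct image on the scheme. -/
def hcIsoEquiv {G : FSch.ModF (FSch.completionAlong X 𝓘) h} {M : X.Modules}
    (e : M ≅ ((tsm 𝓘 h).push.obj G : X.Modules)) (n : ℕ) :
    FSch.HF (FSch.completionAlong X 𝓘) h G n ≃+ Coh.HH X M n :=
  (hcPush 𝓘 h G n).trans (hhIso e n).symm

theorem hhMap_comp {M N P : X.Modules} (φ : M ⟶ N) (ψ : N ⟶ P) (n : ℕ) (x : Coh.HH X M n) :
    hhMap ψ n (hhMap φ n x) = hhMap (φ ≫ ψ) n x :=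
  hmap_comp (SheafOfModules.toSheaf X.ringCatSheaf) φ ψ n x

theorem hcIsoEquiv_map {G G' : FSch.ModF (FSch.completionAlong X 𝓘) h} {M M' : X.Modules}
    (e : M ≅ ((tsm 𝓘 h).push.obj G : X.Modules)) (e' : M' ≅ ((tsm 𝓘 h).push.obj G' : X.Modules))
    (φ : G ⟶ G') (ψ : M ⟶ M')
    (he : e.inv ≫ ψ = ((tsm 𝓘 h).push.map φ : ((tsm 𝓘 h).push.obj G : X.Modules) ⟶ _) ≫ e'.inv) (n : ℕ)
    (z : FSch.HF (FSch.completionAlong X 𝓘) h G n) :
    hhMap ψ n (hcIsoEquiv 𝓘 h e n z) = hcIsoEquiv 𝓘 h e' n (hfMap 𝓘 h φ n z) :=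
  (hhMap_comp e.inv ψ n (hcPush 𝓘 h G n z)).trans
    ((congrArg (fun χ => hhMap χ n (hcPush 𝓘 h G n z)) he).trans
      ((hhMap_comp ((tsm 𝓘 h).push.map φ : ((tsm 𝓘 h).push.obj G : X.Modules) ⟶ _) e'.inv n
          (hcPush 𝓘 h G n z)).symm.trans
        (congrArg (hhMap e'.inv n) (hcPush_map 𝓘 h φ n z).symm)))

theorem hfMap_comp_eq {G G' G'' : FSch.ModF (FSch.completionAlong X 𝓘) h} {φ : G ⟶ G'} {ψ : G' ⟶ G''}
    {χ : G ⟶ G''} (e : φ ≫ ψ = χ) (n : ℕ) (x : FSch.HF (FSch.completionAlong X 𝓘) h G n) :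
    hfMap 𝓘 h ψ n (hfMap 𝓘 h φ n x) = hfMap 𝓘 h χ n x :=
  e ▸ hmap_comp (SheafOfModules.toSheaf _) φ ψ n x

end ModLim

end Groth.Agent.ProperFormalH7
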