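import Groth.Agent.Lib.FormalModH7.Level
import Groth.Agent.Lib.FormalH7.Sys
import Groth.Agent.Lib.FormalH7.Ideal
import Groth.Agent.Lib.EffCartier.Comap
import Groth.Prelude.Def_FSch4

/-!
# The ideals of definition along an adic morphism
-/

set_option autoImplicit false
set_option linter.style.haveILetI false
set_option backward.isDefEq.respectTransparency false
set_option backward.isDefEq.respectTransparency.types false
universe u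

open CategoryTheory CategoryTheory.Limits AlgebraicGeometry Opposite TopologicalSpace

noncomputable section

namespace Groth.Agent.ProperFormalH7

open FormalModH7

variable {𝔛 𝔜 : FSch.Sys.{u}} (hX : 𝔛.IsLocNoethFormal) (hY : 𝔜.IsLocNoethFormal) (f : 𝔛 ⟶ 𝔜)
  {V : (𝔛.X 0).Opens} {W : (𝔜.X 0).Opens}

/-- The map on sections from an open of the target to an open of its inverse image. -/
def phiV (e : V ≤ ((f : FSch.Hom 𝔛 𝔜).app 0) ⁻¹ᵁ W) : AV 𝔜 hY.1 W →+* AV 𝔛 hX.1 V :=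
  (rA hX.1 e).comp ((FSch.Hom.sharp f hX.1 hY.1).hom.app (op W)).hom

theorem lvU_le_app (n : ℕ) (e : V ≤ ((f : FSch.Hom 𝔛 𝔜).app 0) ⁻¹ᵁ W) :
    𝔛.lvU hX.1 n V ≤ ((f : FSch.Hom 𝔛 𝔜).app n) ⁻¹ᵁ (𝔜.lvU hY.1 n W) :=
  (lvU_mono hX.1 e n).trans (FSch.Hom.lvU_preimage f hX.1 hY.1 n W).ge

theorem prj_phiV (n : ℕ) (e : V ≤ ((f : FSch.Hom 𝔛 𝔜).app 0) ⁻¹ᵁ W) (a : AV 𝔜 hY.1 W) :
    prj 𝔛 hX.1 V n (phiV hX hY f e a) =
      (((f : FSch.Hom 𝔛 𝔜).app n).appLE _ _ (lvU_le_app hX hY f n e)).hom (prj 𝔜 hY.1 W n a) := by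
  change prj 𝔛 hX.1 V n (rA hX.1 e _) = _
  rw [prj_rA]
  have h := congrArg (fun φ => φ.hom.app (op W) a) (FSch.Hom.sharp_proj f hX.1 hY.1 n)
  refine (congrArg (rL hX.1 e n) h).trans ?_
  change ((((f : FSch.Hom 𝔛 𝔜).app n).appLE _ _ _) ≫ (𝔛.X n).presheaf.map _).hom _ = _
  rw [Scheme.Hom.appLE_map]
  rfl

theorem map_defIdeal_phiV (hf : FSch.IsAdicHom f) (hV : IsAffineOpen V) (hW : IsAffineOpen W)
    (e : V ≤ ((f : FSch.Hom 𝔛 𝔜).app 0) ⁻¹ᵁ W) :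
    (defIdeal 𝔜 hY.1 W).map (phiV hX hY f e) = defIdeal 𝔛 hX.1 V := by
  have hle : (defIdeal 𝔜 hY.1 W).map (phiV hX hY f e) ≤ defIdeal 𝔛 hX.1 V :=
    Ideal.map_le_iff_le_comap.2 fun a ha => by
      rw [Ideal.mem_comap, defIdeal, RingHom.mem_ker, prj_phiV]
      erw [RingHom.mem_ker.1 ha]
      exact map_zero _
  haveI := (hY.1 0).1
  haveI := (hX.1 0).1
  have hker : (𝔛.ι 0).ker = (𝔜.ι 0).ker.comap ((f : FSch.Hom 𝔛 𝔜).app 1) := FormalH7.ker_of_isPullback (hf 0)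
  have hXk : RingHom.ker (tr 𝔛 hX.1 V 0) = (𝔛.ι 0).ker.ideal ⟨_, isAffineOpen_lvU hX hV 1⟩ :=
    ker_appLE_eq (𝔛.ι 0) ⟨_, isAffineOpen_lvU hX hV 1⟩ _ (𝔛.lvU_succ hX.1 0 V).symm
  have hYk : RingHom.ker (tr 𝔜 hY.1 W 0) = (𝔜.ι 0).ker.ideal ⟨_, isAffineOpen_lvU hY hW 1⟩ :=
    ker_appLE_eq (𝔜.ι 0) ⟨_, isAffineOpen_lvU hY hW 1⟩ _ (𝔜.lvU_succ hY.1 0 W).symm
  have hYk' : RingHom.ker (tr 𝔜 hY.1 W 0) = (defIdeal 𝔜 hY.1 W).map (prj 𝔜 hY.1 W 1) := by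
    refine le_antisymm (fun x hx => ?_) (Ideal.map_le_iff_le_comap.2 fun a ha => ?_)
    · obtain ⟨a, rfl⟩ := prj_surjective hY hW 1 x
      exact Ideal.mem_map_of_mem _ (by rwa [RingHom.mem_ker, tr_prj] at hx)
    · rw [Ideal.mem_comap, RingHom.mem_ker, tr_prj]
      exact ha
  have hcomp : (((f : FSch.Hom 𝔛 𝔜).app 1).appLE _ _ (lvU_le_app hX hY f 1 e)).hom.comp (prj 𝔜 hY.1 W 1) =
      (prj 𝔛 hX.1 V 1).comp (phiV hX hY f e) := RingHom.ext fun a => (prj_phiV hX hY f 1 e a).symm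
  have h2 : defIdeal 𝔛 hX.1 V ≤ (defIdeal 𝔜 hY.1 W).map (phiV hX hY f e) ⊔ defIdeal 𝔛 hX.1 V ^ 2 := fun x hx => by
    have h1 : prj 𝔛 hX.1 V 1 x ∈ RingHom.ker (tr 𝔛 hX.1 V 0) := by
      rw [RingHom.mem_ker, tr_prj]
      exact hx
    rw [hXk, hker, EffCartier.comap_ideal _ _ ⟨_, isAffineOpen_lvU hY hW 1⟩ ⟨_, isAffineOpen_lvU hX hV 1⟩
      (lvU_le_app hX hY f 1 e), ← hYk, hYk', Ideal.map_map] at h1
    erw [hcomp] at h1
    rw [← Ideal.map_map] at h1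
    obtain ⟨y, hy, hxy⟩ := (Ideal.mem_map_iff_of_surjective _ (prj_surjective hX hV 1)).1 h1
    have h3 : x - y ∈ RingHom.ker (prj 𝔛 hX.1 V 1) := by rw [RingHom.mem_ker, map_sub, hxy, sub_self]
    rw [(structure_AV hX hV).2.2 1] at h3
    exact Submodule.mem_sup.2 ⟨y, hy, x - y, h3, add_sub_cancel _ _⟩
  haveI := (structure_AV hX hV).2.1
  exact le_antisymm hle (Submodule.le_of_le_smul_of_le_jacobson_bot (fg_defIdeal hX hV)
    (IsAdicComplete.le_jacobson_bot (defIdeal 𝔛 hX.1 V)) (by rwa [smul_eq_mul, ← pow_two]))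

end Groth.Agent.ProperFormalH7
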