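import Groth.Agent.Lib.FormalModH7.Cd
import Groth.Agent.Lib.CohFound.MV

/-!
# A Mayer–Vietoris argument for the equations `x i - e (x (i + 1)) = y i`
-/

set_option autoImplicit false
set_option maxHeartbeats 800000
set_option backward.isDefEq.respectTransparency false
set_option backward.isDefEq.respectTransparency.types false
set_option linter.style.haveILetI false
set_option linter.unusedSectionVars false
universe u

open CategoryTheory CategoryTheory.Limits TopologicalSpace Abelian AlgebraicGeometry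

noncomputable section

namespace Groth.Agent.ProperFormalH7

variable {X : TopCat.{u}} (F : CohTop.Ab X) (e : F ⟶ F)

/-- `x ↦ (x i - e (x (i + 1)))_i` on cohomology classes. -/
def phiE (n : ℕ) (U : Opens X) (x : ℕ → CohFound.Hc F n U) : ℕ → CohFound.Hc F n U :=
  fun i => x i - CohFound.mp e n U (x (i + 1))

/-- The equations `x i - e (x (i + 1)) = y i` have exactly one solution, in all degrees. -/
def PhiBij (U : Opens X) : Prop := ∀ n, Function.Bijective (phiE F e n U)

variable {F e}

theorem phiE_sub (n : ℕ) (U : Opens X) (x y : ℕ → CohFound.Hc F n U) :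
    phiE F e n U (x - y) = phiE F e n U x - phiE F e n U y :=
  funext fun i => by simp only [phiE, Pi.sub_apply, map_sub]; abel

theorem phiE_rs {n : ℕ} {U V : Opens X} (h : V ≤ U) (x : ℕ → CohFound.Hc F n U) (i : ℕ) :
    phiE F e n V (fun j => CohFound.rs F n h (x j)) i = CohFound.rs F n h (phiE F e n U x i) := by
  simp only [phiE, map_sub, CohFound.mp_rs]

theorem phiE_mvδ {n : ℕ} {U V : Opens X} (x : ℕ → CohFound.Hc F n (U ⊓ V)) (i : ℕ) :
    phiE F e (n + 1) (U ⊔ V) (fun j => CohFound.mvδ U V F n (x j)) i =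
      CohFound.mvδ U V F n (phiE F e n (U ⊓ V) x i) := by
  simp only [phiE, map_sub, CohFound.mp_mvδ]

theorem phiE_diff {n : ℕ} {U V W : Opens X} (hU : W ≤ U) (hV : W ≤ V) (y : ℕ → CohFound.Hc F n U)
    (z : ℕ → CohFound.Hc F n V) (i : ℕ) :
    phiE F e n W (fun j => CohFound.rs F n hU (y j) - CohFound.rs F n hV (z j)) i =
      CohFound.rs F n hU (phiE F e n U y i) - CohFound.rs F n hV (phiE F e n V z i) := by
  simp only [phiE, map_sub, CohFound.mp_rs]
  abel

theorem PhiBij.eq_zero {U : Opens X} (h : PhiBij F e U) {n : ℕ} {x : ℕ → CohFound.Hc F n U}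
    (hx : ∀ i, phiE F e n U x i = 0) : x = 0 :=
  (h n).1 (funext fun i => (hx i).trans (by simp [phiE]))

/-- The empty open has no classes. -/
theorem phiBij_bot : PhiBij F e ⊥ := fun n =>
  haveI : Subsingleton (CohFound.Hc F n (⊥ : Opens X)) :=
    subsingleton_of_forall_eq 0 fun ξ => CohFound.hc_bot_eq_zero F n rfl ξ
  ⟨fun _ _ _ => Subsingleton.elim _ _, fun y => ⟨y, Subsingleton.elim _ _⟩⟩

theorem eq_zero_of_rs_zero {U V : Opens X} (x : CohFound.Hc F 0 (U ⊔ V))
    (hU : CohFound.rs F 0 (le_sup_left : U ≤ U ⊔ V) x = 0) (hV : CohFound.rs F 0 (le_sup_right : V ≤ U ⊔ V) x = 0) :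
    x = 0 := by
  obtain ⟨φ, rfl⟩ := (Ext.mk₀_bijective _ _).2 x
  haveI := (CohFound.mvSC_shortExact U V).epi_g
  have h : (CohFound.mvSC U V).g ≫ φ = 0 := by
    apply (Ext.mk₀_bijective (CohFound.mvSC U V).X₂ F).1
    rw [← Ext.mk₀_comp_mk₀ (CohFound.mvSC U V).g φ, Ext.mk₀_zero, ← CohFound.mvPair_eta ((Ext.mk₀ (CohFound.mvSC U V).g).comp (Ext.mk₀ φ) (zero_add 0)),
      CohFound.inl_g, CohFound.inr_g, hU, hV, CohFound.mvPair, Ext.comp_zero, Ext.comp_zero, add_zero]
  rw [(cancel_epi (CohFound.mvSC U V).g).1 (h.trans comp_zero.symm)]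
  exact Ext.mk₀_zero _ _

/-- Two opens and their intersection. -/
theorem phiBij_sup {U V : Opens X} (hU : PhiBij F e U) (hV : PhiBij F e V) (hUV : PhiBij F e (U ⊓ V)) :
    PhiBij F e (U ⊔ V) := by
  intro n
  constructor
  · intro a b hab
    suffices ∀ x : ℕ → CohFound.Hc F n (U ⊔ V), (∀ i, phiE F e n (U ⊔ V) x i = 0) → x = 0 from
      sub_eq_zero.1 (this (a - b) fun i => by rw [phiE_sub, hab, sub_self, Pi.zero_apply])
    intro x hx
    have hxU := hU.eq_zero (x := fun j => CohFound.rs F n (le_sup_left : U ≤ U ⊔ V) (x j)) fun i => by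
      rw [phiE_rs, hx, map_zero]
    have hxV := hV.eq_zero (x := fun j => CohFound.rs F n (le_sup_right : V ≤ U ⊔ V) (x j)) fun i => by
      rw [phiE_rs, hx, map_zero]
    rcases n with _ | n
    · exact funext fun i => eq_zero_of_rs_zero _ (congrFun hxU i) (congrFun hxV i)
    choose v hv using fun i => CohFound.mv_exact (x i) (congrFun hxU i) (congrFun hxV i)
    have hδ : ∀ i, CohFound.mvδ U V F n (phiE F e n (U ⊓ V) v i) = 0 := fun i => by
      rw [← phiE_mvδ, show (fun j => CohFound.mvδ U V F n (v j)) = x from funext hv]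
      exact hx i
    choose y z hyz using fun i => CohFound.mv_diff _ (hδ i)
    obtain ⟨y', hy'⟩ := (hU n).2 y
    obtain ⟨z', hz'⟩ := (hV n).2 z
    let w : ℕ → CohFound.Hc F n (U ⊓ V) := fun j =>
      CohFound.rs F n (inf_le_left : U ⊓ V ≤ U) (y' j) - CohFound.rs F n (inf_le_right : U ⊓ V ≤ V) (z' j)
    have hw : ∀ i, phiE F e n (U ⊓ V) w i = phiE F e n (U ⊓ V) v i := fun i =>
      (phiE_diff _ _ y' z' i).trans (by rw [congrFun hy' i, congrFun hz' i]; exact hyz i)
    have hv' := hUV.eq_zero (x := v - w) fun i => by rw [phiE_sub, Pi.sub_apply, hw, sub_self]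
    funext i
    rw [← hv i, sub_eq_zero.1 (congrFun hv' i)]
    exact CohFound.mvδ_sub _ _
  · intro w
    obtain ⟨a, ha⟩ := (hU n).2 fun j => CohFound.rs F n (le_sup_left : U ≤ U ⊔ V) (w j)
    obtain ⟨b, hb⟩ := (hV n).2 fun j => CohFound.rs F n (le_sup_right : V ≤ U ⊔ V) (w j)
    have hab := (hUV n).1 (a₁ := fun j => CohFound.rs F n (inf_le_left : U ⊓ V ≤ U) (a j))
      (a₂ := fun j => CohFound.rs F n (inf_le_right : U ⊓ V ≤ V) (b j)) (funext fun i => by
        rw [phiE_rs, phiE_rs, ha, hb, CohFound.rs_rs, CohFound.rs_rs])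
    choose x hxU hxV using fun i => CohFound.mv_glue (a i) (b i) (congrFun hab i)
    let r := w - phiE F e n (U ⊔ V) x
    have hrU : ∀ i, CohFound.rs F n (le_sup_left : U ≤ U ⊔ V) (r i) = 0 := fun i => by
      change CohFound.rs F n _ (w i - phiE F e n (U ⊔ V) x i) = 0
      rw [map_sub, ← phiE_rs, funext hxU, ha, sub_self]
    have hrV : ∀ i, CohFound.rs F n (le_sup_right : V ≤ U ⊔ V) (r i) = 0 := fun i => by
      change CohFound.rs F n _ (w i - phiE F e n (U ⊔ V) x i) = 0
      rw [map_sub, ← phiE_rs, funext hxV, hb, sub_self]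
    rcases n with _ | n
    · exact ⟨x, funext fun i => (sub_eq_zero.1 (eq_zero_of_rs_zero _ (hrU i) (hrV i))).symm⟩
    choose v hv using fun i => CohFound.mv_exact (r i) (hrU i) (hrV i)
    obtain ⟨v', hv'⟩ := (hUV n).2 v
    refine ⟨x + fun j => CohFound.mvδ U V F n (v' j), funext fun i => ?_⟩
    have h1 := phiE_mvδ (e := e) v' i
    rw [hv', hv i] at h1
    simp only [phiE, Pi.add_apply, map_add] at h1 ⊢
    rw [add_sub_add_comm, h1]
    exact add_sub_cancel _ _

/-- A finite union with good intersections. -/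
theorem phiBij_finset_sup {ι : Type*} (s : Finset ι) :
    ∀ A : ι → Opens X, (∀ t ⊆ s, t.Nonempty → PhiBij F e (t.inf A)) → PhiBij F e (s.sup A) := by
  classical
  induction s using Finset.induction_on with
  | empty => intro A _; simpa using phiBij_bot
  | @insert a s has ih =>
    intro A hA
    rw [Finset.sup_insert]
    refine phiBij_sup ?_ (ih A fun t ht hne => hA t (ht.trans (Finset.subset_insert a s)) hne) ?_
    · simpa using hA {a} (by simp) (by simp)
    · rw [Finset.sup_inf_distrib_left]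
      refine ih _ fun t ht hne => ?_
      rw [show t.inf (fun i => A a ⊓ A i) = (insert a t).inf A by
        rw [Finset.inf_insert]
        conv_rhs => rw [← Finset.inf_const hne (A a)]
        exact Finset.inf_inf]
      exact hA _ (Finset.insert_subset_insert a ht) (Finset.insert_nonempty a t)

/-- Compact opens are good when the affine opens are. -/
theorem phiBij_of_affine {Y : Scheme.{u}} {F : CohTop.Ab (CohFound.sp Y)} {e : F ⟶ F}
    (hc : ∀ U : Y.Opens, IsCompact (U : Set Y)) (h : ∀ V : Y.Opens, IsAffineOpen V → PhiBij F e V) (W : Y.Opens) :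
    PhiBij F e W := by
  classical
  -- opens inside an affine one
  have hA : ∀ (A V : Y.Opens), IsAffineOpen A → V ≤ A → PhiBij F e V := fun A V hA hVA => by
    obtain ⟨G, hG⟩ := FormalModH7.exists_finset_basicOpen hA (hc V) hVA
    rw [hG]
    refine phiBij_finset_sup G _ fun t ht hne => h _ ?_
    clear ht
    suffices ∃ g, t.inf Y.basicOpen = Y.basicOpen (g : Γ(Y, A)) by
      obtain ⟨g, hg⟩ := this
      rw [hg]
      exact hA.basicOpen g
    induction hne using Finset.Nonempty.cons_induction with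
    | singleton i => exact ⟨i, Finset.inf_singleton⟩
    | cons i t hi hne ih =>
      obtain ⟨g, hg⟩ := ih
      exact ⟨i * g, by rw [Finset.inf_cons, hg, Scheme.basicOpen_mul]⟩
  have key : ∀ x : W, ∃ U : Y.Opens, IsAffineOpen U ∧ U ≤ W ∧ x.1 ∈ U := fun x => by
    obtain ⟨U, hU, hx, hUW⟩ := Y.isBasis_affineOpens.exists_subset_of_mem_open x.2 W.isOpen
    obtain ⟨U', hU', rfl⟩ := hU
    exact ⟨U', hU', hUW, hx⟩
  choose U hU hUW hxU using key
  obtain ⟨s, hs⟩ := (hc W).elim_finite_subcover (fun x => (U x : Set Y)) (fun x => (U x).isOpen)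
    fun x hx => Set.mem_iUnion.2 ⟨⟨x, hx⟩, hxU ⟨x, hx⟩⟩
  have hW : W = s.sup U := le_antisymm (fun x hx => by
    obtain ⟨i, hi, hxi⟩ := Set.mem_iUnion₂.1 (hs hx)
    exact (Finset.le_sup (f := U) hi : U i ≤ _) hxi) (Finset.sup_le fun i _ => hUW i)
  rw [hW]
  refine phiBij_finset_sup s U fun t _ hne => ?_
  obtain ⟨i, hi⟩ := hne
  exact hA (U i) _ (hU i) (Finset.inf_le hi)

end Groth.Agent.ProperFormalH7
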