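import Groth.Agent.Lib.ProperFormalH7.ExtSect
import Groth.Agent.Lib.ProperFormalH7.Nak
import Groth.Agent.Lib.ProperFormalH7.PhiMV
import Groth.Agent.Lib.FormalModH7.RpushSigma

/-!
# Cohomology of coherent modules has no divisible classes along the ideal of definition
-/

set_option autoImplicit false
set_option linter.style.haveILetI false
set_option linter.unusedSectionVars false
set_option backward.isDefEq.respectTransparency false
set_option backward.isDefEq.respectTransparency.types false
set_option synthInstance.maxHeartbeats 400000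
universe u

open CategoryTheory CategoryTheory.Limits AlgebraicGeometry Opposite TopologicalSpace

noncomputable section

namespace Groth.Agent.ProperFormalH7

open ModFlat16

section Mul

variable {X : TopCat.{u}} (O : Sheaf (Opens.grothendieckTopology X) CommRingCat.{u})
  (g : O.obj.obj (op (⊤ : Opens X)))

/-- A global section on an open. -/
abbrev res₀ (U : Opens X) : O.obj.obj (op U) := rmap O (homOfLE (le_top : U ≤ ⊤)) g

theorem rmap_res₀ {U V : Opens X} (l : V ⟶ U) : rmap O l (res₀ O g U) = res₀ O g V := by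
  rw [res₀, res₀, ← rmap_comp]
  rfl

/-- Multiplication by a global section on a module. -/
def mulG (M : ModSite.Mod O) : M ⟶ M where
  val :=
    { app := fun U => ModuleCat.ofHom (R := (ModSite.ringSh O).obj.obj U)
        { toFun := fun x => (res₀ O g U.unop • x : ModSite.sect M U.unop)
          map_add' := fun x y => smul_add _ _ _
          map_smul' := fun c x => by
            change res₀ O g U.unop • (show O.obj.obj U from c) • (x : ModSite.sect M U.unop) =
              (show O.obj.obj U from c) • res₀ O g U.unop • (x : ModSite.sect M U.unop)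
            rw [← mul_smul, ← mul_smul]
            exact congrArg (· • (x : ModSite.sect M U.unop)) (mul_comm (G := O.obj.obj U) _ _) }
      naturality := fun {U V} l => by
        refine ModuleCat.hom_ext (LinearMap.ext fun x => ?_)
        change res₀ O g V.unop • smap M l.unop x = smap M l.unop (res₀ O g U.unop • x)
        rw [smap_smul, rmap_res₀] }

theorem mulG_app (M : ModSite.Mod O) (U : Opens X) (x : ModSite.sect M U) :
    (mulG O g M).val.app (op U) x = res₀ O g U • x := rfl

/-- Multiplication by a global section. -/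
def mulNat : 𝟭 (ModSite.Mod O) ⟶ 𝟭 (ModSite.Mod O) where
  app := mulG O g
  naturality {M N} φ := by
    ext U x
    exact ((φ.val.app U).hom.map_smul (res₀ O g U.unop) x).symm

variable [HasExt.{u} (ModSite.Mod O)]

theorem mulG_freeOn (U : Opens X) : mulG O g (ModSite.freeOn O U) = smF O U (res₀ O g U) :=
  (ev O U).injective (by
    rw [ev_smF]
    conv_lhs => rw [← Category.id_comp (mulG O g _), ev_comp]
    rfl)

variable [EnoughInjectives (ModSite.Mod O)]

theorem post_mulG (U : Opens X) (M : ModSite.Mod O) (n : ℕ) (ξ : XC O U M n) :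
    XC.post (mulG O g M) ξ = res₀ O g U • ξ := by
  rw [XC.smul_def, ← mulG_freeOn]
  exact comp_mk₀_endo O (mulNat O g) _ n M ξ

/-- Divisibility properties may be read on `Hc`. -/
theorem bijective_phiSeq_iff (U : Opens X) (M : ModSite.Mod O) (n : ℕ) :
    Function.Bijective (phiSeq (res₀ O g U) (XC O U M n)) ↔
      Function.Bijective (phiE _ ((FormalModH7.abO O).map (mulG O g M)) n U) := by
  let E : XC O U M n → CohFound.Hc ((FormalModH7.abO O).obj M) n U := FormalModH7.extFree O U M n
  have hE : Function.Bijective E := FormalModH7.bijective_extFree O U M n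
  have hadd : ∀ x y : XC O U M n, E (x - y) = E x - E y := fun x y => by
    change CohFound.huExt _ n U _ = CohFound.huExt _ n U _ - CohFound.huExt _ n U _
    rw [← map_sub]
    exact congrArg _ (map_sub (SiteCoh.extCompHom (R := FormalModH7.abO O) (SiteRlim.univSection O U) M n)
      (x : Abelian.Ext.{u} _ _ n) y)
  have hc : (fun z => E ∘ z) ∘ phiSeq (res₀ O g U) (XC O U M n) =
      phiE _ ((FormalModH7.abO O).map (mulG O g M)) n U ∘ fun z => E ∘ z := by
    funext z i
    change E (z i - _) = E (z i) - _
    rw [hadd, ← post_mulG]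
    exact congrArg (E (z i) - ·) (FormalModH7.extFree_comp O U (mulG O g M) n (z (i + 1)))
  have hcE : Function.Bijective (fun z : ℕ → XC O U M n => E ∘ z) := hE.comp_left
  rw [← Function.Bijective.of_comp_iff' hcE, hc, Function.Bijective.of_comp_iff _ hcE]

end Mul

attribute [local instance] HasDerivedCategory.standard

variable {𝔛 : FSch.Sys.{u}} (hN : 𝔛.IsLocNoethFormal) [CompactSpace (𝔛.X 0)]
  [HasExt.{u} (ModSite.Mod (𝔛.Osh hN.1))] [EnoughInjectives (ModSite.Mod (𝔛.Osh hN.1))]
  (𝔉 : FSch.ModF 𝔛 hN.1) [SheafOfModules.IsFinitePresentation (R := ModSite.ringSh (𝔛.Osh hN.1)) 𝔉]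

open FormalModH7 in
/-- The classes of a coherent module have no divisible sequences along the ideal of definition. -/
theorem bijective_phiSeq_coh (g : AV 𝔛 hN.1 ⊤) (hg : g ∈ defIdeal 𝔛 hN.1 ⊤) (U : (𝔛.X 0).Opens) (n : ℕ) :
    Function.Bijective (phiSeq (res₀ (𝔛.Osh hN.1) g U) (XC (𝔛.Osh hN.1) U 𝔉 n)) := by
  refine (bijective_phiSeq_iff (𝔛.Osh hN.1) g U 𝔉 n).2 (phiBij_of_affine (isCompact_opens hN) (fun V hV m => ?_) U n)
  rcases m with _ | m
  · refine (bijective_phiSeq_iff (𝔛.Osh hN.1) g V 𝔉 0).1 ?_
    haveI := (structure_AV hN hV).1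
    haveI := (structure_AV hN hV).2.1
    haveI : Module.Finite (AV 𝔛 hN.1 V) (XC (𝔛.Osh hN.1) V 𝔉 0) :=
      haveI := finite_FSec hN 𝔉 hV
      Module.Finite.equiv (M := FSec hN 𝔉 V) (XC.sect₀ V 𝔉).symm
    refine bijective_phiSeq_of_finite (A := AV 𝔛 hN.1 V) (defIdeal 𝔛 hN.1 V) ?_
    have h := rA_mem_pow hN.1 (le_top : V ≤ ⊤) 1 (a := g) (by rwa [pow_one])
    rwa [pow_one] at h
  · haveI : Subsingleton (CohFound.Hc ((abO (𝔛.Osh hN.1)).obj 𝔉) (m + 1) V) := subsingleton_hc_coh hN 𝔉 hV m
    exact ⟨fun _ _ _ => Subsingleton.elim _ _, fun y => ⟨y, Subsingleton.elim _ _⟩⟩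

end Groth.Agent.ProperFormalH7
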