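import Groth.Agent.Lib.FormalModH7.Forms
import Mathlib.RingTheory.Flat.EquationalCriterion

/-!
# Restriction between affine opens is flat
-/

set_option autoImplicit false
set_option linter.style.haveILetI false
set_option backward.isDefEq.respectTransparency false
universe u

open CategoryTheory CategoryTheory.Limits AlgebraicGeometry Opposite TopologicalSpace

namespace Groth.Agent.ProperFormalH7

open FormalModH7

variable {𝔛 : FSch.Sys.{u}} (hN : 𝔛.IsLocNoethFormal) {V W : (𝔛.X 0).Opens}

theorem flat_rA (hV : IsAffineOpen V) (hW : IsAffineOpen W) (i : W ≤ V) :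
    letI : Algebra (AV 𝔛 hN.1 V) (AV 𝔛 hN.1 W) := (rA hN.1 i).toAlgebra
    Module.Flat (AV 𝔛 hN.1 V) (AV 𝔛 hN.1 W) := by
  letI : Algebra (AV 𝔛 hN.1 V) (AV 𝔛 hN.1 W) := (rA hN.1 i).toAlgebra
  classical
  refine Module.Flat.iff_forall_isTrivialRelation.2 fun {l f x} h => ?_
  have h0 : ∀ j ∈ ({0} : Finset (Fin 1)), ∑ k, x k * rA hN.1 i (f k) = 0 := fun j _ =>
    (Finset.sum_congr rfl fun k _ => mul_comm (x k) (rA hN.1 i (f k))).trans h
  obtain ⟨c, hc⟩ := Finsupp.mem_span_range_iff_exists_finsupp.1 (mem_span_sol hN hV hW i (fun _ => f) _ x h0)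
  refine ⟨c.support.card, fun k j => ((c.support.equivFin.symm j).1.1 k), fun j => c (c.support.equivFin.symm j).1,
    fun k => ?_, fun j => ?_⟩
  · have h1 := congrFun hc k
    rw [Finsupp.sum, Finset.sum_apply] at h1
    rw [← h1, ← Finset.sum_coe_sort]
    refine Fintype.sum_equiv c.support.equivFin _ _ fun a => ?_
    simp only [Equiv.symm_apply_apply, Pi.smul_apply, smul_eq_mul, Algebra.smul_def]
    exact mul_comm _ _
  · rw [← (c.support.equivFin.symm j).1.2 0 (Finset.mem_singleton_self 0)]
    exact Finset.sum_congr rfl fun k _ => mul_comm _ _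

end Groth.Agent.ProperFormalH7
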