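import Groth.Agent.Lib.ProperFormalH7.Base
import Groth.Agent.Lib.ProperFormalH7.Complete
import Groth.Agent.Lib.ProperFormalH7.Flat

/-!
# Finiteness and base change over an affine target
-/

set_option autoImplicit false
set_option linter.style.haveILetI false
set_option linter.unusedSectionVars false
set_option backward.isDefEq.respectTransparency false
set_option backward.isDefEq.respectTransparency.types false
set_option maxHeartbeats 1000000
set_option synthInstance.maxHeartbeats 400000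
set_option synthInstance.maxSize 1024
universe u

open CategoryTheory CategoryTheory.Limits AlgebraicGeometry Opposite TopologicalSpace

noncomputable section

namespace Groth.Agent.ProperFormalH7

open FormalModH7

attribute [local instance] HasDerivedCategory.standard

section Defect

variable {C : Type u} [SmallCategory C] {J : GrothendieckTopology C} {O_C : Sheaf J CommRingCat.{u}}
  {D : Type u} [SmallCategory D] {K : GrothendieckTopology D} {O_D : Sheaf K CommRingCat.{u}}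
  (f : ModSite.RMor O_C O_D) [HasExt.{u} (ModSite.Mod O_C)]

/-- Classes one degree lower. -/
def Cs (W : D) (Q : ModSite.Mod O_C) : ℕ → Type u
  | 0 => PUnit
  | n + 1 => XW f W Q n

instance (W : D) (Q : ModSite.Mod O_C) : ∀ n, AddCommGroup (Cs f W Q n)
  | 0 => inferInstanceAs (AddCommGroup PUnit)
  | n + 1 => inferInstanceAs (AddCommGroup (XW f W Q n))

instance (W : D) (Q : ModSite.Mod O_C) : ∀ n, Module (O_D.obj.obj (op W)) (Cs f W Q n)
  | 0 => inferInstanceAs (Module (O_D.obj.obj (op W)) PUnit)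
  | n + 1 => inferInstanceAs (Module (O_D.obj.obj (op W)) (XW f W Q n))

namespace Cs

variable {f} {W W' : D} {Q : ModSite.Mod O_C}

/-- Restriction. -/
def res (l : W' ⟶ W) : ∀ n, Cs f W Q n →+ Cs f W' Q n
  | 0 => 0
  | _ + 1 => XW.res l

theorem res_smul (l : W' ⟶ W) : ∀ (n : ℕ) (a : O_D.obj.obj (op W)) (x : Cs f W Q n),
    res l n (a • x) = ModFlat16.rmap O_D l a • res l n x
  | 0, _, _ => (smul_zero _).symm
  | _ + 1, a, x => XW.res_smul l a x

variable {T : ShortComplex (ModSite.Mod O_C)} (hT : T.ShortExact)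

/-- The connecting maps. -/
def delta : ∀ n, Cs f W T.X₃ n →ₗ[O_D.obj.obj (op W)] XW f W T.X₁ n
  | 0 => 0
  | n + 1 => XW.delta hT n

theorem exact_delta (W : D) : ∀ n,
    Function.Exact (delta (f := f) (W := W) hT n) (XW.post (f := f) (W := W) (n := n) T.f)
  | 0 => by
    intro y
    constructor
    · intro hy
      exact ⟨0, (map_zero _).trans (XW.injective_post_zero f W hT ((map_zero _).trans hy.symm))⟩
    · rintro ⟨x, rfl⟩
      exact map_zero _
  | n + 1 => XW.exact_delta' f W hT n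

theorem res_delta (l : W' ⟶ W) : ∀ (n : ℕ) (x : Cs f W T.X₃ n),
    delta hT n (res l n x) = XW.res l (delta hT n x)
  | 0, _ => (map_zero _).symm
  | n + 1, x => (XW.res_delta hT l x).symm

end Cs

end Defect

variable {𝔛 𝔜 : FSch.Sys.{u}} (hX : 𝔛.IsLocNoethFormal) (hY : 𝔜.IsLocNoethFormal) [CompactSpace (𝔛.X 0)]
  [CompactSpace (𝔜.X 0)] (f : 𝔛 ⟶ 𝔜)
  [HasExt.{u} (ModSite.Mod (𝔛.Osh hX.1))] [HasExt.{u} (ModSite.Mod (𝔜.Osh hY.1))]
  [EnoughInjectives (ModSite.Mod (𝔛.Osh hX.1))] [SiteCmp.HasRpushD (FSch.homMor f hX.1 hY.1)]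
  [HasInjectiveResolutions (FSch.ModF 𝔛 hX.1)]

/-- A global section of the target as one of the source. -/
def gX (g : AV 𝔜 hY.1 ⊤) : AV 𝔛 hX.1 ⊤ :=
  phiV hX hY f (V := ⊤) (W := ⊤) (fun _ _ => trivial) g

theorem res₀_gX (g : AV 𝔜 hY.1 ⊤) (V : (𝔛.X 0).Opens) (W : (𝔜.X 0).Opens)
    (e : V ≤ ((f : FSch.Hom 𝔛 𝔜).app 0) ⁻¹ᵁ W) :
    res₀ (𝔛.Osh hX.1) (gX hX hY f g) V = phiV hX hY f e (rA hY.1 (le_top : W ≤ ⊤) g) := by
  refine (rA_comp hX.1 _ (le_top : V ≤ ⊤) _).trans ?_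
  refine Eq.trans ?_ (congrArg (rA hX.1 e) (XW.shp_rmap (f := fM hX hY f) (homOfLE (le_top : W ≤ ⊤)) g).symm)
  exact (rA_comp hX.1 _ e _).symm

theorem gX_mem (g : AV 𝔜 hY.1 ⊤) (hg : g ∈ defIdeal 𝔜 hY.1 ⊤) : gX hX hY f g ∈ defIdeal 𝔛 hX.1 ⊤ := by
  rw [gX, defIdeal, RingHom.mem_ker, prj_phiV]
  erw [RingHom.mem_ker.1 hg]
  exact map_zero _

theorem post_mulG_W (g : AV 𝔜 hY.1 ⊤) (W : (𝔜.X 0).Opens) (M : FSch.ModF 𝔛 hX.1) (n : ℕ)
    (ξ : XW (fM hX hY f) W M n) :
    XW.post (mulG (𝔛.Osh hX.1) (gX hX hY f g) M) ξ = rA hY.1 (le_top : W ≤ ⊤) g • ξ := by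
  refine (post_mulG (𝔛.Osh hX.1) (gX hX hY f g) _ M n (XW.toXC ξ)).trans ?_
  refine congrArg (· • XW.toXC ξ) ((res₀_gX hX hY f g _ W le_rfl).trans ?_)
  exact congrFun (congrArg DFunLike.coe (congrArg CommRingCat.Hom.hom ((𝔛.Osh hX.1).obj.map_id _))) _

theorem phiSeq_injective_W (g : AV 𝔜 hY.1 ⊤) (hg : g ∈ defIdeal 𝔜 hY.1 ⊤) (W : (𝔜.X 0).Opens)
    (M : FSch.ModF 𝔛 hX.1) (hM : FSch.IsCohF 𝔛 hX.1 M) (n : ℕ) :
    Function.Injective (phiSeq (rA hY.1 (le_top : W ≤ ⊤) g) (XW (fM hX hY f) W M n)) := by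
  haveI : SheafOfModules.IsFinitePresentation (R := ModSite.ringSh (𝔛.Osh hX.1)) M := hM
  have h := (bijective_phiSeq_coh hX M (gX hX hY f g) (gX_mem hX hY f g hg) ((fM hX hY f).fn.obj W) n).1
  intro a b hab
  refine h (funext fun i => ?_)
  have e := fun ξ : XW (fM hX hY f) W M n =>
    (post_mulG (𝔛.Osh hX.1) (gX hX hY f g) _ M n (XW.toXC ξ)).symm.trans (post_mulG_W hX hY f g W M n ξ)
  have := congrFun hab i
  simp only [phiSeq] at this ⊢
  rw [← e, ← e] at this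
  exact this

section Step

variable [IsAffine (𝔜.X 0)] (g : AV 𝔜 hY.1 ⊤) (hg : g ∈ defIdeal 𝔜 hY.1 ⊤) (M : FSch.ModF 𝔛 hX.1)
  (hM : FSch.IsCohF 𝔛 hX.1 M)

include hg hM in
/-- Finiteness and base change pass through a factorisation of multiplication by an element of the ideal of
definition. -/
theorem finBC_step {K G Q : FSch.ModF 𝔛 hX.1} (i : K ⟶ M) (α : M ⟶ G) (β : G ⟶ M) (p : M ⟶ Q)
    (w₁ : i ≫ α = 0) (w₂ : β ≫ p = 0) (h₁ : (ShortComplex.mk i α w₁).ShortExact)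
    (h₂ : (ShortComplex.mk β p w₂).ShortExact) (hαβ : α ≫ β = mulG (𝔛.Osh hX.1) (gX hX hY f g) M)
    (hK : FinBC hX hY f K) (hQ : FinBC hX hY f Q) : FinBC hX hY f M := by
  have hmul : ∀ (W : (𝔜.X 0).Opens) (n : ℕ) (ξ : XW (fM hX hY f) W M n),
      XW.post β (XW.post α ξ) = rA hY.1 (le_top : W ≤ ⊤) g • ξ := fun W n ξ => by
    rw [XW.post_post, hαβ, post_mulG_W]
  have hfin : ∀ (W : (𝔜.X 0).Opens), IsAffineOpen W → ∀ n,
      Module.Finite (AV 𝔜 hY.1 W) (XW (fM hX hY f) W M n) := fun W hW n => by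
    haveI := (structure_AV hY hW).1
    haveI := (structure_AV hY hW).2.1
    haveI := hK.fin W hW (n + 1)
    haveI := hQ.fin W hW n
    haveI := finite_quotient_range (g := rA hY.1 (le_top : W ≤ ⊤) g) (XW.post (f := fM hX hY f) (W := W) (n := n) α)
      (XW.delta h₁ n) (XW.post β) (XW.post p) (fun z hz => (XW.exact_delta (fM hX hY f) W h₁ n z).1 hz)
      (fun y hy => (XW.exact_post (fM hX hY f) W h₂ n y).1 hy) (hmul W n)
    refine finite_of_quotient (defIdeal 𝔜 hY.1 W) ?_ (phiSeq_injective_W hX hY f g hg W M hM n)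
    have h := rA_mem_pow hY.1 (le_top : W ≤ ⊤) 1 (a := g) (by rwa [pow_one])
    rwa [pow_one] at h
  refine ⟨hfin, fun W W' hW hW' l n => ?_⟩
  letI : Algebra (AV 𝔜 hY.1 W) (AV 𝔜 hY.1 W') := (rA hY.1 l).toAlgebra
  haveI := flat_rA hY hW hW' l
  haveI := (structure_AV hY hW').1
  haveI := (structure_AV hY hW').2.1
  haveI := hfin W hW
  haveI := hfin W' hW'
  have hmem : rA hY.1 l (rA hY.1 (le_top : W ≤ ⊤) g) ∈ defIdeal 𝔜 hY.1 W' := by
    rw [rA_comp]
    have h := rA_mem_pow hY.1 (le_top : W' ≤ ⊤) 1 (a := g) (by rwa [pow_one])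
    rwa [pow_one] at h
  refine bijective_bc_of_defects
    (AS := fun n => XW (fM hX hY f) W K n) (FS := fun n => XW (fM hX hY f) W M n)
    (HS := fun n => XW (fM hX hY f) W G n) (CS := fun n => Cs (fM hX hY f) W Q n)
    (AT := fun n => XW (fM hX hY f) W' K n) (FT := fun n => XW (fM hX hY f) W' M n)
    (HT := fun n => XW (fM hX hY f) W' G n) (CT := fun n => Cs (fM hX hY f) W' Q n)
    (fun n => XW.post i) (fun n => XW.post α) (fun n => XW.delta h₁ n)
    (fun n => Cs.delta h₂ n) (fun n => XW.post β) (fun n => XW.post (n := n) p)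
    (fun n => XW.post i) (fun n => XW.post α) (fun n => XW.delta h₁ n)
    (fun n => Cs.delta h₂ n) (fun n => XW.post β) (fun n => XW.post (n := n) p)
    (fun n => resW hX hY f K l n) (fun n => resW hX hY f M l n) (fun n => resW hX hY f G l n)
    (fun n => Cs.res (homOfLE l) n)
    (fun n => resW_smul hX hY f K l n) (fun n => resW_smul hX hY f M l n) (fun n => resW_smul hX hY f G l n)
    (fun n => Cs.res_smul (homOfLE l) n) (rA hY.1 (le_top : W ≤ ⊤) g)
    (fun n => XW.exact_post _ W h₁ n) (fun n => XW.exact_delta _ W h₁ n) (fun n => XW.exact_delta' _ W h₁ n)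
    (fun n => Cs.exact_delta h₂ W n) (fun n => XW.exact_post _ W h₂ n) (fun n => XW.exact_delta _ W h₂ n)
    (fun n => XW.exact_post _ W' h₁ n) (fun n => XW.exact_delta _ W' h₁ n) (fun n => XW.exact_delta' _ W' h₁ n)
    (fun n => Cs.exact_delta h₂ W' n) (fun n => XW.exact_post _ W' h₂ n) (fun n => XW.exact_delta _ W' h₂ n)
    (fun n x => (XW.res_post (homOfLE l) i x).symm) (fun n x => (XW.res_post (homOfLE l) α x).symm)
    (fun n x => (XW.res_delta h₁ (homOfLE l) x).symm) (fun n x => Cs.res_delta h₂ (homOfLE l) n x)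
    (fun n x => (XW.res_post (homOfLE l) β x).symm) (fun n x => (XW.res_post (homOfLE l) p x).symm)
    (fun n x => hmul W n x) (fun n x => (hmul W' n x).trans
      (congrArg (· • x) (rA_comp hY.1 (le_top : W ≤ ⊤) l g).symm))
    (fun n => hK.bc W W' hW hW' l n) (fun n => ?_) (IsAdicComplete.le_jacobson_bot _ hmem) n
  rcases n with _ | n
  · haveI : Subsingleton (Cs (fM hX hY f) W' Q 0) := inferInstanceAs (Subsingleton PUnit)
    haveI : Subsingleton (Cs (fM hX hY f) W Q 0) := inferInstanceAs (Subsingleton PUnit)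
    haveI : Subsingleton (TensorProduct (AV 𝔜 hY.1 W) (AV 𝔜 hY.1 W') (Cs (fM hX hY f) W Q 0)) := inferInstance
    exact ⟨fun _ _ _ => Subsingleton.elim _ _, fun y => ⟨0, Subsingleton.elim _ _⟩⟩
  · exact hQ.bc W W' hW hW' l n

end Step

section Factor

variable {A : Type*} [Category A] [Abelian A] (τ : 𝟭 A ⟶ 𝟭 A)

theorem endo_mono {K M : A} (ι : K ⟶ M) [Mono ι] (h : ι ≫ τ.app M = 0) : τ.app K = 0 := by
  rw [← cancel_mono ι, zero_comp]
  exact (τ.naturality ι).symm.trans h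

theorem endo_epi {M Q : A} (π : M ⟶ Q) [Epi π] (h : τ.app M ≫ π = 0) : τ.app Q = 0 := by
  rw [← cancel_epi π, comp_zero]
  exact (τ.naturality π).trans h

theorem exists_factor (M : A) :
    ∃ (K G Q : A) (i : K ⟶ M) (α : M ⟶ G) (β : G ⟶ M) (p : M ⟶ Q) (w₁ : i ≫ α = 0) (w₂ : β ≫ p = 0),
      (ShortComplex.mk i α w₁).ShortExact ∧ (ShortComplex.mk β p w₂).ShortExact ∧ α ≫ β = τ.app M ∧
      τ.app K = 0 ∧ τ.app Q = 0 ∧ Nonempty (K ≅ kernel (τ.app M)) ∧ Nonempty (Q ≅ cokernel (τ.app M)) ∧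
      ∀ σ : 𝟭 A ⟶ 𝟭 A, σ.app M = 0 → σ.app K = 0 ∧ σ.app Q = 0 := by
  have e : Abelian.factorThruImage (τ.app M) ≫ Abelian.image.ι (τ.app M) = τ.app M := Abelian.image.fac _
  have w₁ : kernel.ι (τ.app M) ≫ Abelian.factorThruImage (τ.app M) = 0 := by
    rw [← cancel_mono (Abelian.image.ι (τ.app M)), zero_comp]
    exact (Category.assoc _ _ _).trans ((congrArg (kernel.ι (τ.app M) ≫ ·) e).trans (kernel.condition _))
  have w₂ : Abelian.image.ι (τ.app M) ≫ cokernel.π (τ.app M) = 0 := by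
    rw [← cancel_epi (Abelian.factorThruImage (τ.app M)), comp_zero]
    exact (Category.assoc _ _ _).symm.trans ((congrArg (· ≫ cokernel.π (τ.app M)) e).trans (cokernel.condition _))
  refine ⟨_, _, _, kernel.ι (τ.app M), Abelian.factorThruImage (τ.app M), Abelian.image.ι (τ.app M),
    cokernel.π (τ.app M), w₁, w₂, { exact := ?_ }, { exact := ?_ }, e, endo_mono τ _ (kernel.condition (τ.app M)),
    endo_epi τ _ (cokernel.condition (τ.app M)), ⟨Iso.refl _⟩, ⟨Iso.refl _⟩, fun σ hσ =>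
      ⟨endo_mono σ (kernel.ι (τ.app M)) ((congrArg (kernel.ι (τ.app M) ≫ ·) hσ).trans comp_zero),
       endo_epi σ (cokernel.π (τ.app M)) ((congrArg (· ≫ cokernel.π (τ.app M)) hσ).trans zero_comp)⟩⟩
  · exact ShortComplex.exact_of_f_is_kernel _ (KernelFork.IsLimit.ofι _ _
      (fun g hg => kernel.lift _ g (by
        rw [← e]; exact (Category.assoc _ _ _).symm.trans ((congrArg (· ≫ Abelian.image.ι (τ.app M)) hg).trans zero_comp)))
      (fun g hg => kernel.lift_ι _ _ _) fun g hg m hm => by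
        rw [← cancel_mono (kernel.ι (τ.app M))]
        exact hm.trans (kernel.lift_ι _ _ _).symm)
  · exact ShortComplex.exact_of_g_is_cokernel _ (CokernelCofork.IsColimit.ofπ _ _
      (fun g hg => cokernel.desc _ g (by
        rw [← e]; exact (Category.assoc _ _ _).trans ((congrArg (Abelian.factorThruImage (τ.app M) ≫ ·) hg).trans comp_zero)))
      (fun g hg => cokernel.π_desc _ _ _) fun g hg m hm => by
        rw [← cancel_epi (cokernel.π (τ.app M))]
        exact hm.trans (cokernel.π_desc _ _ _).symm)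

end Factor

variable [IsAffine (𝔜.X 0)] [IsProper ((f : FSch.Hom 𝔛 𝔜).app 0)]

/-- Modules killed by generators of the ideal of definition are torsion. -/
theorem isTors_of_mulG (hf : FSch.IsAdicHom f) {r : ℕ} (g : Fin r → AV 𝔜 hY.1 ⊤)
    (hg : Ideal.span (Set.range g) = defIdeal 𝔜 hY.1 ⊤) (M : FSch.ModF 𝔛 hX.1)
    (h : ∀ k, mulG (𝔛.Osh hX.1) (gX hX hY f (g k)) M = 0) : FTors.IsTors (FTorsH7.fam hX) M := by
  intro U s
  refine (FTors.IsTorsSect.iff_exists s).2 ⟨affSieve U, affSieve_mem U, fun W'' l hl => ?_⟩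
  obtain ⟨V, hV, h1, h2⟩ := hl
  let e : V ≤ ((f : FSch.Hom 𝔛 𝔜).app 0) ⁻¹ᵁ (⊤ : (𝔜.X 0).Opens) := fun _ _ => trivial
  have hspan : Ideal.span (Set.range fun k => phiV hX hY f e (g k)) = defIdeal 𝔛 hX.1 V := by
    rw [← map_defIdeal_phiV hX hY f hf hV (isAffineOpen_top _) e, ← hg, Ideal.map_span, ← Set.range_comp]
    rfl
  obtain ⟨n, hn⟩ := FTorsH7.exists_killedBy_of_kl (g := fun k => phiV hX hY f e (g k)) (e := le_refl V) hV hspan hV
    (s := ModFlat16.smap M (homOfLE h2) s) ⟨1, fun k _ => by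
      rw [pow_one]
      have h0 := congrArg (fun φ : M ⟶ M => φ.val.app (op V) (ModFlat16.smap M (homOfLE h2) s)) (h k)
      refine Eq.trans (congrArg (· • ModFlat16.smap M (homOfLE h2) s) ?_) h0
      refine Eq.trans ?_ (rA_comp hX.1 _ (le_top : V ≤ ⊤) _).symm
      exact rA_comp hX.1 e le_rfl _⟩
  refine ⟨n, ?_⟩
  rw [show l = homOfLE h1 ≫ homOfLE h2 from Subsingleton.elim _ _, FTors.res_comp]
  exact hn.res (homOfLE h1)

/-- Coherent modules have finite cohomology over affine opens, commuting with restriction. -/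
theorem finBC_coh (hf : FSch.IsAdicHom f) (M : FSch.ModF 𝔛 hX.1) (hM : FSch.IsCohF 𝔛 hX.1 M) :
    FinBC hX hY f M := by
  obtain ⟨r, g, hg⟩ := FTorsH7.exists_gens_defIdeal hY (isAffineOpen_top (𝔜.X 0))
  suffices key : ∀ (j : ℕ) (M : FSch.ModF 𝔛 hX.1), FSch.IsCohF 𝔛 hX.1 M →
      (∀ k : Fin r, j ≤ k.1 → mulG (𝔛.Osh hX.1) (gX hX hY f (g k)) M = 0) → FinBC hX hY f M from
    key r M hM fun k hk => absurd k.2 (by omega)
  intro j
  induction j with
  | zero => exact fun M hM h => finBC_of_tors hX hY f M hM (isTors_of_mulG hX hY f hf g hg M fun k => h k (Nat.zero_le _))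
  | succ j ih =>
    intro M hM h
    by_cases hj : j < r
    swap
    · exact ih M hM fun k hk => absurd k.2 (by omega)
    haveI : SheafOfModules.IsFinitePresentation (R := ModSite.ringSh (𝔛.Osh hX.1)) M := hM
    have hmem : g ⟨j, hj⟩ ∈ defIdeal 𝔜 hY.1 ⊤ := hg ▸ Ideal.subset_span (Set.mem_range_self _)
    obtain ⟨K, G, Q, i, α, β, p, w₁, w₂, h₁, h₂, hαβ, hK0, hQ0, ⟨eK⟩, ⟨eQ⟩, hσ⟩ :=
      exists_factor (mulNat (𝔛.Osh hX.1) (gX hX hY f (g ⟨j, hj⟩))) M
    let cls : ObjectProperty (FSch.ModF 𝔛 hX.1) :=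
      SheafOfModules.isFinitePresentation.{u} (ModSite.ringSh (𝔛.Osh hX.1))
    have hK : FSch.IsCohF 𝔛 hX.1 K := cls.prop_of_iso eK.symm (isFinitePresentation_kernel hX (mulG (𝔛.Osh hX.1) (gX hX hY f (g ⟨j, hj⟩)) M))
    have hQ : FSch.IsCohF 𝔛 hX.1 Q := cls.prop_of_iso eQ.symm (isFinitePresentation_coker hX (mulG (𝔛.Osh hX.1) (gX hX hY f (g ⟨j, hj⟩)) M))
    refine finBC_step hX hY f (g ⟨j, hj⟩) hmem M hM i α β p w₁ w₂ h₁ h₂ hαβ (ih K hK fun k hjk => ?_)
      (ih Q hQ fun k hjk => ?_)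
    · rcases Nat.eq_or_lt_of_le hjk with hkj | hkj
      · obtain rfl : k = ⟨j, hj⟩ := Fin.ext hkj.symm
        exact hK0
      · exact (hσ (mulNat (𝔛.Osh hX.1) (gX hX hY f (g k))) (h k hkj)).1
    · rcases Nat.eq_or_lt_of_le hjk with hkj | hkj
      · obtain rfl : k = ⟨j, hj⟩ := Fin.ext hkj.symm
        exact hQ0
      · exact (hσ (mulNat (𝔛.Osh hX.1) (gX hX hY f (g k))) (h k hkj)).2

end Groth.Agent.ProperFormalH7
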