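import Groth.Agent.Lib.ProperFormalH7.Sections
import Groth.Agent.Lib.ProperFormalH7.Adic
import Groth.Agent.Lib.FTorsH7.RpushQCT
import Groth.Agent.Lib.FormalModH7.RpushSigma

/-!
# Finiteness and base change for the cohomology of coherent torsion modules
-/

set_option autoImplicit false
set_option linter.style.haveILetI false
set_option linter.unusedSectionVars false
set_option backward.isDefEq.respectTransparency false
set_option backward.isDefEq.respectTransparency.types false
set_option maxHeartbeats 1000000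
set_option synthInstance.maxHeartbeats 400000
set_option synthInstance.maxSize 1024
universe u

open CategoryTheory CategoryTheory.Limits AlgebraicGeometry Opposite TopologicalSpace

noncomputable section

namespace Groth.Agent.ProperFormalH7

open FormalModH7

attribute [local instance] HasDerivedCategory.standard

variable {𝔛 𝔜 : FSch.Sys.{u}} (hX : 𝔛.IsLocNoethFormal) (hY : 𝔜.IsLocNoethFormal) [CompactSpace (𝔛.X 0)]
  [CompactSpace (𝔜.X 0)] (f : 𝔛 ⟶ 𝔜)
  [HasExt.{u} (ModSite.Mod (𝔛.Osh hX.1))] [HasExt.{u} (ModSite.Mod (𝔜.Osh hY.1))]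
  [EnoughInjectives (ModSite.Mod (𝔛.Osh hX.1))] [SiteCmp.HasRpushD (FSch.homMor f hX.1 hY.1)]
  [HasInjectiveResolutions (FSch.ModF 𝔛 hX.1)]

/-- The morphism of ringed spaces. -/
abbrev fM : ModSite.RMor (𝔛.Osh hX.1) (𝔜.Osh hY.1) := FSch.homMor f hX.1 hY.1

/-- Restriction of classes between opens of the target. -/
abbrev resW (M : FSch.ModF 𝔛 hX.1) {W' W : (𝔜.X 0).Opens} (i : W' ≤ W) (n : ℕ) :
    XW (fM hX hY f) W M n →+ XW (fM hX hY f) W' M n := XW.res (homOfLE i)

theorem resW_smul (M : FSch.ModF 𝔛 hX.1) {W' W : (𝔜.X 0).Opens} (i : W' ≤ W) (n : ℕ) (a : AV 𝔜 hY.1 W)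
    (ξ : XW (fM hX hY f) W M n) : resW hX hY f M i n (a • ξ) = rA hY.1 i a • resW hX hY f M i n ξ :=
  XW.res_smul (homOfLE i) a ξ

/-- Finiteness over the affine opens of the target and base change between them. -/
structure FinBC (M : FSch.ModF 𝔛 hX.1) : Prop where
  fin : ∀ (W : (𝔜.X 0).Opens), IsAffineOpen W → ∀ n,
    Module.Finite (AV 𝔜 hY.1 W) (XW (fM hX hY f) W M n)
  bc : ∀ (W W' : (𝔜.X 0).Opens), IsAffineOpen W → IsAffineOpen W' → ∀ (i : W' ≤ W) (n : ℕ),
    letI : Algebra (AV 𝔜 hY.1 W) (AV 𝔜 hY.1 W') := (rA hY.1 i).toAlgebra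
    Function.Bijective (bcLift (resW hX hY f M i n) (resW_smul hX hY f M i n))

/-- Coherent modules have no higher classes on affine opens. -/
theorem subsingleton_xc_coh (R : FSch.ModF 𝔜 hY.1) (hR : FSch.IsCohF 𝔜 hY.1 R) {W : (𝔜.X 0).Opens}
    (hW : IsAffineOpen W) (k : ℕ) (hk : 0 < k) : Subsingleton (XC (𝔜.Osh hY.1) W R k) := by
  haveI : SheafOfModules.IsFinitePresentation (R := ModSite.ringSh (𝔜.Osh hY.1)) R := hR
  obtain ⟨m, rfl⟩ : ∃ m, k = m + 1 := ⟨k - 1, by omega⟩
  haveI : Subsingleton (CohFound.Hc ((abO (𝔜.Osh hY.1)).obj R) (m + 1) W) := subsingleton_hc_coh hY R hW m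
  exact (bijective_extFree (𝔜.Osh hY.1) W R (m + 1)).1.subsingleton

variable [IsProper ((f : FSch.Hom 𝔛 𝔜).app 0)] (M : FSch.ModF 𝔛 hX.1) (hM : FSch.IsCohF 𝔛 hX.1 M)
  (hT : FTors.IsTors (FTorsH7.fam hX) M)

include hM hT in
theorem isCohF_Rq (q : ℕ) : FSch.IsCohF 𝔜 hY.1 ((Rq (fM hX hY f) q).obj M) :=
  (FTorsH7.good_inD_coh hX hY f _ (FTorsH7.five_cohTors hY) (fun _ h => FTorsH7.cohTors_of_isZero hY h)
    (fun G hG q => FTorsH7.cohTors_HMod_inD_jPush hX hY f G hG q) M hM hT (q : ℤ)).2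

include hM hT in
/-- Coherent torsion modules have finite cohomology commuting with restriction to affine opens. -/
theorem finBC_of_tors : FinBC hX hY f M := by
  have hac : ∀ (W : (𝔜.X 0).Opens), IsAffineOpen W → ∀ (n q : ℕ), q < n → ∀ k, 0 < k →
      Subsingleton (XC (𝔜.Osh hY.1) W ((Rq (fM hX hY f) q).obj M) k) := fun W hW _ q _ k hk =>
    subsingleton_xc_coh hY _ (isCohF_Rq hX hY f M hM hT q) hW k hk
  constructor
  · intro W hW n
    haveI : SheafOfModules.IsFinitePresentation (R := ModSite.ringSh (𝔜.Osh hY.1)) ((Rq (fM hX hY f) n).obj M) :=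
      isCohF_Rq hX hY f M hM hT n
    haveI := finite_FSec hY ((Rq (fM hX hY f) n).obj M) hW
    exact Module.Finite.equiv (M := FSec hY ((Rq (fM hX hY f) n).obj M) W)
      (XW.etaLin (fM hX hY f) W M n (hac W hW n)).symm
  · intro W W' hW hW' i n
    letI : Algebra (AV 𝔜 hY.1 W) (AV 𝔜 hY.1 W') := (rA hY.1 i).toAlgebra
    haveI : SheafOfModules.IsFinitePresentation (R := ModSite.ringSh (𝔜.Osh hY.1)) ((Rq (fM hX hY f) n).obj M) :=
      isCohF_Rq hX hY f M hM hT n
    haveI := (structure_AV hY hW).1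
    let e := XW.etaLin (fM hX hY f) W M n (hac W hW n)
    let e' := XW.etaLin (fM hX hY f) W' M n (hac W' hW' n)
    have he : ∀ ξ, e' (resW hX hY f M i n ξ) = rF hY ((Rq (fM hX hY f) n).obj M) i (e ξ) := fun ξ =>
      eta_res (fM hX hY f) (homOfLE i) (XW.toXC ξ)
    obtain ⟨ι, _, s, hs⟩ := exists_gens hY ((Rq (fM hX hY f) n).obj M) hW
    obtain ⟨r, R, hR⟩ := (Submodule.fg_iff_exists_fin_generating_family (N := LinearMap.ker
      (Fintype.linearCombination (AV 𝔜 hY.1 W) s))).1 (IsNoetherian.noetherian _)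
    let R' : ULift.{u} (Fin r) → ι → AV 𝔜 hY.1 W := fun p => R p.down
    have hR' : Submodule.span (AV 𝔜 hY.1 W) (Set.range R') = LinearMap.ker (Fintype.linearCombination (AV 𝔜 hY.1 W) s) := by
      rw [← hR]; congr 1
      exact Equiv.ulift.surjective.range_comp R
    have hsW : Submodule.span (AV 𝔜 hY.1 W) (Set.range fun j => e.symm (s j)) = ⊤ := by
      rw [span_map_equiv e.symm s, hs, Submodule.map_top, LinearEquiv.range]
    refine bijective_bcLift _ _ (fun j => e.symm (s j)) hsW ?_ R' (fun p => ?_) fun c hc => ?_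
    · apply Submodule.map_injective_of_injective (f := e'.toLinearMap) e'.injective
      rw [← span_map_equiv e', Submodule.map_top, LinearEquiv.range]
      simp only [he, LinearEquiv.apply_symm_apply]
      exact span_rF hY _ hW hW' i s hs
    · apply e.injective
      rw [map_sum, map_zero]
      simp only [map_smul, LinearEquiv.apply_symm_apply]
      have hp : R' p ∈ LinearMap.ker (Fintype.linearCombination (AV 𝔜 hY.1 W) s) :=
        hR' ▸ Submodule.subset_span ⟨p, rfl⟩
      exact hp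
    · refine rels_rF hY ((Rq (fM hX hY f) n).obj M) hW hW' i s R' (fun a ha => ?_) c ?_
      · rw [hR']
        exact ha
      · have h0 := congrArg e' hc
        rw [map_sum, map_zero] at h0
        simpa only [map_smul, he, LinearEquiv.apply_symm_apply] using h0

end Groth.Agent.ProperFormalH7
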