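import Groth.Agent.Lib.CohFound.Rpush
import Groth.Agent.Lib.SiteCoh.ExtAdj
import Groth.Agent.Lib.CohFound.Bridge

/-!
# Cohomology of direct images along closed embeddings, naturally
-/

set_option autoImplicit false
set_option linter.style.haveILetI false
set_option linter.unusedSectionVars false
set_option backward.isDefEq.respectTransparency false
set_option backward.isDefEq.respectTransparency.types false
set_option maxHeartbeats 1000000
universe u

open CategoryTheory CategoryTheory.Limits TopologicalSpace Opposite Abelian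

noncomputable section

namespace Groth.Agent.ProperFormalH7

open CohFound

variable {X Y : TopCat.{u}} (f : X ⟶ Y) (hf : Topology.IsClosedEmbedding f)

include hf in
theorem exact_push : PreservesFiniteLimits (CohTop.push f) ∧ PreservesFiniteColimits (CohTop.push f) := by
  have hS : ∀ S : ShortComplex (CohTop.Ab X), S.ShortExact → (S.map (CohTop.push f)).ShortExact := fun S hS =>
    shortExact_push_of_locKilled f hS (locKilled_of_isClosedEmbedding f hf 0 S.X₁)
  exact ((CohTop.push f).exact_tfae.out 0 3).1 hS

/-- The generating section of the whole space. -/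
def etaC : freeU (⊤ : Opens Y) ⟶ (CohTop.push f).obj (freeU (⊤ : Opens X)) :=
  (freeHomAddEquiv ⊤ _).symm (gen (⊤ : Opens X))

theorem bijective_etaC (G : CohTop.Ab X) :
    Function.Bijective fun φ : freeU (⊤ : Opens X) ⟶ G => etaC f ≫ (CohTop.push f).map φ := by
  have e : (fun φ : freeU (⊤ : Opens X) ⟶ G => etaC f ≫ (CohTop.push f).map φ) =
      (freeHomAddEquiv (⊤ : Opens Y) ((CohTop.push f).obj G)).symm ∘ freeHomAddEquiv (⊤ : Opens X) G :=
    funext fun φ => (freeHomAddEquiv (⊤ : Opens Y) ((CohTop.push f).obj G)).injective (by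
      rw [freeHomAddEquiv_comp, etaC, AddEquiv.apply_symm_apply, Function.comp_apply, AddEquiv.apply_symm_apply,
        freeHomAddEquiv_apply]
      rfl)
  rw [e]
  exact (AddEquiv.bijective _).comp (AddEquiv.bijective _)

/-- Classes of a direct image along a closed embedding. -/
def pushEquiv [HasExt.{u} (CohTop.Ab X)] [HasExt.{u} (CohTop.Ab Y)] (G : CohTop.Ab X) (n : ℕ) :
    Hc G n (⊤ : Opens X) ≃+ Hc ((CohTop.push f).obj G) n (⊤ : Opens Y) :=
  haveI := (exact_push f hf).1
  haveI := (exact_push f hf).2
  AddEquiv.ofBijective (SiteCoh.extCompHom (R := CohTop.push f) (etaC f) G n)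
    (SiteCoh.bijective_extCompHom (etaC f) (bijective_etaC f) (fun I hI k => by
      haveI := hI
      have := isFlasque_of_injective I
      have : TopCat.Sheaf.IsFlasque ((CohTop.push f).obj I) :=
        TopCat.Sheaf.IsFlasque.pushforward_isFlasque I f
      exact subsingleton_hc_of_isFlasque _ k ⊤) n G)

include hf in
theorem pushEquiv_map {G G' : CohTop.Ab X} (φ : G ⟶ G') (n : ℕ) (x : Hc G n (⊤ : Opens X)) :
    pushEquiv f hf G' n (mp φ n ⊤ x) = mp ((CohTop.push f).map φ) n ⊤ (pushEquiv f hf G n x) := by
  haveI := (exact_push f hf).1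
  haveI := (exact_push f hf).2
  refine (SiteCoh.extCompHom_comp (etaC f) x (Abelian.Ext.mk₀ φ) (add_zero n)).trans ?_
  rw [Abelian.Ext.mapExactFunctor_mk₀]
  rfl

include hf in
/-- Cohomology of a direct image along a closed embedding. -/
def hPushEquiv (G : CohTop.Ab X) (n : ℕ) : CohTop.H G n ≃+ CohTop.H ((CohTop.push f).obj G) n :=
  (hExt G n).trans ((pushEquiv f hf G n).trans (hExt _ n).symm)

theorem hPushEquiv_map {G G' : CohTop.Ab X} (φ : G ⟶ G') (n : ℕ) (x : CohTop.H G n) :
    hPushEquiv f hf G' n (Sheaf.H.map φ n x) = Sheaf.H.map ((CohTop.push f).map φ) n (hPushEquiv f hf G n x) := by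
  refine (hExt ((CohTop.push f).obj G') n).symm_apply_eq.2 ?_
  refine ((congrArg (pushEquiv f hf G' n) (hExt_map φ n x)).trans (pushEquiv_map f hf φ n _)).trans ?_
  refine Eq.trans ?_ (hExt_map ((CohTop.push f).map φ) n _).symm
  exact congrArg _ ((hExt ((CohTop.push f).obj G) n).apply_symm_apply _).symm

end Groth.Agent.ProperFormalH7
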