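import Groth.Agent.Lib.ProperFormalH7.CplLimSys
import Groth.Agent.Lib.SiteCmp16.RpushTrunc
import Groth.Agent.Lib.FormalH7.Adic

/-!
# Formal functions for a completion of a proper scheme
-/

set_option autoImplicit false
set_option linter.style.haveILetI false
set_option linter.unusedSectionVars false
set_option backward.isDefEq.respectTransparency false
set_option backward.isDefEq.respectTransparency.types false
set_option maxHeartbeats 1000000
set_option synthInstance.maxHeartbeats 400000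
set_option synthInstance.maxSize 1024
universe u

open CategoryTheory CategoryTheory.Limits AlgebraicGeometry Opposite TopologicalSpace

noncomputable section

namespace Groth.Agent.ProperFormalH7

open FormalModH7

attribute [local instance] HasDerivedCategory.standard

section Phi

variable {A : Type u} [CommRing A] (J : Ideal A) {X : Scheme.{u}} [X.Over (Spec (CommRingCat.of A))]
  [IsLocallyNoetherian X] (𝓘 : X.IdealSheafData)
  (h𝓘 : 𝓘 = (FSch.idealSpec A J).comap (X ↘ Spec (CommRingCat.of A)))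
  (h : (FSch.completionAlong X 𝓘).IsFormal) (F : X.Modules) (hF : Coh.IsCoh F)

/-- The comparison of a quotient by a power with a level, as an isomorphism. -/
def psiIso (k : ℕ) : Formal.modPow J (k + 1) F ≅
    ((tsm 𝓘 h).push.obj ((lvS (hC 𝓘 h) (Fh 𝓘 h F)).obj (op k)) : X.Modules) :=
  @asIso _ _ _ _ (psiK J 𝓘 h𝓘 h F hF k) (isIso_psiK J 𝓘 h𝓘 h F hF k)

theorem psiIso_trans (k : ℕ) :
    (psiIso J 𝓘 h𝓘 h F hF (k + 1)).inv ≫ Formal.modPowTrans J (k + 1) F =
      ((tsm 𝓘 h).push.map (FSch.levelTrans (FSch.completionAlong X 𝓘) h (Fh 𝓘 h F) k) :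
        ((tsm 𝓘 h).push.obj ((lvS (hC 𝓘 h) (Fh 𝓘 h F)).obj (op (k + 1))) : X.Modules) ⟶ _) ≫
      (psiIso J 𝓘 h𝓘 h F hF k).inv := by
  rw [Iso.inv_comp_eq, ← Category.assoc, Iso.eq_comp_inv]
  exact (psiK_trans J 𝓘 h𝓘 h F hF k).symm

end Phi

variable {A : Type u} [CommRing A] [IsNoetherianRing A] (J : Ideal A) {X : Scheme.{u}}
  [X.Over (Spec (CommRingCat.of A))] [IsProper (X ↘ Spec (CommRingCat.of A))]

theorem formalFunctions_completion (𝓚 : X.IdealSheafData)
    (h𝓚 : 𝓚 = (FSch.idealSpec A J).comap (X ↘ Spec (CommRingCat.of A)))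
    (hX : (FSch.completionAlong X 𝓚).IsFormal) (F : X.Modules) (hF : Coh.IsCoh F) (n : ℕ) :
    Nonempty (FSch.HF (FSch.completionAlong X 𝓚) hX ((tsm 𝓚 hX).pull.obj F) n ≃+ Formal.HHlim J F n) := by
  subst h𝓚
  let f₀ := X ↘ Spec (CommRingCat.of A)
  let 𝓙 := FSch.idealSpec A J
  haveI : IsLocallyNoetherian X := LocallyOfFiniteType.isLocallyNoetherian f₀
  have hX' := hC (𝓙.comap f₀) hX
  have hY : (FSch.completionAlong (Spec (CommRingCat.of A)) 𝓙).IsLocNoethFormal :=
    isLocNoethFormal_completionAlong 𝓙 (FormalH7.isFormal_isAdic_completionAlong _ 𝓙).1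
  have hpc : FSch.PowCompat f₀ (𝓙.comap f₀) 𝓙 := fun m => (BlowUpExist.comap_pow ..).le
  let f := FSch.completionMap f₀ (𝓙.comap f₀) 𝓙 hpc
  have hfa : FSch.IsAdicHom f := FormalH7.isAdicHom_completionMap f₀ 𝓙 hpc
  haveI : IsAffine ((FSch.completionAlong (Spec (CommRingCat.of A)) 𝓙).X 0) :=
    IsClosedImmersion.isAffine_surjective_of_isAffine (FSch.completionToX (Spec (CommRingCat.of A)) 𝓙 0) |>.1
  haveI : IsProper ((f : FSch.Hom _ _).app 0) :=
    MorphismProperty.of_isPullback (FormalH7.isPullback_completionMap f₀ 𝓙 hpc 0) ‹_›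
  haveI : CompactSpace ((FSch.completionAlong X (𝓙.comap f₀)).X 0) :=
    QuasiCompact.compactSpace_of_compactSpace ((f : FSch.Hom _ _).app 0)
  haveI : IsGrothendieckAbelian.{u} (FSch.ModF (FSch.completionAlong X (𝓙.comap f₀)) hX'.1) :=
    CohFound.isGrothendieckAbelian_sheafOfModules (ModSite.ringSh ((FSch.completionAlong X (𝓙.comap f₀)).Osh hX'.1))
  haveI := IsGrothendieckAbelian.enoughInjectives (C := FSch.ModF (FSch.completionAlong X (𝓙.comap f₀)) hX'.1)
  haveI : IsGrothendieckAbelian.{u} (FSch.ModF (FSch.completionAlong (Spec (CommRingCat.of A)) 𝓙) hY.1) :=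
    CohFound.isGrothendieckAbelian_sheafOfModules
      (ModSite.ringSh ((FSch.completionAlong (Spec (CommRingCat.of A)) 𝓙).Osh hY.1))
  haveI : HasInjectiveResolutions (FSch.ModF (FSch.completionAlong X (𝓙.comap f₀)) hX'.1) := inferInstance
  haveI : SiteCmp.HasRpushD (FSch.homMor f hX'.1 hY.1) :=
    KInjLib.hasRightDerivedFunctor KInjLib.enoughKInj_of_grothendieck _
  obtain ⟨hinj, hlift⟩ := hF_bijective hX' hY f hfa (Fh (𝓙.comap f₀) hX F) (isCohF_Fh (𝓙.comap f₀) hX F hF) n
  refine nonempty_lim_tsm (G := Fh (𝓙.comap f₀) hX F) (𝓙.comap f₀) hX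
    (fun k => (FSch.levelMor (FSch.completionAlong X (𝓙.comap f₀)) hX'.1 k).adj.unit.app (Fh (𝓙.comap f₀) hX F))
    (fun k => FSch.levelTrans (FSch.completionAlong X (𝓙.comap f₀)) hX'.1 (Fh (𝓙.comap f₀) hX F) k)
    ?_ (P := fun k => Formal.modPow J (k + 1) F)
    (fun k => Formal.modPowTrans J (k + 1) F)
    ?_ ?_ n (Formal.HHlim J F n) ?_ ?_ ?_
  · exact fun k => FSch.unit_levelTrans (FSch.completionAlong X (𝓙.comap f₀)) hX'.1 (Fh (𝓙.comap f₀) hX F) k
  · exact psiIso J (𝓙.comap f₀) rfl hX F hF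
  · exact psiIso_trans J (𝓙.comap f₀) rfl hX F hF
  · exact fun _ => Iff.rfl
  · exact hinj
  · exact hlift

end Groth.Agent.ProperFormalH7
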