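import Groth.Agent.Lib.ProperFormalH7.FormalFun
import Groth.Agent.Lib.ProperFormalH7.ClosedH
import Groth.Agent.Lib.FormalModH7.CplPull
import Groth.Agent.Lib.FormalModH7.CplBridge

/-!
# The levels of the inverse image of a coherent module to a completion
-/

set_option autoImplicit false
set_option linter.style.haveILetI false
set_option linter.unusedSectionVars false
set_option backward.isDefEq.respectTransparency false
set_option backward.isDefEq.respectTransparency.types false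
set_option maxHeartbeats 1000000
set_option synthInstance.maxHeartbeats 400000
set_option synthInstance.maxSize 1024
universe u

open CategoryTheory CategoryTheory.Limits AlgebraicGeometry Opposite TopologicalSpace

noncomputable section

namespace Groth.Agent.ProperFormalH7

open FormalModH7

variable {A : Type u} [CommRing A] (J : Ideal A) {X : Scheme.{u}} [X.Over (Spec (CommRingCat.of A))]
  [IsLocallyNoetherian X] (𝓘 : X.IdealSheafData)
  (h𝓘 : 𝓘 = (FSch.idealSpec A J).comap (X ↘ Spec (CommRingCat.of A)))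
  (h : (FSch.completionAlong X 𝓘).IsFormal) (F : X.Modules)

/-- The completion is locally Noetherian. -/
abbrev hC : (FSch.completionAlong X 𝓘).IsLocNoethFormal := isLocNoethFormal_completionAlong 𝓘 h

/-- The inverse image to the completion. -/
abbrev Fh : FSch.ModF (FSch.completionAlong X 𝓘) h := (tsm 𝓘 h).pull.obj F

theorem isCohF_Fh (hF : Coh.IsCoh F) : FSch.IsCohF (FSch.completionAlong X 𝓘) h (Fh 𝓘 h F) := by
  haveI : SheafOfModules.IsFinitePresentation (R := ModSite.ringSh X.sheaf) F :=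
    M1.isFP_of_isCoh hF
  exact ModFlat16.isFinitePresentation_pull (f := tsm 𝓘 h) F

/-- The map to a level. -/
def thetaK (k : ℕ) : F ⟶ (tsm 𝓘 h).push.obj ((lvS (hC 𝓘 h) (Fh 𝓘 h F)).obj (op k)) :=
  (tsm 𝓘 h).adj.unit.app F ≫ (tsm 𝓘 h).push.map (unitL (hC 𝓘 h) (Fh 𝓘 h F) k)

theorem thetaK_app (k : ℕ) (U : X.Opens) (s : Γ(F, U)) :
    (thetaK 𝓘 h F k).val.app (op U) s =
      (unitL (hC 𝓘 h) (Fh 𝓘 h F) k).val.app (op (zO 𝓘 U)) (uS 𝓘 h F U s) := rfl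

variable (hF : Coh.IsCoh F)

include hF in
theorem bijective_gam_app (V : ((FSch.completionAlong X 𝓘).X 0).Opens) :
    Function.Bijective ((gam 𝓘 h F).val.app (op V)) := by
  haveI := isIso_gam 𝓘 h hF
  exact ConcreteCategory.bijective_of_isIso
    ((SheafOfModules.evaluation.{u} (ModSite.ringSh ((FSch.completionAlong X 𝓘).Osh h)) (op V)).map (gam 𝓘 h F))

include hF in
theorem mem_pow_iff_piM {U : X.Opens} (hU : IsAffineOpen U) (k : ℕ) (x : FSec (hC 𝓘 h) (Fh 𝓘 h F) (zO 𝓘 U)) :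
    x ∈ defIdeal (FSch.completionAlong X 𝓘) h (zO 𝓘 U) ^ (k + 1) •
        (⊤ : Submodule (AV (FSch.completionAlong X 𝓘) h (zO 𝓘 U)) (FSec (hC 𝓘 h) (Fh 𝓘 h F) (zO 𝓘 U))) ↔
      piM h (FSch.complMod 𝓘 F) (zO 𝓘 U) k ((gam 𝓘 h F).val.app (op (zO 𝓘 U)) x) = 0 := by
  let φ : FSec (hC 𝓘 h) (Fh 𝓘 h F) (zO 𝓘 U) →ₗ[AV (FSch.completionAlong X 𝓘) h (zO 𝓘 U)]
      RSec h (FSch.complMod 𝓘 F) (zO 𝓘 U) := ((gam 𝓘 h F).val.app (op (zO 𝓘 U))).hom
  have hb : Function.Bijective φ := bijective_gam_app 𝓘 h F hF _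
  have e : (defIdeal (FSch.completionAlong X 𝓘) h (zO 𝓘 U) ^ (k + 1) •
      (⊤ : Submodule (AV (FSch.completionAlong X 𝓘) h (zO 𝓘 U)) (FSec (hC 𝓘 h) (Fh 𝓘 h F) (zO 𝓘 U)))).map φ =
      defIdeal (FSch.completionAlong X 𝓘) h (zO 𝓘 U) ^ (k + 1) • ⊤ := by
    rw [Submodule.map_smul'', Submodule.map_top, LinearMap.range_eq_top.2 hb.2]
  refine (hb.1.mem_set_image (s := (↑(defIdeal (FSch.completionAlong X 𝓘) h (zO 𝓘 U) ^ (k + 1) •
    (⊤ : Submodule (AV (FSch.completionAlong X 𝓘) h (zO 𝓘 U)) (FSec (hC 𝓘 h) (Fh 𝓘 h F) (zO 𝓘 U)))) : Set _))).symm.trans ?_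
  rw [← Submodule.map_coe, e, ← ker_piM (FSch.complMod 𝓘 F) (hC 𝓘 h) (isCoh_complMod 𝓘 hF) (isAffineOpen_zO 𝓘 hU)]
  exact LinearMap.mem_ker

include hF in
theorem thetaK_eq_zero_iff {U : X.Opens} (hU : IsAffineOpen U) (k : ℕ) (s : Γ(F, U)) :
    (thetaK 𝓘 h F k).val.app (op U) s = 0 ↔ resC 𝓘 h F k U s = 0 := by
  haveI : SheafOfModules.IsFinitePresentation (R := ModSite.ringSh ((FSch.completionAlong X 𝓘).Osh h)) (Fh 𝓘 h F) :=
    isCohF_Fh 𝓘 h F hF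
  rw [thetaK_app]
  refine (ker_unitL (hC 𝓘 h) (isAffineOpen_zO 𝓘 hU) k _).trans ((mem_pow_iff_piM 𝓘 h F hF hU k _).trans ?_)
  refine Iff.of_eq (congrArg (· = 0) ?_)
  exact (congrArg (piM h (FSch.complMod 𝓘 F) (zO 𝓘 U) k) (gam_unit 𝓘 h F U s)).trans (piM_cplSec 𝓘 h F U s k)

include hF in
theorem thetaK_surjective {U : X.Opens} (hU : IsAffineOpen U) (k : ℕ) :
    Function.Surjective ((thetaK 𝓘 h F k).val.app (op U)) := fun y => by
  haveI : Coh.IsQCoh F := hF.1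
  haveI : SheafOfModules.IsFinitePresentation (R := ModSite.ringSh ((FSch.completionAlong X 𝓘).Osh h)) (Fh 𝓘 h F) :=
    isCohF_Fh 𝓘 h F hF
  obtain ⟨x, hx⟩ := FTorsH7.surjective_unitL (hC 𝓘 h) (Fh 𝓘 h F) (isAffineOpen_zO 𝓘 hU) k y
  obtain ⟨s, hs⟩ := resC_surjective 𝓘 h F hU k (piM h (FSch.complMod 𝓘 F) (zO 𝓘 U) k ((gam 𝓘 h F).val.app (op (zO 𝓘 U)) x))
  refine ⟨s, ?_⟩
  rw [thetaK_app]
  refine Eq.trans ?_ hx
  refine (sub_eq_zero.1 ?_).symm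
  refine Eq.trans (map_sub ((unitL (hC 𝓘 h) (Fh 𝓘 h F) k).val.app (op (zO 𝓘 U))).hom x (uS 𝓘 h F U s)).symm ?_
  refine (ker_unitL (hC 𝓘 h) (isAffineOpen_zO 𝓘 hU) k _).2 ((mem_pow_iff_piM 𝓘 h F hF hU k _).2 ?_)
  rw [map_sub, map_sub, sub_eq_zero, ← hs]
  exact ((congrArg (piM h (FSch.complMod 𝓘 F) (zO 𝓘 U) k) (gam_unit 𝓘 h F U s)).trans (piM_cplSec 𝓘 h F U s k)).symm

include h𝓘 hF in
theorem smulFamily_thetaK (k : ℕ) : Formal.smulFamily (J ^ (k + 1)) F ≫ thetaK 𝓘 h F k = 0 := by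
  haveI := hF.1
  refine (FormalH7.smulFamily_comp_eq_zero_iff _).2 fun a ha => ?_
  refine ModLimH13.hom_ext_affine _ _ fun x => ⟨⊤, trivial, fun W _ hW s => ?_⟩
  show (thetaK 𝓘 h F k).val.app (op W) ((Formal.smulMod A F a).app W s) = 0
  rw [thetaK_eq_zero_iff 𝓘 h F hF hW, resC_eq_zero_iff 𝓘 h F hW, ideal_eq_idl J 𝓘 h𝓘 hW, ← Ideal.map_pow]
  exact Submodule.smul_mem_smul (Ideal.mem_map_of_mem _ ha) Submodule.mem_top

/-- The comparison of a quotient by a power with a level. -/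
def psiK (k : ℕ) : Formal.modPow J (k + 1) F ⟶
    ((tsm 𝓘 h).push.obj ((lvS (hC 𝓘 h) (Fh 𝓘 h F)).obj (op k)) : X.Modules) :=
  cokernel.desc (Formal.smulFamily (J ^ (k + 1)) F) (thetaK 𝓘 h F k : F ⟶ _) (smulFamily_thetaK J 𝓘 h𝓘 h F hF k)

theorem π_psiK (k : ℕ) :
    Formal.modPowπ J (k + 1) F ≫ psiK J 𝓘 h𝓘 h F hF k = (thetaK 𝓘 h F k : F ⟶ _) :=
  cokernel.π_desc _ _ _

theorem psiK_trans (k : ℕ) :
    psiK J 𝓘 h𝓘 h F hF (k + 1) ≫ ((tsm 𝓘 h).push.map (FSch.levelTrans (FSch.completionAlong X 𝓘) h (Fh 𝓘 h F) k) :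
      ((tsm 𝓘 h).push.obj ((lvS (hC 𝓘 h) (Fh 𝓘 h F)).obj (op (k + 1))) : X.Modules) ⟶ _) =
      Formal.modPowTrans J (k + 1) F ≫ psiK J 𝓘 h𝓘 h F hF k := by
  haveI := FormalH7.epi_modPowπ J (k + 1 + 1) F
  rw [← cancel_epi (Formal.modPowπ J (k + 1 + 1) F), ← Category.assoc, π_psiK, ← Category.assoc,
    Formal.modPowπ_trans, π_psiK]
  refine (Category.assoc _ _ _).trans (congrArg ((tsm 𝓘 h).adj.unit.app F ≫ ·) ?_)
  refine ((tsm 𝓘 h).push.map_comp _ _).symm.trans (congrArg (tsm 𝓘 h).push.map ?_)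
  exact FSch.unit_levelTrans (FSch.completionAlong X 𝓘) h (Fh 𝓘 h F) k

theorem isIso_psiK (k : ℕ) : IsIso (psiK J 𝓘 h𝓘 h F hF k) := by
  haveI : Coh.IsQCoh F := hF.1
  have happ : ∀ (W : X.Opens) (s : Γ(F, W)),
      (psiK J 𝓘 h𝓘 h F hF k).app W ((Formal.modPowπ J (k + 1) F).app W s) = (thetaK 𝓘 h F k).val.app (op W) s :=
    fun W s => congrArg (fun q => q.app W s) (π_psiK J 𝓘 h𝓘 h F hF k)
  haveI : Mono (psiK J 𝓘 h𝓘 h F hF k) := by
    rw [M1.mono_iff_app]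
    intro U
    refine (injective_iff_map_eq_zero _).2 fun t ht => M1.section_ext _ _ fun x hx => ?_
    obtain ⟨W, hW, hxW, hWU⟩ := exists_isAffineOpen_mem_and_subset (x := x) (U := U) hx
    rw [← M1.germ_mres _ hWU hxW, map_zero]
    suffices h0 : M1.mres _ hWU t = 0 by rw [h0, map_zero]
    obtain ⟨s, hs⟩ := HomShH7.surjective_app_modPowπ J hF (k + 1) hW (M1.mres _ hWU t)
    rw [← hs, HomShH7.app_modPowπ_eq_zero_iff J hF.1 (k + 1) hW]
    have h1 : (thetaK 𝓘 h F k).val.app (op W) s = 0 := by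
      rw [← happ, hs, M1.app_mres, ht, map_zero]
    rw [thetaK_eq_zero_iff 𝓘 h F hF hW, resC_eq_zero_iff 𝓘 h F hW, ideal_eq_idl J 𝓘 h𝓘 hW] at h1
    exact h1
  haveI : Epi (psiK J 𝓘 h𝓘 h F hF k) := by
    rw [M1.epi_iff_locally_surjective]
    intro U t x hx
    obtain ⟨W, hW, hxW, hWU⟩ := exists_isAffineOpen_mem_and_subset (x := x) (U := U) hx
    obtain ⟨s, hs⟩ := thetaK_surjective 𝓘 h F hF hW k
      (M1.mres ((tsm 𝓘 h).push.obj ((lvS (hC 𝓘 h) (Fh 𝓘 h F)).obj (op k)) : X.Modules) hWU t)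
    exact ⟨W, hWU, hxW, (Formal.modPowπ J (k + 1) F).app W s, (happ W s).trans hs⟩
  exact isIso_of_mono_of_epi _

/-- Cohomology of the completion as cohomology of the scheme. -/
def hcPush (G : FSch.ModF (FSch.completionAlong X 𝓘) h) (n : ℕ) :
    FSch.HF (FSch.completionAlong X 𝓘) h G n ≃+ Coh.HH X ((tsm 𝓘 h).push.obj G : X.Modules) n :=
  hPushEquiv (FSch.completionToX X 𝓘 0).base (FSch.completionToX X 𝓘 0).isClosedEmbedding (ModSite.toAb G) n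

theorem hcPush_map {G G' : FSch.ModF (FSch.completionAlong X 𝓘) h} (φ : G ⟶ G') (n : ℕ)
    (x : FSch.HF (FSch.completionAlong X 𝓘) h G n) :
    hcPush 𝓘 h G' n (Sheaf.H.map ((SheafOfModules.toSheaf _).map φ) n x) =
      Sheaf.H.map ((SheafOfModules.toSheaf _).map ((tsm 𝓘 h).push.map φ : ((tsm 𝓘 h).push.obj G : X.Modules) ⟶ _)) n
        (hcPush 𝓘 h G n x) :=
  hPushEquiv_map (FSch.completionToX X 𝓘 0).base (FSch.completionToX X 𝓘 0).isClosedEmbedding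
    ((SheafOfModules.toSheaf _).map φ) n x

end Groth.Agent.ProperFormalH7
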