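import Groth.Agent.Lib.ProperFormalH7.CplLim

/-!
# Inverse limits of cohomology groups on a completion
-/

set_option autoImplicit false
set_option linter.style.haveILetI false
set_option linter.unusedSectionVars false
set_option backward.isDefEq.respectTransparency false
set_option backward.isDefEq.respectTransparency.types false
set_option maxHeartbeats 1000000
set_option synthInstance.maxHeartbeats 400000
set_option synthInstance.maxSize 1024
universe u

open CategoryTheory CategoryTheory.Limits AlgebraicGeometry Opposite TopologicalSpace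

noncomputable section

namespace Groth.Agent.ProperFormalH7

open FormalModH7

attribute [local instance] HasDerivedCategory.standard

variable {X : Scheme.{u}} [IsLocallyNoetherian X] (𝓘 : X.IdealSheafData) (h : (FSch.completionAlong X 𝓘).IsFormal)

/-- A limit of cohomology groups on a completion read through its direct images on the scheme. -/
theorem nonempty_lim_tsm {G : FSch.ModF (FSch.completionAlong X 𝓘) h}
    {Gk : ℕ → FSch.ModF (FSch.completionAlong X 𝓘) h} (u : ∀ k, G ⟶ Gk k) (tG : ∀ k, Gk (k + 1) ⟶ Gk k)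
    (hu : ∀ k, u (k + 1) ≫ tG k = u k) {P : ℕ → X.Modules} (tP : ∀ k, P (k + 1) ⟶ P k)
    (e : ∀ k, P k ≅ ((tsm 𝓘 h).push.obj (Gk k) : X.Modules))
    (he : ∀ k, (e (k + 1)).inv ≫ tP k =
      ((tsm 𝓘 h).push.map (tG k) : ((tsm 𝓘 h).push.obj (Gk (k + 1)) : X.Modules) ⟶ _) ≫ (e k).inv) (n : ℕ)
    (L : AddSubgroup (∀ k, Coh.HH X (P k) n)) (hL : ∀ y, y ∈ L ↔ ∀ k, hhMap (tP k) n (y (k + 1)) = y k)
    (hinj : ∀ x : FSch.HF (FSch.completionAlong X 𝓘) h G n, (∀ k, hfMap 𝓘 h (u k) n x = 0) → x = 0)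
    (hlift : ∀ y : ∀ k, FSch.HF (FSch.completionAlong X 𝓘) h (Gk k) n,
      (∀ k, hfMap 𝓘 h (tG k) n (y (k + 1)) = y k) → ∃ x, ∀ k, hfMap 𝓘 h (u k) n x = y k) :
    Nonempty (FSch.HF (FSch.completionAlong X 𝓘) h G n ≃+ L) :=
  nonempty_addEquiv_lim (fun k => hfMap 𝓘 h (u k) n) (fun k => hfMap 𝓘 h (tG k) n) (fun k => hhMap (tP k) n)
    (fun k => hcIsoEquiv 𝓘 h (e k) n) L hL
    (fun k z => hcIsoEquiv_map 𝓘 h (e (k + 1)) (e k) (tG k) (tP k) (he k) n z)
    (fun k x => hfMap_comp_eq 𝓘 h (hu k) n x) hinj hlift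

end Groth.Agent.ProperFormalH7
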