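import Groth.Agent.Lib.ProperFormalH7.Levels
import Groth.Agent.Lib.Algz27.ML27

/-!
# The theorem on formal functions for cohomology groups
-/

set_option autoImplicit false
set_option linter.style.haveILetI false
set_option linter.unusedSectionVars false
set_option backward.isDefEq.respectTransparency false
set_option backward.isDefEq.respectTransparency.types false
set_option maxHeartbeats 1000000
set_option synthInstance.maxHeartbeats 400000
set_option synthInstance.maxSize 1024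
universe u

open CategoryTheory CategoryTheory.Limits AlgebraicGeometry Opposite TopologicalSpace

noncomputable section

namespace Groth.Agent.ProperFormalH7

open FormalModH7

/-- The system of the levels of a module. -/
abbrev lvS {𝔛 : FSch.Sys.{u}} (hX : 𝔛.IsLocNoethFormal) (M : FSch.ModF 𝔛 hX.1) : ℕᵒᵖ ⥤ FSch.ModF 𝔛 hX.1 :=
  Functor.ofOpSequence (X := fun k => (FSch.levelMor 𝔛 hX.1 k).push.obj ((FSch.levelMor 𝔛 hX.1 k).pull.obj M))
    (FSch.levelTrans 𝔛 hX.1 M)

theorem lvS_succ {𝔛 : FSch.Sys.{u}} (hX : 𝔛.IsLocNoethFormal) (M : FSch.ModF 𝔛 hX.1) {l m : ℕ} (h : m ≤ l) :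
    (lvS hX M).map (homOfLE (Nat.le_succ_of_le h)).op =
      FSch.levelTrans 𝔛 hX.1 M l ≫ (lvS hX M).map (homOfLE h).op := by
  refine (congrArg (lvS hX M).map (show (homOfLE (Nat.le_succ_of_le h)).op =
    (homOfLE (Nat.le_add_right l 1)).op ≫ (homOfLE h).op from Subsingleton.elim _ _)).trans ?_
  rw [Functor.map_comp, Functor.ofOpSequence_map_homOfLE_succ]

/-- Natural maps along the levels. -/
theorem unitL_tr {𝔛 : FSch.Sys.{u}} (hX : 𝔛.IsLocNoethFormal) (M : FSch.ModF 𝔛 hX.1) :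
    ∀ {l m : ℕ} (h : m ≤ l), unitL hX M l ≫ (lvS hX M).map (homOfLE h).op = unitL hX M m := by
  intro l m h
  induction l, h using Nat.le_induction with
  | base =>
    rw [show (homOfLE (le_refl m)).op = 𝟙 (op m) from rfl, CategoryTheory.Functor.map_id]
    exact Category.comp_id _
  | succ l h ih =>
    refine (congrArg (unitL hX M (l + 1) ≫ ·) (lvS_succ hX M h)).trans ?_
    refine ((Category.assoc _ _ _).symm.trans (congrArg (· ≫ (lvS hX M).map (homOfLE h).op) ?_)).trans ih
    exact FSch.unit_levelTrans 𝔛 hX.1 M l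

section HC

variable {X : TopCat.{u}} (O : Sheaf (Opens.grothendieckTopology X) CommRingCat.{u}) [HasExt.{u} (ModSite.Mod O)]
  [EnoughInjectives (ModSite.Mod O)]

/-- The cohomology of the site as classes over the whole space. -/
def hcEquiv (M : ModSite.Mod O) (n : ℕ) : ModSite.HC O M n ≃ XC O ⊤ M n :=
  (CohFound.hExt (ModSite.toAb M) n).toEquiv.trans (Equiv.ofBijective _ (bijective_extFree O ⊤ M n)).symm

theorem hcEquiv_map {M N : ModSite.Mod O} (φ : M ⟶ N) (n : ℕ) (x : ModSite.HC O M n) :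
    hcEquiv O N n (Sheaf.H.map ((SheafOfModules.toSheaf _).map φ) n x) = XC.post φ (hcEquiv O M n x) := by
  refine (Equiv.ofBijective _ (bijective_extFree O ⊤ N n)).symm_apply_eq.2 ?_
  refine (CohFound.hExt_map _ n x).trans ?_
  refine Eq.trans ?_ (extFree_comp O ⊤ φ n (hcEquiv O M n x)).symm
  exact congrArg _ ((Equiv.ofBijective _ (bijective_extFree O ⊤ M n)).apply_symm_apply _).symm

end HC

attribute [local instance] HasDerivedCategory.standard

variable {𝔛 𝔜 : FSch.Sys.{u}} (hX : 𝔛.IsLocNoethFormal) (hY : 𝔜.IsLocNoethFormal) (f : 𝔛 ⟶ 𝔜)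
  [CompactSpace (𝔛.X 0)] [HasExt.{u} (ModSite.Mod (𝔛.Osh hX.1))]
  [HasExt.{u} (ModSite.Mod (𝔜.Osh hY.1))] [EnoughInjectives (ModSite.Mod (𝔛.Osh hX.1))]
  [SiteCmp.HasRpushD (FSch.homMor f hX.1 hY.1)] [HasInjectiveResolutions (FSch.ModF 𝔛 hX.1)]
  [IsAffine (𝔜.X 0)] [IsProper ((f : FSch.Hom 𝔛 𝔜).app 0)]

/-- The preimage of the whole target is everything. -/
theorem fn_obj_top : (fM hX hY f).fn.obj (⊤ : (𝔜.X 0).Opens) = (⊤ : (𝔛.X 0).Opens) := rfl

/-- Classes over the whole source are classes over the whole target. -/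
def topEquiv (M : FSch.ModF 𝔛 hX.1) (n : ℕ) : XC (𝔛.Osh hX.1) ⊤ M n ≃+ HT hX hY f M n :=
  (AddEquiv.refl (XC (𝔛.Osh hX.1) ((fM hX hY f).fn.obj (⊤ : (𝔜.X 0).Opens)) M n)).trans XW.toXC.symm

/-- Cohomology as classes over the whole target. -/
def hfEquiv (M : FSch.ModF 𝔛 hX.1) (n : ℕ) : FSch.HF 𝔛 hX.1 M n ≃ HT hX hY f M n :=
  (hcEquiv (𝔛.Osh hX.1) M n).trans (topEquiv hX hY f M n).toEquiv

theorem hfEquiv_map {M N : FSch.ModF 𝔛 hX.1} (φ : M ⟶ N) (n : ℕ) (x : FSch.HF 𝔛 hX.1 M n) :
    hfEquiv hX hY f N n (Sheaf.H.map ((SheafOfModules.toSheaf _).map φ) n x) =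
      XW.post φ (hfEquiv hX hY f M n x) :=
  congrArg (topEquiv hX hY f N n) (hcEquiv_map (𝔛.Osh hX.1) φ n x)

theorem hfEquiv_zero (M : FSch.ModF 𝔛 hX.1) (n : ℕ) : hfEquiv hX hY f M n 0 = 0 := by
  have h := hfEquiv_map hX hY f (0 : M ⟶ M) n 0
  rw [map_zero] at h
  refine h.trans ?_
  change Abelian.Ext.comp _ (Abelian.Ext.mk₀ 0) (add_zero n) = (0 : Abelian.Ext.{u} _ _ n)
  rw [Abelian.Ext.mk₀_zero, Abelian.Ext.comp_zero]

variable (hf : FSch.IsAdicHom f) (M : FSch.ModF 𝔛 hX.1) (hM : FSch.IsCohF 𝔛 hX.1 M) (n : ℕ)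

include hY hf hM in
/-- Classes are determined by the levels, and compatible classes of the levels lift. -/
theorem hF_bijective :
    (∀ x : FSch.HF 𝔛 hX.1 M n,
      (∀ k : ℕ, Sheaf.H.map ((SheafOfModules.toSheaf _).map ((FSch.levelMor 𝔛 hX.1 k).adj.unit.app M)) n x = 0) → x = 0) ∧
    (∀ y : ∀ k : ℕ, FSch.HF 𝔛 hX.1 ((FSch.levelMor 𝔛 hX.1 k).push.obj ((FSch.levelMor 𝔛 hX.1 k).pull.obj M)) n,
      (∀ k : ℕ, Sheaf.H.map ((SheafOfModules.toSheaf _).map (FSch.levelTrans 𝔛 hX.1 M k)) n (y (k + 1)) = y k) →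
      ∃ x : FSch.HF 𝔛 hX.1 M n, ∀ k : ℕ,
        Sheaf.H.map ((SheafOfModules.toSheaf _).map ((FSch.levelMor 𝔛 hX.1 k).adj.unit.app M)) n x = y k) := by
  refine ⟨fun x hx => (hfEquiv hX hY f M n).injective ?_, fun y hy => ?_⟩
  · rw [hfEquiv_zero]
    refine eq_zero_of_levels hX hY f hf hM (isLevels_unitL hX M hM) n _ fun m => ?_
    refine (hfEquiv_map hX hY f (unitL hX M m) n x).symm.trans ?_
    exact (congrArg _ (hx m)).trans (hfEquiv_zero hX hY f _ n)
  · let y' := fun k => hfEquiv hX hY f _ n (y k)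
    have hy' : ∀ {l m : ℕ} (h : m ≤ l), XW.post ((lvS hX M).map (homOfLE h).op) (y' l) = y' m := by
      intro l m h
      induction l, h using Nat.le_induction with
      | base =>
        rw [show (homOfLE (le_refl m)).op = 𝟙 (op m) from rfl, CategoryTheory.Functor.map_id]
        exact Abelian.Ext.comp_mk₀_id _
      | succ l h ih =>
        refine (congrArg (fun φ => XW.post φ (y' (l + 1))) (lvS_succ hX M h)).trans ?_
        refine (XW.post_post _ _ _).symm.trans ((congrArg (XW.post ((lvS hX M).map (homOfLE h).op)) ?_).trans ih)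
        exact (hfEquiv_map hX hY f _ n (y (l + 1))).symm.trans (congrArg _ (hy l))
    obtain ⟨x, hx⟩ := exists_of_levels hX hY f hf hM (isLevels_unitL hX M hM) n
      (fun {l m} h => (lvS hX M).map (homOfLE h).op) (fun h => unitL_tr hX M h) y' hy'
    refine ⟨(hfEquiv hX hY f M n).symm x, fun k => (hfEquiv hX hY f _ n).injective ?_⟩
    refine (hfEquiv_map hX hY f (unitL hX M k) n _).trans ?_
    refine (congrArg (XW.post (unitL hX M k)) ((hfEquiv hX hY f M n).apply_symm_apply x)).trans ?_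
    exact hx k

include hY hf hM in
/-- The cohomology groups of the levels satisfy the Mittag-Leffler condition. -/
theorem hF_isML :
    ARSys.IsML (Functor.ofOpSequence
      (X := fun k => AddCommGrpCat.of (FSch.HF 𝔛 hX.1 ((FSch.levelMor 𝔛 hX.1 k).push.obj ((FSch.levelMor 𝔛 hX.1 k).pull.obj M)) n))
      (fun k => AddCommGrpCat.ofHom
        (Sheaf.H.map ((SheafOfModules.toSheaf _).map (FSch.levelTrans 𝔛 hX.1 M k)) n))) := by
  let T := Functor.ofOpSequence
    (X := fun k => AddCommGrpCat.of (FSch.HF 𝔛 hX.1 ((FSch.levelMor 𝔛 hX.1 k).push.obj ((FSch.levelMor 𝔛 hX.1 k).pull.obj M)) n))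
    (fun k => AddCommGrpCat.ofHom
      (Sheaf.H.map ((SheafOfModules.toSheaf _).map (FSch.levelTrans 𝔛 hX.1 M k)) n))
  have hT : ∀ {l m : ℕ} (h : m ≤ l) (z : T.obj (op l)),
      hfEquiv hX hY f _ n (T.map (homOfLE h).op z) = XW.post ((lvS hX M).map (homOfLE h).op) (hfEquiv hX hY f _ n z) := by
    intro l m h
    induction l, h using Nat.le_induction with
    | base =>
      intro z
      rw [show (homOfLE (le_refl m)).op = 𝟙 (op m) from rfl, CategoryTheory.Functor.map_id,
        CategoryTheory.Functor.map_id]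
      exact (Abelian.Ext.comp_mk₀_id _).symm
    | succ l h ih =>
      intro z
      have e : T.map (homOfLE (Nat.le_succ_of_le h)).op = AddCommGrpCat.ofHom
          (Sheaf.H.map ((SheafOfModules.toSheaf _).map (FSch.levelTrans 𝔛 hX.1 M l)) n) ≫ T.map (homOfLE h).op := by
        refine (congrArg T.map (show (homOfLE (Nat.le_succ_of_le h)).op =
          (homOfLE (Nat.le_add_right l 1)).op ≫ (homOfLE h).op from Subsingleton.elim _ _)).trans ?_
        rw [Functor.map_comp, Functor.ofOpSequence_map_homOfLE_succ]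
      refine (congrArg (fun φ : T.obj (op (l + 1)) ⟶ T.obj (op m) => hfEquiv hX hY f _ n (φ z)) e).trans ?_
      refine (ih _).trans ((congrArg (XW.post ((lvS hX M).map (homOfLE h).op)) ?_).trans
        ((XW.post_post _ _ _).trans (congrArg (fun φ => XW.post φ (hfEquiv hX hY f _ n z)) (lvS_succ hX M h).symm)))
      exact hfEquiv_map hX hY f _ n z
  intro m
  obtain ⟨m₀, hm₀, h₀⟩ := exists_lift_level hX hY f hf hM (isLevels_unitL hX M hM) n m
  refine ⟨m₀ - m, fun s hs => le_antisymm ?_ ?_⟩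
  · refine AlgzLib.imageSubobject_le_of_comp_cokernel _ _ ?_
    have e : ARSys.shiftMap T s m =
        T.map (homOfLE (show m + (m₀ - m) ≤ m + s by omega)).op ≫ ARSys.shiftMap T (m₀ - m) m := by
      change T.map _ = T.map _ ≫ T.map _
      rw [← T.map_comp]
      rfl
    change ARSys.shiftMap T s m ≫ cokernel.π (ARSys.shiftMap T (m₀ - m) m) = 0
    rw [e, Category.assoc, cokernel.condition, comp_zero]
  · refine AlgzLib.imageSubobject_le_of_comp_cokernel _ _ ?_
    change ARSys.shiftMap T (m₀ - m) m ≫ cokernel.π (ARSys.shiftMap T s m) = 0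
    ext z
    obtain ⟨v, hv⟩ := h₀ (m + (m₀ - m)) (by omega) _ (unitL_tr hX M (Nat.le_add_right m _))
      (hfEquiv hX hY f _ n z)
    let w : T.obj (op (m + s)) :=
      (hfEquiv hX hY f _ n).symm (XW.post (unitL hX M (m + s)) v)
    have hw : ARSys.shiftMap T s m w = ARSys.shiftMap T (m₀ - m) m z := by
      refine (hfEquiv hX hY f _ n).injective ?_
      refine (hT (Nat.le_add_right m s) w).trans ?_
      refine Eq.trans ?_ (hT (Nat.le_add_right m (m₀ - m)) z).symm
      refine (congrArg (XW.post ((lvS hX M).map (homOfLE (Nat.le_add_right m s)).op))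
        ((hfEquiv hX hY f _ n).apply_symm_apply (XW.post (unitL hX M (m + s)) v))).trans ?_
      refine (XW.post_post _ _ _).trans (Eq.trans ?_ hv)
      exact congrArg (fun φ => XW.post φ v) (unitL_tr hX M (Nat.le_add_right m s))
    change cokernel.π (ARSys.shiftMap T s m) (ARSys.shiftMap T (m₀ - m) m z) = 0
    rw [← hw, ← ConcreteCategory.comp_apply, cokernel.condition]
    rfl

end Groth.Agent.ProperFormalH7
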