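import Groth.Agent.Lib.ProperFormalH7.MLAbs
import Groth.Agent.Lib.ProperFormalH7.Affine

/-!
# The theorem on formal functions over an affine target
-/

set_option autoImplicit false
set_option linter.style.haveILetI false
set_option linter.unusedSectionVars false
set_option backward.isDefEq.respectTransparency false
set_option backward.isDefEq.respectTransparency.types false
set_option maxHeartbeats 1000000
set_option synthInstance.maxHeartbeats 400000
set_option synthInstance.maxSize 1024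
universe u

open CategoryTheory CategoryTheory.Limits AlgebraicGeometry Opposite TopologicalSpace

noncomputable section

namespace Groth.Agent.ProperFormalH7

open FormalModH7

/-- The kernels of the powers of a scalar stabilise on a Noetherian module. -/
theorem exists_stab {A M : Type u} [CommRing A] [AddCommGroup M] [Module A M] [IsNoetherian A M] (a : A) :
    ∃ N, ∀ (i : ℕ) (x : M), a ^ i • x = 0 → a ^ N • x = 0 := by
  let φ : ℕ →o Submodule A M :=
    { toFun := fun i => LinearMap.ker (LinearMap.lsmul A M (a ^ i))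
      monotone' := fun i j hij x hx => by
        obtain ⟨d, rfl⟩ := Nat.exists_eq_add_of_le hij
        rw [LinearMap.mem_ker, LinearMap.lsmul_apply] at hx ⊢
        rw [add_comm, pow_add, mul_smul, hx, smul_zero] }
  obtain ⟨N, hN⟩ := monotone_stabilizes_iff_noetherian.2 inferInstance φ
  refine ⟨N, fun i x hx => ?_⟩
  rcases le_total i N with h | h
  · exact φ.monotone h (show x ∈ φ i from hx)
  · exact (hN i h ▸ (show x ∈ φ i from hx) : x ∈ φ N)

attribute [local instance] HasDerivedCategory.standard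

variable {𝔛 𝔜 : FSch.Sys.{u}} (hX : 𝔛.IsLocNoethFormal) (hY : 𝔜.IsLocNoethFormal)

/-- An epimorphic system whose kernels are the powers of the ideal of definition. -/
structure IsLevels (M : FSch.ModF 𝔛 hX.1) {Fm : ℕ → FSch.ModF 𝔛 hX.1} (p : ∀ m, M ⟶ Fm m) : Prop where
  epi : ∀ m, Epi (p m)
  ker : ∀ (V : (𝔛.X 0).Opens), IsAffineOpen V → ∀ (m : ℕ) (x : FSec hX M V),
    (p m).val.app (op V) x = 0 ↔ x ∈ defIdeal 𝔛 hX.1 V ^ (m + 1) • (⊤ : Submodule (AV 𝔛 hX.1 V) (FSec hX M V))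

theorem gX_pow (f : 𝔛 ⟶ 𝔜) (a : AV 𝔜 hY.1 ⊤) (i : ℕ) : gX hX hY f a ^ i = gX hX hY f (a ^ i) :=
  (map_pow (phiV hX hY f (V := ⊤) (W := ⊤) (fun _ _ => trivial)) a i).symm

/-- The levels of a coherent module. -/
theorem isLevels_unitL (M : FSch.ModF 𝔛 hX.1) (hM : FSch.IsCohF 𝔛 hX.1 M) :
    IsLevels hX M (fun m => unitL hX M m) :=
  haveI : SheafOfModules.IsFinitePresentation (R := ModSite.ringSh (𝔛.Osh hX.1)) M := hM
  ⟨fun m => FTorsH7.epi_unitL hX M m, fun _ hV m x => ker_unitL hX hV m x⟩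

/-- Maps are compared on affine opens. -/
theorem eq_zero_of_affine {M N : FSch.ModF 𝔛 hX.1} (φ : M ⟶ N)
    (h : ∀ V : (𝔛.X 0).Opens, IsAffineOpen V → ∀ x : FSec hX M V, φ.val.app (op V) x = 0) : φ = 0 := by
  refine SheafOfModules.Hom.ext (PresheafOfModules.hom_ext fun U => ModuleCat.hom_ext (LinearMap.ext fun y => ?_))
  obtain ⟨U⟩ := U
  refine FormalModH7.sect_ext N (affSieve U) (affSieve_mem U) fun W l hl => ?_
  obtain ⟨A, hA, h1, h2⟩ := hl
  show ModFlat16.smap N l (φ.val.app (op U) y) = ModFlat16.smap N l 0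
  rw [show l = homOfLE h1 ≫ homOfLE h2 from Subsingleton.elim _ _, ModFlat16.smap_comp, ← ModFlat16.app_smap,
    h A hA, map_zero, map_zero]

variable (f : 𝔛 ⟶ 𝔜) [CompactSpace (𝔛.X 0)] [HasExt.{u} (ModSite.Mod (𝔛.Osh hX.1))]
  [HasExt.{u} (ModSite.Mod (𝔜.Osh hY.1))] [EnoughInjectives (ModSite.Mod (𝔛.Osh hX.1))]
  [SiteCmp.HasRpushD (FSch.homMor f hX.1 hY.1)] [HasInjectiveResolutions (FSch.ModF 𝔛 hX.1)]
  [IsAffine (𝔜.X 0)] [IsProper ((f : FSch.Hom 𝔛 𝔜).app 0)]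

/-- The classes over the whole target. -/
abbrev HT (M : FSch.ModF 𝔛 hX.1) (n : ℕ) := XW (fM hX hY f) (⊤ : (𝔜.X 0).Opens) M n

theorem res₀_gX_smul (M : FSch.ModF 𝔛 hX.1) (n : ℕ) (a : AV 𝔜 hY.1 ⊤) (ξ : HT hX hY f M n) :
    XW.toXC.symm (res₀ (𝔛.Osh hX.1) (gX hX hY f a) ((fM hX hY f).fn.obj ⊤) • XW.toXC ξ) = a • ξ := by
  refine ((post_mulG (𝔛.Osh hX.1) (gX hX hY f a) _ M n (XW.toXC ξ)).symm.trans (post_mulG_W hX hY f a ⊤ M n ξ)).trans ?_
  exact congrArg (· • ξ) (congrFun (congrArg DFunLike.coe (congrArg CommRingCat.Hom.hom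
    ((𝔜.Osh hY.1).obj.map_id _))) a)

theorem post_gX (M : FSch.ModF 𝔛 hX.1) (n : ℕ) (a : AV 𝔜 hY.1 ⊤) (ξ : HT hX hY f M n) :
    XW.post (mulG (𝔛.Osh hX.1) (gX hX hY f a) M) ξ = a • ξ :=
  (post_mulG_W hX hY f a ⊤ M n ξ).trans (congrArg (· • ξ) (congrFun (congrArg DFunLike.coe
    (congrArg CommRingCat.Hom.hom ((𝔜.Osh hY.1).obj.map_id _))) a))

/-- The coherent modules form a class in which multiples of functions of the target stabilise. -/
def cohSetup (hf : FSch.IsAdicHom f) {r : ℕ} (g : Fin r → AV 𝔜 hY.1 ⊤) :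
    MLSetup (𝔛.Osh hX.1) ((fM hX hY f).fn.obj ⊤) fun t => gX hX hY f (g t) where
  P := fun M => FSch.IsCohF 𝔛 hX.1 M
  ker {M N} φ hM hN := by
    haveI : SheafOfModules.IsFinitePresentation (R := ModSite.ringSh (𝔛.Osh hX.1)) M := hM
    haveI : SheafOfModules.IsFinitePresentation (R := ModSite.ringSh (𝔛.Osh hX.1)) N := hN
    exact isFinitePresentation_kernel hX φ
  coker {M N} φ hM hN := by
    haveI : SheafOfModules.IsFinitePresentation (R := ModSite.ringSh (𝔛.Osh hX.1)) M := hM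
    haveI : SheafOfModules.IsFinitePresentation (R := ModSite.ringSh (𝔛.Osh hX.1)) N := hN
    exact isFinitePresentation_coker hX φ
  stab M t hM := by
    classical
    haveI : SheafOfModules.IsFinitePresentation (R := ModSite.ringSh (𝔛.Osh hX.1)) M := hM
    let a := gX hX hY f (g t)
    have hc : ∀ x : 𝔛.X 0, ∃ V : (𝔛.X 0).Opens, IsAffineOpen V ∧ x ∈ V := fun x => by
      obtain ⟨V, hV, hxV, -⟩ := exists_isAffineOpen_mem_and_subset (U := (⊤ : (𝔛.X 0).Opens)) (show x ∈ ⊤ from trivial)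
      exact ⟨V, hV, hxV⟩
    choose V hV hxV using hc
    obtain ⟨G, hG⟩ := isCompact_univ.elim_finite_subcover (fun x => (V x : Set (𝔛.X 0))) (fun x => (V x).2)
      fun x _ => Set.mem_iUnion.2 ⟨x, hxV x⟩
    have hk : ∀ x, ∃ N, ∀ (i : ℕ) (s : FSec hX M (V x)),
        res₀ (𝔛.Osh hX.1) a (V x) ^ i • s = 0 → res₀ (𝔛.Osh hX.1) a (V x) ^ N • s = 0 := fun x => by
      haveI := (structure_AV hX (hV x)).1
      haveI := finite_FSec hX M (hV x)
      haveI : IsNoetherian (AV 𝔛 hX.1 (V x)) (FSec hX M (V x)) := inferInstance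
      exact exists_stab _
    choose N hN using hk
    refine ⟨G.sup N, fun i => ?_⟩
    let K := kernel (mulG (𝔛.Osh hX.1) (a ^ i) M)
    let φ : K ⟶ M := kernel.ι _ ≫ mulG (𝔛.Osh hX.1) (a ^ G.sup N) M
    haveI : SheafOfModules.IsFinitePresentation (R := ModSite.ringSh (𝔛.Osh hX.1)) K :=
      isFinitePresentation_kernel hX _
    have hA : ∀ x ∈ G, ∀ (A : (𝔛.X 0).Opens), IsAffineOpen A → A ≤ V x → ∀ y : FSec hX K A,
        φ.val.app (op A) y = 0 := fun x hx A hA hAx y => by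
      obtain ⟨ι, hι, s, hs⟩ := exists_gens hX K (hV x)
      have hy : y ∈ Submodule.span (AV 𝔛 hX.1 A) (Set.range fun j => rF hX K hAx (s j)) :=
        span_rF hX K (hV x) hA hAx s hs ▸ Submodule.mem_top
      suffices hgen : ∀ z : FSec hX K (V x), φ.val.app (op (V x)) z = 0 by
        induction hy using Submodule.span_induction with
        | mem w hw =>
          obtain ⟨j, rfl⟩ := hw
          refine (ModFlat16.app_smap φ (homOfLE hAx) (s j)).trans ?_
          rw [hgen]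
          exact map_zero _
        | zero => exact map_zero _
        | add b c _ _ hb hc => exact (map_add _ b c).trans (by rw [hb, hc, add_zero])
        | smul c b _ hb => exact ((φ.val.app (op A)).hom.map_smul c b).trans (by erw [hb, smul_zero])
      intro z
      let w : FSec hX M (V x) := (kernel.ι (mulG (𝔛.Osh hX.1) (a ^ i) M)).val.app (op (V x)) z
      have h0 : res₀ (𝔛.Osh hX.1) (a ^ i) (V x) • w = 0 :=
        ModFlat16.app_smap_comp_zero _ (mulG (𝔛.Osh hX.1) (a ^ i) M) (kernel.condition _) z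
      show res₀ (𝔛.Osh hX.1) (a ^ G.sup N) (V x) • w = 0
      rw [res₀, map_pow] at h0 ⊢
      obtain ⟨d, hd⟩ := Nat.exists_eq_add_of_le (Finset.le_sup (f := N) hx)
      rw [hd, add_comm, pow_add, mul_smul, hN x i w h0, smul_zero]
    refine SheafOfModules.Hom.ext (PresheafOfModules.hom_ext fun U => ModuleCat.hom_ext (LinearMap.ext fun y => ?_))
    obtain ⟨U⟩ := U
    refine FormalModH7.sect_ext M
      { arrows := fun W _ => ∃ A : (𝔛.X 0).Opens, IsAffineOpen A ∧ W ≤ A ∧ A ≤ U ∧ ∃ x ∈ G, A ≤ V x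
        downward_closed := fun ⟨A, h1, h2, h3⟩ e => ⟨A, h1, e.le.trans h2, h3⟩ } (fun z hz => ?_) fun W l hl => ?_
    · obtain ⟨x, hx, hzx⟩ := Set.mem_iUnion₂.1 (hG (Set.mem_univ z))
      obtain ⟨A, hA', hzA, hAU⟩ := exists_isAffineOpen_mem_and_subset (U := U ⊓ V x) ⟨hz, hzx⟩
      exact ⟨A, homOfLE (le_trans hAU inf_le_left), ⟨A, hA', le_rfl, le_trans hAU inf_le_left, x, hx,
        le_trans hAU inf_le_right⟩, hzA⟩
    · obtain ⟨A, hA', h1, h2, x, hx, hAx⟩ := hl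
      show ModFlat16.smap M l (φ.val.app (op U) y) = ModFlat16.smap M l 0
      rw [show l = homOfLE h1 ≫ homOfLE h2 from Subsingleton.elim _ _, ModFlat16.smap_comp, ← ModFlat16.app_smap,
        hA x hx A hA' hAx, map_zero, map_zero]
  tors M t n hM := by
    haveI := (structure_AV hY (isAffineOpen_top (𝔜.X 0))).1
    haveI := (finBC_coh hX hY f hf M hM).fin ⊤ (isAffineOpen_top _) n
    obtain ⟨N, hN⟩ := exists_stab (M := HT hX hY f M n) (g t)
    refine ⟨N, fun i y hy => ?_⟩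
    have e : ∀ j, XW.toXC.symm (res₀ (𝔛.Osh hX.1) (gX hX hY f (g t) ^ j) ((fM hX hY f).fn.obj ⊤) • y) =
        g t ^ j • (XW.toXC.symm y : HT hX hY f M n) := fun j => by
      rw [gX_pow]
      exact res₀_gX_smul hX hY f M n _ (XW.toXC.symm y)
    have h1 := hN i (XW.toXC.symm y) (by rw [← e, hy, map_zero])
    rw [← e] at h1
    exact XW.toXC.symm.injective (h1.trans (map_zero _).symm)

variable (hf : FSch.IsAdicHom f) {M : FSch.ModF 𝔛 hX.1} (hM : FSch.IsCohF 𝔛 hX.1 M)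
  {Fm : ℕ → FSch.ModF 𝔛 hX.1} {p : ∀ m, M ⟶ Fm m} (hp : IsLevels hX M p)

include hf hp in
/-- The elements of the powers of the ideal of definition kill the levels. -/
theorem mulG_comp_level (a : AV 𝔜 hY.1 ⊤) (m : ℕ) (ha : a ∈ defIdeal 𝔜 hY.1 ⊤ ^ (m + 1)) :
    mulG (𝔛.Osh hX.1) (gX hX hY f a) M ≫ p m = 0 := eq_zero_of_affine hX _ fun V hV x => by
  refine (hp.ker V hV m _).2 (Submodule.smul_mem_smul ?_ Submodule.mem_top)
  rw [res₀_gX hX hY f a V ⊤ (fun _ _ => trivial)]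
  let e : V ≤ ((f : FSch.Hom 𝔛 𝔜).app 0) ⁻¹ᵁ (⊤ : (𝔜.X 0).Opens) := fun _ _ => trivial
  refine (pow_le_pow_left' ?_ (m + 1) : (defIdeal 𝔜 hY.1 ⊤).map (phiV hX hY f e) ^ (m + 1) ≤
    defIdeal 𝔛 hX.1 V ^ (m + 1)) ?_
  · exact (map_defIdeal_phiV hX hY f hf hV (isAffineOpen_top _) _).le
  · rw [← Ideal.map_pow]
    exact Ideal.mem_map_of_mem _ (rA_mem_pow hY.1 le_rfl _ ha)

variable {r : ℕ} (g : Fin r → AV 𝔜 hY.1 ⊤) (hg : Ideal.span (Set.range g) = defIdeal 𝔜 hY.1 ⊤)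

include hf hp hg in
/-- The levels receive every map killed by powers of the generators. -/
theorem exists_fine_level (l : ℕ) : ∃ m₀, ∀ m ≥ m₀, Fine (𝔛.Osh hX.1) (fun t => gX hX hY f (g t)) r l (p m) := by
  obtain ⟨m₀, hm₀⟩ : ∃ m₀, defIdeal 𝔜 hY.1 ⊤ ^ m₀ ≤ Ideal.span (Set.range fun t => g t ^ l) := by
    refine Ideal.exists_pow_le_of_le_radical_of_fg ?_ (fg_defIdeal hY (isAffineOpen_top _))
    rw [← hg, Ideal.span_le]
    rintro _ ⟨t, rfl⟩
    exact ⟨l, Ideal.subset_span ⟨t, rfl⟩⟩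
  refine ⟨m₀, fun m hm T φ hφ => ?_⟩
  haveI := hp.epi m
  refine ⟨Abelian.epiDesc (p m) φ (eq_zero_of_affine hX _ fun V hV y => ?_), Abelian.comp_epiDesc _ _ _⟩
  let x : FSec hX M V := (kernel.ι (p m)).val.app (op V) y
  show φ.val.app (op V) x = 0
  have hx : x ∈ defIdeal 𝔛 hX.1 V ^ (m + 1) • (⊤ : Submodule (AV 𝔛 hX.1 V) (FSec hX M V)) :=
    (hp.ker V hV m x).1 (ModFlat16.app_smap_comp_zero _ (p m) (kernel.condition _) y)
  let e : V ≤ ((f : FSch.Hom 𝔛 𝔜).app 0) ⁻¹ᵁ (⊤ : (𝔜.X 0).Opens) := fun _ _ => trivial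
  have hle : defIdeal 𝔛 hX.1 V ^ (m + 1) ≤
      Ideal.span (Set.range fun t => res₀ (𝔛.Osh hX.1) (gX hX hY f (g t) ^ l) V) := by
    rw [← map_defIdeal_phiV hX hY f hf hV (isAffineOpen_top _) e, ← Ideal.map_pow, Ideal.map_le_iff_le_comap]
    refine ((Ideal.pow_le_pow_right (by omega)).trans hm₀).trans (Ideal.span_le.2 ?_)
    rintro _ ⟨t, rfl⟩
    refine Ideal.subset_span ⟨t, ?_⟩
    refine (congrArg (res₀ (𝔛.Osh hX.1) · V) (gX_pow hX hY f (g t) l)).trans ((res₀_gX hX hY f _ V ⊤ e).trans ?_)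
    exact congrArg (phiV hX hY f e) (congrFun (congrArg DFunLike.coe (congrArg CommRingCat.Hom.hom
      ((𝔜.Osh hY.1).obj.map_id _))) _)
  refine Submodule.smul_induction_on (p := fun x => φ.val.app (op V) x = 0) (Submodule.smul_mono hle le_rfl hx)
    (fun b hb w _ => ?_) fun u v hu hv => (map_add _ u v).trans (by rw [hu, hv, add_zero])
  induction hb using Submodule.span_induction generalizing w with
  | mem b hb =>
    obtain ⟨t, rfl⟩ := hb
    exact congrArg (fun χ : M ⟶ T => χ.val.app (op V) w) (hφ t t.2)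
  | zero => erw [zero_smul]; exact map_zero _
  | add b c _ _ hb hc => erw [add_smul]; exact (map_add _ _ _).trans (by erw [hb w trivial, hc w trivial, add_zero])
  | smul c b _ hb => rw [smul_eq_mul, mul_comm, mul_smul]; exact hb _ trivial

include hf hM hp in
/-- Classes killed at a high level are small. -/
theorem mem_of_level_zero (n k : ℕ) : ∃ m₀, ∀ m ≥ m₀, ∀ x : HT hX hY f M n, XW.post (p m) x = 0 →
    x ∈ defIdeal 𝔜 hY.1 ⊤ ^ k • (⊤ : Submodule (AV 𝔜 hY.1 ⊤) (HT hX hY f M n)) := by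
  obtain ⟨r, g, hg⟩ := FTorsH7.exists_gens_defIdeal hY (isAffineOpen_top (𝔜.X 0))
  obtain ⟨l, -, hl⟩ := ml_induction (𝔛.Osh hX.1) (cohSetup hX hY f hf g) r M hM n k
  obtain ⟨m₀, hm₀⟩ := exists_fine_level hX hY f hf hp g hg l
  refine ⟨m₀, fun m hm x hx => ?_⟩
  have h := (hl (p m) (hp.epi m) (hm₀ m hm)).1 (XW.toXC x) hx
  refine Submodule.smul_induction_on (p := fun y => XW.toXC.symm y ∈
      defIdeal 𝔜 hY.1 ⊤ ^ k • (⊤ : Submodule (AV 𝔜 hY.1 ⊤) (HT hX hY f M n))) h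
    (fun b hb w _ => ?_) fun u v hu hv => by rw [map_add]; exact add_mem hu hv
  induction hb using Submodule.span_induction generalizing w with
  | mem b hb =>
    obtain ⟨t, -, rfl⟩ := hb
    rw [gX_pow]
    refine (congrArg (· ∈ _) (res₀_gX_smul hX hY f M n (g t ^ k) (XW.toXC.symm w))).mpr ?_
    exact Submodule.smul_mem_smul (Ideal.pow_mem_pow (hg ▸ Ideal.subset_span ⟨t, rfl⟩) k) Submodule.mem_top
  | zero => rw [zero_smul, map_zero]; exact zero_mem _
  | add b c _ _ hb hc => rw [add_smul, map_add]; exact add_mem (hb _ trivial) (hc _ trivial)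
  | smul c b _ hb => rw [smul_eq_mul, mul_comm, mul_smul]; exact hb _ trivial

include hf hM hp in
/-- The images in a level of the classes of the high levels come from classes of the module. -/
theorem exists_lift_level (n m : ℕ) : ∃ m₀ ≥ m, ∀ l ≥ m₀, ∀ ψ : Fm l ⟶ Fm m, p l ≫ ψ = p m →
    ∀ z : HT hX hY f (Fm l) n, ∃ v : HT hX hY f M n, XW.post (p m) v = XW.post ψ z := by
  obtain ⟨r, g, hg⟩ := FTorsH7.exists_gens_defIdeal hY (isAffineOpen_top (𝔜.X 0))
  obtain ⟨l₁, -, hl₁⟩ := ml_induction (𝔛.Osh hX.1) (cohSetup hX hY f hf g) r M hM n (m + 1)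
  obtain ⟨m₀, hm₀⟩ := exists_fine_level hX hY f hf hp g hg l₁
  refine ⟨max m₀ m, le_max_right _ _, fun l hl ψ hψ z => ?_⟩
  have hk : Killed (𝔛.Osh hX.1) (fun t => gX hX hY f (g t)) r (m + 1) (p l ≫ ψ) := fun t _ => by
    rw [hψ, gX_pow]
    exact mulG_comp_level hX hY f hf hp _ m (Ideal.pow_mem_pow (hg ▸ Ideal.subset_span ⟨t, rfl⟩) _)
  obtain ⟨v, hv⟩ := (hl₁ (p l) (hp.epi l) (hm₀ l (le_trans (le_max_left _ _) hl))).2 ψ hk (XW.toXC z)
  exact ⟨XW.toXC.symm v, by rw [← hψ]; exact hv⟩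

include hf hp in
theorem smul_level_eq_zero (n m : ℕ) (a : AV 𝔜 hY.1 ⊤) (ha : a ∈ defIdeal 𝔜 hY.1 ⊤ ^ (m + 1))
    (z : HT hX hY f (Fm m) n) : a • z = 0 := by
  haveI := hp.epi m
  have h : mulG (𝔛.Osh hX.1) (gX hX hY f a) (Fm m) = 0 := by
    rw [← cancel_epi (p m), comp_zero, mulG_nat, mulG_comp_level hX hY f hf hp a m ha]
  rw [← post_gX hX hY f (Fm m) n a z, h]
  change Abelian.Ext.comp _ (Abelian.Ext.mk₀ 0) (add_zero n) = (0 : Abelian.Ext.{u} _ _ n)
  rw [Abelian.Ext.mk₀_zero, Abelian.Ext.comp_zero]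

include hf hp in
theorem post_level_eq_zero (n m : ℕ) {x : HT hX hY f M n}
    (hx : x ∈ defIdeal 𝔜 hY.1 ⊤ ^ (m + 1) • (⊤ : Submodule (AV 𝔜 hY.1 ⊤) (HT hX hY f M n))) :
    XW.post (p m) x = 0 := by
  refine Submodule.smul_induction_on (p := fun x => XW.post (p m) x = 0) hx (fun a ha w _ => ?_)
    fun u v hu hv => by rw [map_add, hu, hv, add_zero]
  rw [map_smul]
  exact smul_level_eq_zero hX hY f hf hp n m a ha _

include hf hM hp in
/-- Classes are determined by their images in the levels. -/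
theorem eq_zero_of_levels (n : ℕ) (x : HT hX hY f M n) (h : ∀ m, XW.post (p m) x = 0) : x = 0 := by
  haveI := (structure_AV hY (isAffineOpen_top (𝔜.X 0))).1
  haveI := (structure_AV hY (isAffineOpen_top (𝔜.X 0))).2.1
  haveI := (finBC_coh hX hY f hf M hM).fin ⊤ (isAffineOpen_top _) n
  haveI := Compl.isAdicComplete_of_finite (defIdeal 𝔜 hY.1 ⊤) (HT hX hY f M n)
  refine IsHausdorff.haus (I := defIdeal 𝔜 hY.1 ⊤) inferInstance _ fun k => ?_
  obtain ⟨m₀, hm₀⟩ := mem_of_level_zero hX hY f hf hM hp n k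
  rw [SModEq.zero]
  exact hm₀ m₀ le_rfl x (h m₀)

include hf hM hp in
/-- Compatible classes of the levels come from a class of the module. -/
theorem exists_of_levels (n : ℕ) (tr : ∀ {l m : ℕ}, m ≤ l → (Fm l ⟶ Fm m))
    (htr : ∀ {l m : ℕ} (h : m ≤ l), p l ≫ tr h = p m) (y : ∀ m, HT hX hY f (Fm m) n)
    (hy : ∀ {l m : ℕ} (h : m ≤ l), XW.post (tr h) (y l) = y m) :
    ∃ x : HT hX hY f M n, ∀ m, XW.post (p m) x = y m := by
  have hx₀ : ∀ m, ∃ x : HT hX hY f M n, XW.post (p m) x = y m := fun m => by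
    obtain ⟨m₀, hm, h⟩ := exists_lift_level hX hY f hf hM hp n m
    obtain ⟨v, hv⟩ := h m₀ le_rfl (tr hm) (htr hm) (y m₀)
    exact ⟨v, hv.trans (hy hm)⟩
  choose x₀ hx₀ using hx₀
  have hcomp : ∀ {l m : ℕ}, m ≤ l → XW.post (p m) (x₀ l) = y m := fun {l m} h => by
    rw [← htr h, ← XW.post_post, hx₀, hy]
  choose N hN using fun k => mem_of_level_zero hX hY f hf hM hp n k
  let M' : ℕ → ℕ := fun k => ((Finset.range (k + 1)).sup N) + k
  have hM' : ∀ {k l : ℕ}, k ≤ l → N k ≤ M' l := fun {k l} h =>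
    le_trans (Finset.le_sup (f := N) (Finset.mem_range.2 (Nat.lt_succ_of_le h))) (Nat.le_add_right _ _)
  haveI := (structure_AV hY (isAffineOpen_top (𝔜.X 0))).1
  haveI := (structure_AV hY (isAffineOpen_top (𝔜.X 0))).2.1
  haveI := (finBC_coh hX hY f hf M hM).fin ⊤ (isAffineOpen_top _) n
  haveI := Compl.isAdicComplete_of_finite (defIdeal 𝔜 hY.1 ⊤) (HT hX hY f M n)
  obtain ⟨x, hx⟩ := IsPrecomplete.prec (I := defIdeal 𝔜 hY.1 ⊤) inferInstance (f := fun k => x₀ (M' k))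
    fun {k l} hkl => SModEq.sub_mem.2 (hN k _ le_rfl _ (by
      rw [map_sub, hcomp (hM' le_rfl), hcomp (hM' hkl), sub_self]))
  refine ⟨x, fun m => ?_⟩
  have h1 := post_level_eq_zero hX hY f hf hp n m (SModEq.sub_mem.1 (hx (m + 1)))
  rw [map_sub, sub_eq_zero] at h1
  exact h1.symm.trans (hcomp (show m ≤ M' (m + 1) by simp only [M']; omega))

end Groth.Agent.ProperFormalH7
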