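import Groth.Agent.Lib.ProperFormalH7.Main
import Groth.Agent.Lib.ProperFormalH7.FormalFun

/-!
# The theorem on formal functions over the affine opens of the target
-/

set_option autoImplicit false
set_option linter.style.haveILetI false
set_option linter.unusedSectionVars false
set_option backward.isDefEq.respectTransparency false
set_option backward.isDefEq.respectTransparency.types false
set_option maxHeartbeats 1000000
set_option synthInstance.maxHeartbeats 400000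
set_option synthInstance.maxSize 1024
universe u

open CategoryTheory CategoryTheory.Limits AlgebraicGeometry Opposite TopologicalSpace

noncomputable section

namespace Groth.Agent.ProperFormalH7

open FormalModH7

attribute [local instance] HasDerivedCategory.standard

section Restrict

variable {𝔛 : FSch.Sys.{u}} (hX : 𝔛.IsLocNoethFormal) (U : (𝔛.X 0).Opens)

theorem map_defIdeal_theta (V : ((sub hX U).X 0).Opens) :
    (defIdeal 𝔛 hX.1 ((imF hX U).obj V)).map (thetaE hX U V : AV 𝔛 hX.1 ((imF hX U).obj V) →+* _) =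
      defIdeal (sub hX U) (hS hX U).1 V := by
  refine le_antisymm (Ideal.map_le_iff_le_comap.2 fun a ha => ?_) fun b hb => ?_
  · change prj (sub hX U) (hS hX U).1 V 0 (theta hX U V a) = 0
    rw [theta, prj_phiV]
    erw [RingHom.mem_ker.1 ha]
    exact map_zero _
  · obtain ⟨a, rfl⟩ := (thetaE hX U V).surjective b
    refine Ideal.mem_map_of_mem _ (RingHom.mem_ker.2 ((bijective_level hX U V 0).1 ?_))
    rw [map_zero]
    exact (prj_phiV (hS hX U) hX (𝔛.restrictOpenι hX.1 U) 0 (le_im hX U V) a).symm.trans (RingHom.mem_ker.1 hb)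

/-- The levels restrict to the open subsystems. -/
theorem isLevels_rho {M : FSch.ModF 𝔛 hX.1} {Fm : ℕ → FSch.ModF 𝔛 hX.1} {p : ∀ m, M ⟶ Fm m}
    (hp : IsLevels hX M p) :
    IsLevels (hS hX U) ((rho hX U).obj M) (fun m => (rho hX U).map (p m)) := by
  refine ⟨fun m => haveI := hp.epi m; inferInstance, fun V hV m x => ?_⟩
  have hA : IsAffineOpen ((imF hX U).obj V) := hV.image_of_isOpenImmersion (𝔛.lvU hX.1 0 U).ι
  refine (hp.ker _ hA m ((secRho hX U M V).symm x)).trans ?_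
  rw [← map_defIdeal_theta hX U V, ← Ideal.map_pow]
  constructor
  · intro h
    refine Submodule.smul_induction_on (p := fun y => secRho hX U M V y ∈ _) h (fun a ha y _ => ?_)
      fun y z hy hz => by rw [map_add]; exact add_mem hy hz
    rw [secRho_smul]
    exact Submodule.smul_mem_smul (Ideal.mem_map_of_mem _ ha) Submodule.mem_top
  · intro h
    refine Submodule.smul_induction_on (p := fun y => (secRho hX U M V).symm y ∈ _) h (fun b hb y _ => ?_)
      fun y z hy hz => by rw [map_add]; exact add_mem hy hz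
    obtain ⟨a, ha, rfl⟩ := (Ideal.mem_map_iff_of_surjective _ (thetaE hX U V).surjective).1 hb
    have e : (secRho hX U M V).symm (thetaE hX U V a • y) = a • (secRho hX U M V).symm y :=
      (secRho hX U M V).injective ((AddEquiv.apply_symm_apply _ _).trans
        ((secRho_smul hX U V a _).trans (congrArg (thetaE hX U V a • ·) (AddEquiv.apply_symm_apply _ _))).symm)
    refine (congrArg (· ∈ _) e).mpr ?_
    exact Submodule.smul_mem_smul ha Submodule.mem_top

variable [HasExt.{u} (ModSite.Mod (𝔛.Osh hX.1))] [HasExt.{u} (ModSite.Mod ((sub hX U).Osh (hS hX U).1))]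
  [EnoughInjectives (ModSite.Mod (𝔛.Osh hX.1))]

theorem xr_post (V : ((sub hX U).X 0).Opens) {M N : FSch.ModF 𝔛 hX.1} (φ : M ⟶ N) (n : ℕ)
    (ξ : XC (𝔛.Osh hX.1) ((imF hX U).obj V) M n) :
    xr hX U V N n (XC.post φ ξ) = XC.post ((rho hX U).map φ) (xr hX U V M n ξ) := by
  refine (SiteCoh.extCompHom_comp (etaR hX U V) ξ (Abelian.Ext.mk₀ φ) (add_zero n)).trans ?_
  rw [Abelian.Ext.mapExactFunctor_mk₀]
  rfl

end Restrict

variable {𝔛 𝔜 : FSch.Sys.{u}} (hX : 𝔛.IsLocNoethFormal) (hY : 𝔜.IsLocNoethFormal) (f : 𝔛 ⟶ 𝔜)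

theorem tW_post (W : (𝔜.X 0).Opens)
    [HasExt.{u} (ModSite.Mod ((sub hX (((f : FSch.Hom 𝔛 𝔜).app 0) ⁻¹ᵁ W)).Osh (hS hX (((f : FSch.Hom 𝔛 𝔜).app 0) ⁻¹ᵁ W)).1))]
    [HasExt.{u} (ModSite.Mod ((sub hY W).Osh (hS hY W).1))] [HasExt.{u} (ModSite.Mod (𝔛.Osh hX.1))]
    [EnoughInjectives (ModSite.Mod (𝔛.Osh hX.1))] {M N : FSch.ModF 𝔛 hX.1} (φ : M ⟶ N) (n : ℕ)
    (V : ((sub hY W).X 0).Opens) (ξ : XW (FSch.homMor f hX.1 hY.1) ((imF hY W).obj V) M n) :
    tW hX hY f W N n V (XW.post φ ξ) =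
      XW.post ((rho hX (((f : FSch.Hom 𝔛 𝔜).app 0) ⁻¹ᵁ W)).map φ) (tW hX hY f W M n V ξ) := by
  apply XW.toXC.injective
  refine (toXC_tW hX hY f W N n V _).trans ?_
  refine Eq.trans ?_ (congrArg (XC.post ((rho hX (((f : FSch.Hom 𝔛 𝔜).app 0) ⁻¹ᵁ W)).map φ)) (toXC_tW hX hY f W M n V ξ)).symm
  refine Eq.trans (congrArg (xr hX _ _ N n) ?_) (xr_post hX _ _ φ n _)
  exact XC.res_post _ φ (XW.toXC ξ)

/-- Formal functions for the classes on the inverse image of an open. -/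
structure FFW (M : FSch.ModF 𝔛 hX.1) [HasExt.{u} (ModSite.Mod (𝔛.Osh hX.1))] (W : (𝔜.X 0).Opens) (n : ℕ) : Prop where
  inj : ∀ ξ : XW (FSch.homMor f hX.1 hY.1) W M n, (∀ m, XW.post (unitL hX M m) ξ = 0) → ξ = 0
  lift : ∀ y : ∀ m, XW (FSch.homMor f hX.1 hY.1) W ((lvS hX M).obj (op m)) n,
    (∀ {l m : ℕ} (h : m ≤ l), XW.post ((lvS hX M).map (homOfLE h).op) (y l) = y m) →
    ∃ ξ : XW (FSch.homMor f hX.1 hY.1) W M n, ∀ m, XW.post (unitL hX M m) ξ = y m
  stab : ∀ m, ∃ m₀ ≥ m, ∀ l, m₀ ≤ l → ∀ (h : m ≤ l) (z : XW (FSch.homMor f hX.1 hY.1) W ((lvS hX M).obj (op l)) n),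
    ∃ v : XW (FSch.homMor f hX.1 hY.1) W M n, XW.post (unitL hX M m) v = XW.post ((lvS hX M).map (homOfLE h).op) z

/-- The theorem on formal functions over an affine open of the target. -/
theorem ffw_coh [HasExt.{u} (ModSite.Mod (𝔛.Osh hX.1))] (hf : FSch.IsProperHom f) (M : FSch.ModF 𝔛 hX.1)
    (hM : FSch.IsCohF 𝔛 hX.1 M) (W : (𝔜.X 0).Opens) (hW : IsAffineOpen W) (n : ℕ) : FFW hX hY f M W n := by
  let U : (𝔛.X 0).Opens := ((f : FSch.Hom 𝔛 𝔜).app 0) ⁻¹ᵁ W
  haveI : IsGrothendieckAbelian.{u} (FSch.ModF 𝔛 hX.1) :=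
    CohFound.isGrothendieckAbelian_sheafOfModules (ModSite.ringSh (𝔛.Osh hX.1))
  haveI := IsGrothendieckAbelian.enoughInjectives (C := FSch.ModF 𝔛 hX.1)
  have hW0 : IsAffineOpen (𝔜.lvU hY.1 0 W) := by
    rw [show 𝔜.lvU hY.1 0 W = W from toX_preimage_lvU hY.1 0 W]; exact hW
  haveI : IsAffine ((sub hY W).X 0) := hW0
  haveI : CompactSpace ((sub hY W).X 0) := inferInstance
  haveI := hf.2
  have hU : IsCompact (U : Set (𝔛.X 0)) :=
    QuasiCompact.isCompact_preimage (f := (f : FSch.Hom 𝔛 𝔜).app 0) _ W.isOpen hW.isCompact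
  haveI : CompactSpace ((sub hX U).X 0) :=
    isCompact_iff_compactSpace.1 (show IsCompact ((𝔛.lvU hX.1 0 U) : Set (𝔛.X 0)) by
      rw [show 𝔛.lvU hX.1 0 U = U from toX_preimage_lvU hX.1 0 U]
      exact hU)
  have hp' := isProperHom_restrictOpen hX hY f hf W
  haveI : IsProper ((fW hX hY f W : FSch.Hom _ _).app 0) := hp'.2
  haveI : HasInjectiveResolutions (FSch.ModF (sub hX U) (hS hX U).1) := inferInstance
  haveI : SiteCmp.HasRpushD (FSch.homMor (fW hX hY f W) (hS hX U).1 (hS hY W).1) :=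
    KInjLib.hasRightDerivedFunctor KInjLib.enoughKInj_of_grothendieck _
  have hM' := isCohF_rho hX U hM
  have hp := isLevels_rho hX U (isLevels_unitL hX M hM)
  suffices key : FFW hX hY f M ((imF hY W).obj ⊤) n by rwa [im_top hY W] at key
  have hb := fun N => bijective_tW hX hY f W N n ⊤
  refine ⟨fun ξ hξ => (hb M).1 ?_, fun y hy => ?_, fun m => ?_⟩
  · rw [map_zero]
    refine eq_zero_of_levels (hS hX U) (hS hY W) (fW hX hY f W) hp'.1 hM' hp n _ fun m => ?_
    rw [← tW_post, hξ m, map_zero]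
  · obtain ⟨x, hx⟩ := exists_of_levels (hS hX U) (hS hY W) (fW hX hY f W) hp'.1 hM' hp n
      (fun {l m} h => (rho hX U).map ((lvS hX M).map (homOfLE h).op))
      (fun {l m} h => by rw [← Functor.map_comp, unitL_tr])
      (fun m => tW hX hY f W _ n ⊤ (y m)) (fun {l m} h => by rw [← tW_post]; exact congrArg _ (hy h))
    obtain ⟨ξ, rfl⟩ := (hb M).2 x
    exact ⟨ξ, fun m => (hb _).1 ((tW_post hX hY f W _ n ⊤ ξ).trans (hx m))⟩
  · obtain ⟨m₀, hm₀, h₀⟩ := exists_lift_level (hS hX U) (hS hY W) (fW hX hY f W) hp'.1 hM' hp n m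
    refine ⟨m₀, hm₀, fun l hl h z => ?_⟩
    obtain ⟨v, hv⟩ := h₀ l hl ((rho hX U).map ((lvS hX M).map (homOfLE h).op))
      (by rw [← Functor.map_comp, unitL_tr]) (tW hX hY f W _ n ⊤ z)
    obtain ⟨v', rfl⟩ := (hb M).2 v
    exact ⟨v', (hb _).1 ((tW_post hX hY f W _ n ⊤ v').trans (hv.trans (tW_post hX hY f W _ n ⊤ z).symm))⟩

end Groth.Agent.ProperFormalH7
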