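import Groth.Agent.Lib.ProperFormalH7.Complete
import Mathlib.CategoryTheory.Abelian.Refinements

/-!
# Classes of the quotients along powers of global sections
-/

set_option autoImplicit false
set_option linter.style.haveILetI false
set_option linter.unusedSectionVars false
set_option backward.isDefEq.respectTransparency false
set_option backward.isDefEq.respectTransparency.types false
set_option maxHeartbeats 1000000
universe u

open CategoryTheory CategoryTheory.Limits Opposite TopologicalSpace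

noncomputable section

namespace Groth.Agent.ProperFormalH7

open ModFlat16

variable {X : TopCat.{u}} (O : Sheaf (Opens.grothendieckTopology X) CommRingCat.{u})

theorem mulG_mul (a b : O.obj.obj (op (⊤ : Opens X))) (M : ModSite.Mod O) :
    mulG O (a * b) M = mulG O a M ≫ mulG O b M := by
  ext U x
  change res₀ O (a * b) U.unop • (x : ModSite.sect M U.unop) =
    res₀ O b U.unop • (res₀ O a U.unop • (x : ModSite.sect M U.unop))
  rw [mul_comm, res₀, map_mul, mul_smul]

theorem mulG_pow_add (a : O.obj.obj (op (⊤ : Opens X))) (i j : ℕ) (M : ModSite.Mod O) :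
    mulG O (a ^ (i + j)) M = mulG O (a ^ i) M ≫ mulG O (a ^ j) M := by rw [pow_add, mulG_mul]

theorem mulG_nat (a : O.obj.obj (op (⊤ : Opens X))) {M N : ModSite.Mod O} (φ : M ⟶ N) :
    φ ≫ mulG O a N = mulG O a M ≫ φ := (mulNat O a).naturality φ

theorem mulG_pow_comp_zero (a : O.obj.obj (op (⊤ : Opens X))) {i j : ℕ} (h : i ≤ j) {M N : ModSite.Mod O}
    (φ : M ⟶ N) (hφ : mulG O (a ^ i) M ≫ φ = 0) : mulG O (a ^ j) M ≫ φ = 0 := by
  obtain ⟨d, rfl⟩ := Nat.exists_eq_add_of_le h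
  rw [add_comm, mulG_pow_add, Category.assoc, hφ, comp_zero]

/-- A class of modules with kernels and cokernels in which the multiples of the given sections stabilise. -/
structure MLSetup (U : Opens X) [HasExt.{u} (ModSite.Mod O)] {r : ℕ}
    (g : Fin r → O.obj.obj (op (⊤ : Opens X))) where
  P : ObjectProperty (ModSite.Mod O)
  ker : ∀ {M N : ModSite.Mod O} (φ : M ⟶ N), P M → P N → P (kernel φ)
  coker : ∀ {M N : ModSite.Mod O} (φ : M ⟶ N), P M → P N → P (cokernel φ)
  stab : ∀ (M : ModSite.Mod O) (t : Fin r), P M →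
    ∃ N, ∀ i, kernel.ι (mulG O (g t ^ i) M) ≫ mulG O (g t ^ N) M = 0
  tors : ∀ (M : ModSite.Mod O) (t : Fin r) (n : ℕ), P M →
    ∃ N, ∀ i (y : XC O U M n), res₀ O (g t ^ i) U • y = 0 → res₀ O (g t ^ N) U • y = 0

variable [HasExt.{u} (ModSite.Mod O)] [EnoughInjectives (ModSite.Mod O)] {U : Opens X} {r : ℕ}
  {g : Fin r → O.obj.obj (op (⊤ : Opens X))} (hs : MLSetup O U g)

include hs in
/-- The quotients by the powers of one section. -/
theorem ml_single (t : Fin r) (F : ModSite.Mod O) (hF : hs.P F) (n k : ℕ) :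
    ∃ k₀ ≥ k,
      (∀ x : XC O U F n, XC.post (cokernel.π (mulG O (g t ^ k₀) F)) x = 0 →
        ∃ y, res₀ O (g t ^ k) U • y = x) ∧
      ∀ k₁ ≥ k₀, ∃ k₂ ≥ k₁, ∀ (ψ : cokernel (mulG O (g t ^ k₂) F) ⟶ cokernel (mulG O (g t ^ k₁) F)),
        cokernel.π _ ≫ ψ = cokernel.π _ → ∀ z : XC O U _ n,
          ∃ v : XC O U F n, XC.post (cokernel.π (mulG O (g t ^ k₁) F)) v = XC.post ψ z := by
  obtain ⟨N, hN⟩ := hs.stab F t hF
  let F' := cokernel (kernel.ι (mulG O (g t ^ N) F))
  have hF' : hs.P F' := hs.coker _ (hs.ker _ hF hF) hF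
  let π : F ⟶ F' := cokernel.π _
  have hγ : ∀ i, kernel.ι (mulG O (g t ^ N) F) ≫ mulG O (g t ^ (N + i)) F = 0 := fun i => by
    rw [mulG_pow_add, kernel.condition_assoc, zero_comp]
  let γ : ∀ i, F' ⟶ F := fun i => cokernel.desc _ (mulG O (g t ^ (N + i)) F) (hγ i)
  have hπγ : ∀ i, π ≫ γ i = mulG O (g t ^ (N + i)) F := fun i => cokernel.π_desc _ _ _
  have hmono : ∀ i, Mono (γ i) := fun i => Preadditive.mono_of_cancel_zero _ fun {T} a ha => by
    obtain ⟨T', q, hq, b, hb⟩ := surjective_up_to_refinements_of_epi π a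
    have h1 : b ≫ mulG O (g t ^ (N + i)) F = 0 := by
      rw [← hπγ, ← Category.assoc, ← hb, Category.assoc, ha, comp_zero]
    have h2 : b ≫ mulG O (g t ^ N) F = 0 := by
      rw [← kernel.lift_ι _ b h1, Category.assoc, hN, comp_zero]
    rw [← cancel_epi q, comp_zero, hb, ← kernel.lift_ι _ b h2, Category.assoc, cokernel.condition, comp_zero]
  have hw : ∀ i, γ i ≫ cokernel.π (mulG O (g t ^ (N + i)) F) = 0 := fun i => by
    rw [← cancel_epi π, ← Category.assoc, hπγ, cokernel.condition, comp_zero]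
  have hS : ∀ i, (ShortComplex.mk (γ i) (cokernel.π _) (hw i)).ShortExact := fun i =>
    { exact := ShortComplex.exact_of_g_is_cokernel _ (CokernelCofork.IsColimit.ofπ _ _
        (fun {T} φ hφ => cokernel.desc _ φ (by rw [← hπγ, Category.assoc, hφ, comp_zero]))
        (fun _ _ => cokernel.π_desc _ _ _)
        (fun {T} φ hφ m hm => by
          rw [← cancel_epi (cokernel.π (mulG O (g t ^ (N + i)) F)), cokernel.π_desc]
          exact hm))
      mono_f := hmono i
      epi_g := inferInstanceAs (Epi (cokernel.π (mulG O (g t ^ (N + i)) F))) }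
  have hγ0 : ∀ i, γ i = γ 0 ≫ mulG O (g t ^ i) F := fun i => by
    rw [← cancel_epi π, hπγ, ← Category.assoc, hπγ, add_zero, mulG_pow_add]
  have hback : γ 0 ≫ π = mulG O (g t ^ N) F' := by
    rw [← cancel_epi π, ← Category.assoc, hπγ, add_zero, mulG_nat]
  refine ⟨N + k, Nat.le_add_left _ _, fun x hx => ?_, fun k₁ hk₁ => ?_⟩
  · obtain ⟨y, hy⟩ := (XC.exact_post (hS k) U n x).1 hx
    refine ⟨XC.post (γ 0) y, ?_⟩
    rw [← hy, ← post_mulG, XC.post_post, ← hγ0]
  · obtain ⟨i, rfl⟩ : ∃ i, k₁ = N + i := ⟨k₁ - N, by omega⟩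
    obtain ⟨M, hM⟩ := hs.tors F' t (n + 1) hF'
    refine ⟨N + (i + M), by omega, fun ψ hψ z => (XC.exact_delta (hS i) U n (XC.post ψ z)).1 ?_⟩
    have hc : mulG O (g t ^ M) F' ≫ γ i = γ (i + M) := by
      rw [← cancel_epi π, ← Category.assoc, mulG_nat, Category.assoc, hπγ, hπγ, ← mulG_pow_add]
      congr 2
      omega
    have h1 := ShortComplex.ShortExact.extClass_naturality (hS (i + M)) (hS i)
      (ShortComplex.homMk (mulG O (g t ^ M) F') (𝟙 F) ψ (by simpa using hc) (by simpa using hψ.symm))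
    simp only [ShortComplex.homMk_τ₁, ShortComplex.homMk_τ₃] at h1
    have h2 : XC.delta (hS i) n (XC.post ψ z) = XC.post (mulG O (g t ^ M) F') (XC.delta (hS (i + M)) n z) := by
      change Abelian.Ext.comp (Abelian.Ext.comp z (Abelian.Ext.mk₀ ψ) (add_zero n)) (hS i).extClass rfl =
        Abelian.Ext.comp (Abelian.Ext.comp z (hS (i + M)).extClass rfl) (Abelian.Ext.mk₀ _) (add_zero (n + 1))
      rw [Abelian.Ext.comp_assoc _ _ _ (add_zero n) (zero_add 1) (by omega),
        Abelian.Ext.comp_assoc _ _ _ rfl (add_zero 1) (by omega)]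
      exact congrArg (fun e => Abelian.Ext.comp z e rfl) h1.symm
    have h3 : XC.post (γ (i + M)) (XC.delta (hS (i + M)) n z) = 0 :=
      (XC.exact_delta' (hS (i + M)) U n _).2 ⟨z, rfl⟩
    have h4 : XC.post (mulG O (g t ^ (i + M + N)) F') (XC.delta (hS (i + M)) n z) = 0 := by
      have e : γ (i + M) ≫ π = mulG O (g t ^ (i + M + N)) F' := by
        rw [hγ0, Category.assoc, ← mulG_nat, ← Category.assoc, hback, ← mulG_pow_add, add_comm N]
      have := congrArg (XC.post π) h3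
      rw [map_zero, XC.post_post] at this
      rw [← e]
      exact this
    rw [post_mulG] at h4
    rw [h2, post_mulG]
    exact hM _ _ h4

/-- Maps killed by the powers of the first sections. -/
def Killed (g : Fin r → O.obj.obj (op (⊤ : Opens X))) (j k : ℕ) {F T : ModSite.Mod O} (φ : F ⟶ T) : Prop :=
  ∀ t : Fin r, t.1 < j → mulG O (g t ^ k) F ≫ φ = 0

theorem Killed.mono {j k l : ℕ} {F T : ModSite.Mod O} {φ : F ⟶ T} (h : Killed O g j k φ) (hl : k ≤ l) :
    Killed O g j l φ := fun t ht => mulG_pow_comp_zero O (g t) hl φ (h t ht)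

/-- Maps through which all maps killed by the powers factor. -/
def Fine (g : Fin r → O.obj.obj (op (⊤ : Opens X))) (j k : ℕ) {F Q : ModSite.Mod O} (π : F ⟶ Q) : Prop :=
  ∀ ⦃T : ModSite.Mod O⦄ (φ : F ⟶ T), Killed O g j k φ → ∃ χ, π ≫ χ = φ

theorem exists_fine (g : Fin r → O.obj.obj (op (⊤ : Opens X))) (j k : ℕ) (F : ModSite.Mod O) :
    ∃ (Q : ModSite.Mod O) (π : F ⟶ Q), Epi π ∧ Killed O g j k π ∧ Fine O g j k π := by
  let p : (∐ fun _ : {t : Fin r // t.1 < j} => F) ⟶ F := Sigma.desc fun t => mulG O (g t.1 ^ k) F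
  refine ⟨_, cokernel.π p, inferInstance, fun t ht => ?_, fun T φ hφ => ⟨cokernel.desc p φ ?_, cokernel.π_desc _ _ _⟩⟩
  · rw [← Sigma.ι_desc (f := fun _ : {t : Fin r // t.1 < j} => F) (fun t => mulG O (g t.1 ^ k) F) ⟨t, ht⟩,
      Category.assoc, cokernel.condition, comp_zero]
  · exact Sigma.hom_ext _ _ fun t => by rw [Sigma.ι_desc_assoc, hφ t.1 t.2, comp_zero]

/-- The ideal of the powers of the first sections. -/
def powIdeal (g : Fin r → O.obj.obj (op (⊤ : Opens X))) (U : Opens X) (j k : ℕ) : Ideal (O.obj.obj (op U)) :=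
  Ideal.span {a | ∃ t : Fin r, t.1 < j ∧ res₀ O (g t ^ k) U = a}

include hs in
/-- The Mittag-Leffler properties of the quotients by powers of several sections. -/
theorem ml_induction (j : ℕ) : ∀ (F : ModSite.Mod O), hs.P F → ∀ n k : ℕ, ∃ l ≥ k,
    ∀ {Q : ModSite.Mod O} (π : F ⟶ Q), Epi π → Fine O g j l π →
      (∀ x : XC O U F n, XC.post π x = 0 → x ∈ powIdeal O g U j k • (⊤ : Submodule (O.obj.obj (op U)) (XC O U F n))) ∧
      ∀ {T : ModSite.Mod O} (ψ : Q ⟶ T), Killed O g j k (π ≫ ψ) →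
        ∀ z : XC O U Q n, ∃ v : XC O U F n, XC.post (π ≫ ψ) v = XC.post ψ z := by
  induction j with
  | zero =>
    intro F _ n k
    refine ⟨k, le_rfl, fun {Q} π hπ hfine => ?_⟩
    obtain ⟨χ, hχ⟩ := hfine (𝟙 F) fun t ht => absurd ht (Nat.not_lt_zero _)
    have hχ' : χ ≫ π = 𝟙 Q := by rw [← cancel_epi π, ← Category.assoc, hχ, Category.id_comp, Category.comp_id]
    refine ⟨fun x hx => ?_, fun {T} ψ _ z => ⟨XC.post χ z, ?_⟩⟩
    · have h := congrArg (XC.post χ) hx
      rw [map_zero, XC.post_post, hχ] at h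
      have h' : x = 0 := by
        rw [← h]
        exact (Abelian.Ext.comp_mk₀_id x).symm
      exact h' ▸ zero_mem _
    · rw [XC.post_post, ← Category.assoc, hχ', Category.id_comp]
  | succ j ih =>
    intro F hF n k
    by_cases hj : j < r
    swap
    · have e : ∀ t : Fin r, t.1 < j + 1 ↔ t.1 < j := fun t => by omega
      obtain ⟨l, hl, h⟩ := ih F hF n k
      refine ⟨l, hl, fun {Q} π hπ hfine => ?_⟩
      obtain ⟨ha, hb⟩ := h π hπ fun T φ hφ => hfine φ fun t ht => hφ t ((e t).1 ht)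
      have hI : powIdeal O g U (j + 1) k = powIdeal O g U j k := by simp only [powIdeal, e]
      exact ⟨hI ▸ ha, fun {T} ψ hψ => hb ψ fun t ht => hψ t ((e t).2 ht)⟩
    obtain ⟨k₀, hk₀, hsA, hsB⟩ := ml_single O hs ⟨j, hj⟩ F hF n k
    obtain ⟨k₁, hk₁, hsB'⟩ := hsB k₀ le_rfl
    let a := g ⟨j, hj⟩
    let π₁ : F ⟶ cokernel (mulG O (a ^ k₁) F) := cokernel.π _
    let π₀ : F ⟶ cokernel (mulG O (a ^ k₀) F) := cokernel.π _
    let tr : cokernel (mulG O (a ^ k₁) F) ⟶ cokernel (mulG O (a ^ k₀) F) :=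
      cokernel.desc _ π₀ (mulG_pow_comp_zero O a hk₁ _ (cokernel.condition _))
    have htr : π₁ ≫ tr = π₀ := cokernel.π_desc _ _ _
    obtain ⟨l, hl, hih⟩ := ih _ (hs.coker _ hF hF) n k
    obtain ⟨Q₁, q₁, hq₁, hq₁k, hq₁f⟩ := exists_fine O g j l (cokernel (mulG O (a ^ k₁) F))
    obtain ⟨hiA, hiB⟩ := hih q₁ hq₁ hq₁f
    refine ⟨max l k₁, le_max_of_le_left hl, fun {Q} π hπ hfine => ?_⟩
    have hkill : Killed O g (j + 1) (max l k₁) (π₁ ≫ q₁) := fun t ht => by
      rcases Nat.lt_succ_iff_lt_or_eq.1 ht with ht | ht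
      · rw [← Category.assoc, ← mulG_nat, Category.assoc, (hq₁k.mono O (le_max_left _ _)) t ht, comp_zero]
      · obtain rfl : t = ⟨j, hj⟩ := Fin.ext ht
        exact mulG_pow_comp_zero O a (le_max_right _ _) _ (by rw [← Category.assoc, cokernel.condition, zero_comp])
    obtain ⟨χ, hχ⟩ := hfine _ hkill
    refine ⟨fun x hx => ?_, fun {T} ψ hψ z => ?_⟩
    · have h1 : XC.post q₁ (XC.post π₁ x) = 0 := by rw [XC.post_post, ← hχ, ← XC.post_post, hx, map_zero]
      have h2 : XC.post tr (XC.post π₁ x) ∈ Submodule.map (XC.post tr)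
          (powIdeal O g U j k • (⊤ : Submodule (O.obj.obj (op U)) _)) := Submodule.mem_map_of_mem (hiA _ h1)
      have hle : LinearMap.range (XC.post (U := U) (n := n) tr) ≤ LinearMap.range (XC.post (U := U) (n := n) π₀) := by
        rintro _ ⟨w, rfl⟩
        exact hsB' tr htr w
      rw [Submodule.map_smul'', Submodule.map_top, XC.post_post, htr] at h2
      obtain ⟨u, hu, hu'⟩ : XC.post π₀ x ∈ Submodule.map (XC.post π₀)
          (powIdeal O g U j k • (⊤ : Submodule (O.obj.obj (op U)) _)) := by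
        rw [Submodule.map_smul'', Submodule.map_top]
        exact Submodule.smul_mono le_rfl hle h2
      obtain ⟨y, hy⟩ := hsA (x - u) (by rw [map_sub, hu']; exact sub_self _)
      have hmono : powIdeal O g U j k ≤ powIdeal O g U (j + 1) k :=
        Ideal.span_mono fun b ⟨t, ht, e⟩ => ⟨t, Nat.lt_succ_of_lt ht, e⟩
      rw [← sub_add_cancel x u, ← hy]
      exact add_mem (Submodule.smul_mem_smul (Ideal.subset_span ⟨⟨j, hj⟩, Nat.lt_succ_self j, rfl⟩) Submodule.mem_top)
        (Submodule.smul_mono hmono le_rfl hu)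
    · have hjk : mulG O (a ^ k) F ≫ π ≫ ψ = 0 := hψ ⟨j, hj⟩ (Nat.lt_succ_self j)
      let φ₀ : cokernel (mulG O (a ^ k₀) F) ⟶ T :=
        cokernel.desc _ (π ≫ ψ) (mulG_pow_comp_zero O a hk₀ _ hjk)
      let φ₁ := tr ≫ φ₀
      have hφ₀ : π₀ ≫ φ₀ = π ≫ ψ := cokernel.π_desc _ _ _
      have hφ₁ : π₁ ≫ φ₁ = π ≫ ψ := by rw [← Category.assoc, htr, hφ₀]
      have hk₁k : Killed O g j k φ₁ := fun t ht => by
        rw [← cancel_epi π₁, comp_zero, ← Category.assoc, mulG_nat, Category.assoc, hφ₁]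
        exact hψ t (Nat.lt_succ_of_lt ht)
      obtain ⟨ψ₁, hψ₁⟩ := hq₁f φ₁ (hk₁k.mono O hl)
      have hψeq : χ ≫ ψ₁ = ψ := by
        rw [← cancel_epi π, ← Category.assoc, hχ, Category.assoc, hψ₁, hφ₁]
      obtain ⟨w, hw⟩ := hiB ψ₁ (by rw [hψ₁]; exact hk₁k) (XC.post χ z)
      obtain ⟨v, hv⟩ := hsB' tr htr w
      refine ⟨v, ?_⟩
      rw [← hψeq, ← XC.post_post χ, ← hw, hψ₁, ← XC.post_post tr, ← hv, XC.post_post, hψeq, hφ₀]

end Groth.Agent.ProperFormalH7
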