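import Groth.Agent.Lib.ProperFormalH7.Present
import Groth.Agent.Lib.SiteCmp16.RpushTrunc

/-!
# Coherence of the higher direct images of a proper morphism
-/

set_option autoImplicit false
set_option linter.style.haveILetI false
set_option linter.unusedSectionVars false
set_option backward.isDefEq.respectTransparency false
set_option backward.isDefEq.respectTransparency.types false
set_option maxHeartbeats 1000000
set_option synthInstance.maxHeartbeats 400000
set_option synthInstance.maxSize 1024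
universe u

open CategoryTheory CategoryTheory.Limits AlgebraicGeometry Opposite TopologicalSpace

noncomputable section

namespace Groth.Agent.ProperFormalH7

open FormalModH7 ModFlat16

attribute [local instance] HasDerivedCategory.standard

variable {𝔛 𝔜 : FSch.Sys.{u}} (hX : 𝔛.IsLocNoethFormal) (hY : 𝔜.IsLocNoethFormal) (f : 𝔛 ⟶ 𝔜)

include hY in
theorem isAffineOpen_preimage_sub (W W' : (𝔜.X 0).Opens) (hW' : IsAffineOpen W') (i : W' ≤ W) :
    IsAffineOpen ((𝔜.lvU hY.1 0 W).ι ⁻¹ᵁ W') := by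
  refine hW'.preimage_of_isOpenImmersion _ ?_
  rw [Scheme.Opens.opensRange_ι]
  exact i.trans (toX_preimage_lvU hY.1 0 W).ge

include hY in
theorem im_preimage_sub (W W' : (𝔜.X 0).Opens) (i : W' ≤ W) :
    (imF hY W).obj ((𝔜.lvU hY.1 0 W).ι ⁻¹ᵁ W') = W' := by
  refine ((𝔜.lvU hY.1 0 W).ι.image_preimage_eq_opensRange_inf W').trans ?_
  rw [Scheme.Opens.opensRange_ι, inf_eq_right]
  exact i.trans (toX_preimage_lvU hY.1 0 W).ge

include hY in
theorem im_top (W : (𝔜.X 0).Opens) : (imF hY W).obj ⊤ = W := by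
  refine ((𝔜.lvU hY.1 0 W).ι.image_top_eq_opensRange).trans ?_
  rw [Scheme.Opens.opensRange_ι]
  exact toX_preimage_lvU hY.1 0 W

theorem isProperHom_restrictOpen (hf : FSch.IsProperHom f) (W : (𝔜.X 0).Opens) :
    FSch.IsProperHom (FSch.Hom.restrictOpen f hX.1 hY.1 W) := by
  refine ⟨FormalH7.isAdicHom_of_comp _ (𝔜.restrictOpenι hY.1 W) ?_ (FormalH7.isAdicHom_restrictOpenι 𝔜 hY.1 W), ?_⟩
  · rw [FSch.Hom.restrictOpen_ι]
    exact FormalH7.isAdicHom_comp _ _ (FormalH7.isAdicHom_restrictOpenι 𝔛 hX.1 _) hf.1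
  · haveI := hf.2
    rw [FSch.Hom.restrictOpen_app]
    exact MorphismProperty.of_isPullback
      (FormalH7.isPullback_resLE_eq _ _ _ _ (FSch.Hom.lvU_preimage f hX.1 hY.1 0 W)).flip hf.2

/-- The classes of a coherent module on the inverse images of the affine opens of the target have presentations. -/
theorem presW_coh (hf : FSch.IsProperHom f) (M : FSch.ModF 𝔛 hX.1) (hM : FSch.IsCohF 𝔛 hX.1 M)
    (W : (𝔜.X 0).Opens) (hW : IsAffineOpen W) (n : ℕ) : PresW hX hY f W M n := by
  let U : (𝔛.X 0).Opens := ((f : FSch.Hom 𝔛 𝔜).app 0) ⁻¹ᵁ W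
  have hW0 : IsAffineOpen (𝔜.lvU hY.1 0 W) := by
    rw [show 𝔜.lvU hY.1 0 W = W from toX_preimage_lvU hY.1 0 W]; exact hW
  haveI : IsAffine ((sub hY W).X 0) := hW0
  haveI : CompactSpace ((sub hY W).X 0) := inferInstance
  haveI := hf.2
  have hU : IsCompact (U : Set (𝔛.X 0)) :=
    QuasiCompact.isCompact_preimage (f := (f : FSch.Hom 𝔛 𝔜).app 0) _ W.isOpen hW.isCompact
  haveI : CompactSpace ((sub hX U).X 0) :=
    isCompact_iff_compactSpace.1 (show IsCompact ((𝔛.lvU hX.1 0 U) : Set (𝔛.X 0)) by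
      rw [show 𝔛.lvU hX.1 0 U = U from toX_preimage_lvU hX.1 0 U]
      exact hU)
  haveI : IsProper ((fW hX hY f W : FSch.Hom _ _).app 0) := (isProperHom_restrictOpen hX hY f hf W).2
  haveI : HasInjectiveResolutions (FSch.ModF (sub hX U) (hS hX U).1) := inferInstance
  haveI : SiteCmp.HasRpushD (FSch.homMor (fW hX hY f W) (hS hX U).1 (hS hY W).1) :=
    KInjLib.hasRightDerivedFunctor KInjLib.enoughKInj_of_grothendieck _
  have hfb := finBC_coh (hS hX U) (hS hY W) (fW hX hY f W) (isProperHom_restrictOpen hX hY f hf W).1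
    ((rho hX U).obj M) (isCohF_rho hX U hM)
  obtain ⟨ι, κ, _, _, s, R, hR0, hloc⟩ :=
    presW_of_finBC (hS hX U) (hS hY W) (fW hX hY f W) _ hfb ⊤ (isAffineOpen_top _) n
  suffices key : PresW hX hY f ((imF hY W).obj ⊤) M n by rwa [im_top hY W] at key
  choose s₀ hs₀ using fun j => (bijective_tW hX hY f W M n ⊤).2 (s j)
  refine ⟨ι, κ, inferInstance, inferInstance, s₀, fun r j => (thetaE hY W ⊤).symm (R r j), fun r => ?_,
    fun W' hW' i => ?_⟩
  · apply (bijective_tW hX hY f W M n ⊤).1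
    rw [map_sum, map_zero, ← hR0 r]
    refine Finset.sum_congr rfl fun j _ => ?_
    rw [tW_smul, RingEquiv.apply_symm_apply, hs₀]
  · have hiW : W' ≤ W := i.trans (im_top hY W).le
    obtain ⟨V', hV', rfl⟩ : ∃ V', IsAffineOpen V' ∧ (imF hY W).obj V' = W' :=
      ⟨_, isAffineOpen_preimage_sub hY W W' hW' hiW, im_preimage_sub hY W W' hiW⟩
    have e : ∀ j, tW hX hY f W M n V' (XW.res (homOfLE i) (s₀ j)) = XW.res (homOfLE (le_top : V' ≤ ⊤)) (s j) :=
      fun j => (tW_res hX hY f W M n (le_top : V' ≤ ⊤) (s₀ j)).trans (congrArg _ (hs₀ j))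
    obtain ⟨h1, h2⟩ := hloc V' hV' le_top
    refine ⟨eq_top_iff.2 fun y _ => ?_, fun c hc => ?_⟩
    · obtain ⟨c, hc⟩ := (Submodule.mem_span_range_iff_exists_fun _).1
        (h1 ▸ Submodule.mem_top (x := tW hX hY f W M n V' y))
      refine (Submodule.mem_span_range_iff_exists_fun _).2
        ⟨fun j => (thetaE hY W V').symm (c j), (bijective_tW hX hY f W M n V').1 ?_⟩
      rw [map_sum]
      refine Eq.trans (Finset.sum_congr rfl fun j _ => ?_) hc
      rw [tW_smul, RingEquiv.apply_symm_apply, e]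
    · have h3 := congrArg (tW hX hY f W M n V') hc
      rw [map_sum, map_zero] at h3
      simp only [tW_smul, e] at h3
      obtain ⟨d, hd⟩ := (Submodule.mem_span_range_iff_exists_fun _).1 (h2 _ h3)
      refine (Submodule.mem_span_range_iff_exists_fun _).2
        ⟨fun r => (thetaE hY W V').symm (d r), funext fun j => (thetaE hY W V').injective ?_⟩
      rw [← congrFun hd j, Finset.sum_apply, Finset.sum_apply, map_sum]
      refine Finset.sum_congr rfl fun r _ => ?_
      rw [Pi.smul_apply, Pi.smul_apply, smul_eq_mul, smul_eq_mul, map_mul, RingEquiv.apply_symm_apply]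
      refine congrArg (d r * ·) ?_
      refine (congrArg (thetaE hY W V') (rA_thetaE_symm hY W (le_top : V' ≤ ⊤) (R r j))).trans ?_
      exact RingEquiv.apply_symm_apply _ _

/-- Presentations of classes give presentations of the higher direct image. -/
theorem hasPres_Rq [HasExt.{u} (ModSite.Mod (𝔛.Osh hX.1))] [SiteCmp.HasRpushD (FSch.homMor f hX.1 hY.1)]
    (M : FSch.ModF 𝔛 hX.1) (n : ℕ) (W : (𝔜.X 0).Opens) (h : PresW hX hY f W M n) :
    HasPres ((Rq (FSch.homMor f hX.1 hY.1) n).obj M) W := by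
  obtain ⟨ι, κ, _, _, s, R, hR0, hloc⟩ := h
  let fm := FSch.homMor f hX.1 hY.1
  refine ⟨ι, κ, inferInstance, inferInstance, fun j => eta fm W M n (XW.toXC (s j)), R, gens_mk _ ?_,
    rels_mk _ R (fun r => ?_) ?_⟩
  · intro W' k x
    obtain ⟨S, hS₀, hS'⟩ := locally_exists_eta fm (n := n) x
    refine ⟨Sieve.bind S.arrows fun W'' g _ => affSieve W'',
      (Opens.grothendieckTopology _).bind_covering hS₀ fun W'' g _ => affSieve_mem W'', ?_⟩
    rintro W₂ l ⟨W'', p, g, hg, ⟨A, hA, h1, h2⟩, rfl⟩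
    obtain ⟨ξ, hξ⟩ := hS' g hg
    have hAW : A ≤ W := h2.trans (g ≫ k).le
    let ξA : XW fm A M n := XW.toXC.symm (XC.res (fm.fn.map (homOfLE h2)) ξ)
    obtain ⟨c, hc⟩ := (Submodule.mem_span_range_iff_exists_fun _).1
      ((hloc A hA hAW).1 ▸ Submodule.mem_top (x := ξA))
    refine ⟨fun j => rA hY.1 h1 (c j), ?_⟩
    have h3 := congrArg (fun z : XW fm A M n => eta fm A M n (XW.toXC z)) hc
    simp only [map_sum, XW.toXC_smul, eta_smul, ξA, AddEquiv.apply_symm_apply, eta_res, hξ] at h3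
    have h4 := congrArg (smap ((Rq fm n).obj M) (homOfLE h1)) h3
    rw [ModFlat16.smap_comb, ← smap_comp, ← smap_comp] at h4
    refine Eq.trans ?_ (h4.symm.trans (Finset.sum_congr rfl fun j _ => congrArg (rA hY.1 h1 (c j) • ·) ?_))
    · exact congrArg (fun l => smap _ l x) (Subsingleton.elim _ _)
    · refine (congrArg (smap _ (homOfLE h1)) (eta_res fm (homOfLE hAW) (XW.toXC (s j)))).trans ?_
      rw [← smap_comp]
      exact congrArg (fun l => smap _ l _) (Subsingleton.elim _ _)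
  · refine Eq.trans ?_ (map_zero (eta fm W M n))
    rw [show (0 : XC (𝔛.Osh hX.1) (fm.fn.obj W) M n) = XW.toXC (∑ j, R r j • s j) by rw [hR0 r, map_zero], map_sum,
      map_sum]
    exact Finset.sum_congr rfl fun j _ => by rw [XW.toXC_smul, eta_smul]
  · intro W' k c hc
    let ξ : XW fm W' M n := ∑ j, c j • XW.res k (s j)
    have h0 : eta fm W' M n (XW.toXC ξ) = 0 := by
      rw [map_sum, map_sum]
      refine Eq.trans (Finset.sum_congr rfl fun j _ => ?_) hc
      rw [XW.toXC_smul, eta_smul]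
      exact congrArg (c j • ·) (eta_res fm k (XW.toXC (s j)))
    obtain ⟨S, hS₀, hS'⟩ := locally_zero_of_eta fm (XW.toXC ξ) h0
    refine ⟨Sieve.bind S.arrows fun W'' g _ => affSieve W'',
      (Opens.grothendieckTopology _).bind_covering hS₀ fun W'' g _ => affSieve_mem W'', ?_⟩
    rintro W₂ l ⟨W'', p, g, hg, ⟨A, hA, h1, h2⟩, rfl⟩
    have hAW' : A ≤ W' := h2.trans g.le
    have hAW : A ≤ W := hAW'.trans k.le
    have h3 : XW.res (homOfLE hAW') ξ = 0 := by
      apply XW.toXC.injective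
      rw [map_zero]
      change XC.res (fm.fn.map (homOfLE hAW')) (XW.toXC ξ) = 0
      rw [show fm.fn.map (homOfLE hAW') = fm.fn.map (homOfLE h2) ≫ fm.fn.map g from Subsingleton.elim _ _,
        ← XC.res_res, hS' g hg, map_zero]
    rw [map_sum] at h3
    simp only [XW.res_smul] at h3
    obtain ⟨d, hd⟩ := (Submodule.mem_span_range_iff_exists_fun _).1 ((hloc A hA hAW).2
      (fun j => rmap (𝔜.Osh hY.1) (homOfLE hAW') (c j)) (Eq.trans (Finset.sum_congr rfl fun j _ =>
        congrArg (rmap (𝔜.Osh hY.1) (homOfLE hAW') (c j) • ·) (by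
          change XC.res _ _ = XC.res _ (XC.res _ _)
          rw [XC.res_res]
          exact congrArg (fun l => XC.res l _) (Subsingleton.elim _ _))) h3))
    refine ⟨fun r => rA hY.1 h1 (d r), fun j => ?_⟩
    have h4 := congrArg (rA hY.1 h1) (congrFun hd j).symm
    rw [Finset.sum_apply, map_sum] at h4
    refine Eq.trans (Eq.trans ?_ h4) (Finset.sum_congr rfl fun r _ => ?_)
    · exact (rA_comp hY.1 hAW' h1 (c j)).symm
    · rw [Pi.smul_apply, smul_eq_mul, map_mul]
      exact congrArg (_ * ·) (rA_comp hY.1 hAW h1 (R r j))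

/-- The higher direct images of coherent modules under proper morphisms are coherent. -/
theorem isCohF_Rq_of_isProperHom [SiteCmp.HasRpushD (FSch.homMor f hX.1 hY.1)] (hf : FSch.IsProperHom f)
    (M : FSch.ModF 𝔛 hX.1) (hM : FSch.IsCohF 𝔛 hX.1 M) (n : ℕ) :
    FSch.IsCohF 𝔜 hY.1 ((Rq (FSch.homMor f hX.1 hY.1) n).obj M) :=
  isFinitePresentation_of_covd fun X₀ => ⟨affSieve X₀, affSieve_mem X₀, fun W'' l hl => by
    obtain ⟨A, hA, h1, -⟩ := hl
    exact HasPres.res (homOfLE h1) (hasPres_Rq hX hY f M n A (presW_coh hX hY f hf M hM A hA n))⟩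

end Groth.Agent.ProperFormalH7
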