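import Groth.Agent.Lib.ProperFormalH7.Adic
import Groth.Agent.Lib.FormalH7.OpenSys

/-!
# The structure sheaf of an open formal subsystem
-/

set_option autoImplicit false
set_option linter.style.haveILetI false
set_option linter.unusedSectionVars false
set_option backward.isDefEq.respectTransparency false
set_option backward.isDefEq.respectTransparency.types false
universe u

open CategoryTheory CategoryTheory.Limits AlgebraicGeometry Opposite TopologicalSpace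

noncomputable section

namespace Groth.Agent.ProperFormalH7

open FormalModH7

section Functoriality

variable {𝔛 𝔜 ℨ : FSch.Sys.{u}} (hX : 𝔛.IsLocNoethFormal) (hY : 𝔜.IsLocNoethFormal) (hZ : ℨ.IsLocNoethFormal)
  (f : 𝔛 ⟶ 𝔜) (g : 𝔜 ⟶ ℨ) {V V' : (𝔛.X 0).Opens} {W W' : (𝔜.X 0).Opens} {Z : (ℨ.X 0).Opens}

theorem rA_phiV (e : V ≤ ((f : FSch.Hom 𝔛 𝔜).app 0) ⁻¹ᵁ W) (i : V' ≤ V) (a : AV 𝔜 hY.1 W) :
    rA hX.1 i (phiV hX hY f e a) = phiV hX hY f (i.trans e) a :=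
  rA_comp hX.1 _ i _

theorem phiV_rA (e : V ≤ ((f : FSch.Hom 𝔛 𝔜).app 0) ⁻¹ᵁ W') (j : W' ≤ W) (a : AV 𝔜 hY.1 W) :
    phiV hX hY f e (rA hY.1 j a) = phiV hX hY f (le_trans e (fun _ hx => j hx)) a := by
  have h := congrArg (fun φ => φ.hom a) ((FSch.Hom.sharp f hX.1 hY.1).hom.naturality (homOfLE j).op)
  exact (congrArg (rA hX.1 e) h).trans (rA_comp hX.1 _ e _)

theorem phiV_phiV (e : V ≤ ((f : FSch.Hom 𝔛 𝔜).app 0) ⁻¹ᵁ W) (e' : W ≤ ((g : FSch.Hom 𝔜 ℨ).app 0) ⁻¹ᵁ Z)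
    (e'' : V ≤ ((f ≫ g : 𝔛 ⟶ ℨ) : FSch.Hom 𝔛 ℨ).app 0 ⁻¹ᵁ Z) (a : AV ℨ hZ.1 Z) :
    phiV hX hY f e (phiV hY hZ g e' a) = phiV hX hZ (f ≫ g) e'' a := by
  refine FormalModH7.ext 𝔛 hX.1 V fun n => ?_
  rw [prj_phiV, prj_phiV, prj_phiV]
  change ((((g : FSch.Hom 𝔜 ℨ).app n).appLE _ _ _) ≫ (((f : FSch.Hom 𝔛 𝔜).app n).appLE _ _ _)).hom _ = _
  rw [Scheme.Hom.appLE_comp_appLE]
  rfl

theorem phiV_congr {f f' : 𝔛 ⟶ 𝔜} (h : f = f') (e : V ≤ ((f : FSch.Hom 𝔛 𝔜).app 0) ⁻¹ᵁ W)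
    (e' : V ≤ ((f' : FSch.Hom 𝔛 𝔜).app 0) ⁻¹ᵁ W) (a : AV 𝔜 hY.1 W) :
    phiV hX hY f e a = phiV hX hY f' e' a := by
  subst h
  rfl

end Functoriality

variable {𝔛 : FSch.Sys.{u}} (hX : 𝔛.IsLocNoethFormal) (U : (𝔛.X 0).Opens)

include hX in
/-- Open subsystems are locally Noetherian formal schemes. -/
theorem isLocNoethFormal_restrictOpen : (𝔛.restrictOpen hX.1 U).IsLocNoethFormal := by
  haveI := hX.2.2 0
  haveI : IsLocallyNoetherian ((𝔛.restrictOpen hX.1 U).X 0) :=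
    inferInstanceAs (IsLocallyNoetherian (𝔛.lvU hX.1 0 U : Scheme))
  exact FormalH7.isLocNoethFormal_of_isAdicHom (𝔛.restrictOpenι hX.1 U) hX (FormalH7.isAdicHom_restrictOpenι 𝔛 hX.1 U)

/-- The open subsystem. -/
abbrev sub : FSch.Sys.{u} := 𝔛.restrictOpen hX.1 U

/-- The inclusion of opens of the subsystem. -/
abbrev imF : ((sub hX U).X 0).Opens ⥤ (𝔛.X 0).Opens := (𝔛.lvU hX.1 0 U).ι.opensFunctor

theorem le_im (V : ((sub hX U).X 0).Opens) :
    V ≤ ((𝔛.restrictOpenι hX.1 U : FSch.Hom _ _).app 0) ⁻¹ᵁ ((imF hX U).obj V) :=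
  ((𝔛.lvU hX.1 0 U).ι.preimage_image_eq V).ge

/-- Sections of the structure sheaf on an open of the subsystem. -/
def theta (V : ((sub hX U).X 0).Opens) :
    AV 𝔛 hX.1 ((imF hX U).obj V) →+* AV (sub hX U) (isLocNoethFormal_restrictOpen hX U).1 V :=
  phiV (isLocNoethFormal_restrictOpen hX U) hX (𝔛.restrictOpenι hX.1 U) (le_im hX U V)

theorem appLE_bijective {X Y : Scheme.{u}} (j : X ⟶ Y) [IsOpenImmersion j] (W : Y.Opens) (V : X.Opens)
    (e : j ⁻¹ᵁ W = V) (h : W ≤ j.opensRange) : Function.Bijective (j.appLE W V e.ge).hom := by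
  subst e
  haveI : IsIso (j.app W) := Scheme.Hom.isIso_app j W h
  rw [← Scheme.Hom.app_eq_appLE]
  exact ConcreteCategory.bijective_of_isIso (j.app W)

theorem bijective_level (V : ((sub hX U).X 0).Opens) (n : ℕ) :
    Function.Bijective ((((𝔛.restrictOpenι hX.1 U : FSch.Hom _ _).app n)).appLE (𝔛.lvU hX.1 n ((imF hX U).obj V))
      ((sub hX U).lvU (isLocNoethFormal_restrictOpen hX U).1 n V)
      (lvU_le_app (isLocNoethFormal_restrictOpen hX U) hX (𝔛.restrictOpenι hX.1 U) n (le_im hX U V))).hom := by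
  haveI : IsOpenImmersion ((𝔛.restrictOpenι hX.1 U : FSch.Hom _ _).app n) :=
    inferInstanceAs (IsOpenImmersion (𝔛.lvU hX.1 n U).ι)
  refine appLE_bijective _ _ _ ?_ ?_
  · refine (FSch.Hom.lvU_preimage (𝔛.restrictOpenι hX.1 U) (isLocNoethFormal_restrictOpen hX U).1 hX.1 n _).trans ?_
    exact congrArg ((sub hX U).lvU (isLocNoethFormal_restrictOpen hX U).1 n) ((𝔛.lvU hX.1 0 U).ι.preimage_image_eq V)
  · refine le_trans (lvU_mono hX.1 ?_ n) (Scheme.Opens.opensRange_ι _).ge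
    refine ((𝔛.lvU hX.1 0 U).ι.image_le_opensRange V).trans ((Scheme.Opens.opensRange_ι _).le.trans ?_)
    exact (toX_preimage_lvU hX.1 0 U).le

theorem bijective_theta (V : ((sub hX U).X 0).Opens) : Function.Bijective (theta hX U V) := by
  have hU := isLocNoethFormal_restrictOpen hX U
  refine ⟨fun x y hxy => FormalModH7.ext 𝔛 hX.1 _ fun n => (bijective_level hX U V n).1 ?_, fun y => ?_⟩
  · rw [← prj_phiV hU hX (𝔛.restrictOpenι hX.1 U) n (le_im hX U V) x,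
      ← prj_phiV hU hX (𝔛.restrictOpenι hX.1 U) n (le_im hX U V) y]
    exact congrArg (prj (sub hX U) hU.1 V n) hxy
  · choose z hz using fun n => (bijective_level hX U V n).2 (prj (sub hX U) hU.1 V n y)
    have e' : ∀ n, (sub hX U).lvU hU.1 n V ≤
        (((𝔛.restrictOpenι hX.1 U : FSch.Hom _ _).app n) ≫ 𝔛.ι n) ⁻¹ᵁ 𝔛.lvU hX.1 (n + 1) ((imF hX U).obj V) :=
      fun n => (lvU_le_app hU hX (𝔛.restrictOpenι hX.1 U) n (le_im hX U V)).trans
        (Scheme.Hom.preimage_mono _ (𝔛.lvU_le hX.1 n _))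
    obtain ⟨x, hx⟩ := FormalModH7.exists_lift 𝔛 hX.1 _ z fun n => by
      refine (bijective_level hX U V n).1 ?_
      rw [hz n, ← tr_prj, ← hz (n + 1)]
      change ((𝔛.ι n).appLE _ _ _ ≫ ((𝔛.restrictOpenι hX.1 U : FSch.Hom _ _).app n).appLE _ _ _).hom _ =
        (((𝔛.restrictOpenι hX.1 U : FSch.Hom _ _).app (n + 1)).appLE _ _ _ ≫ ((sub hX U).ι n).appLE _ _ _).hom _
      rw [Scheme.Hom.appLE_comp_appLE, Scheme.Hom.appLE_comp_appLE]
      congr 3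
      exact (𝔛.restrictOpenι hX.1 U : FSch.Hom _ _).comm n
    exact ⟨x, FormalModH7.ext (sub hX U) hU.1 V fun n => by
      rw [show prj (sub hX U) hU.1 V n (theta hX U V x) = _ from prj_phiV hU hX (𝔛.restrictOpenι hX.1 U) n (le_im hX U V) x,
        hx n, hz n]⟩

theorem theta_rA {V V' : ((sub hX U).X 0).Opens} (i : V' ≤ V) (a : AV 𝔛 hX.1 ((imF hX U).obj V)) :
    theta hX U V' (rA hX.1 ((imF hX U).map (homOfLE i)).le a) =
      rA (isLocNoethFormal_restrictOpen hX U).1 i (theta hX U V a) := by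
  rw [theta, theta, phiV_rA, rA_phiV]

end Groth.Agent.ProperFormalH7
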