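import Groth.Agent.Lib.ProperFormalH7.OpenSub
import Groth.Agent.Lib.ProperFormalH7.ExtSect
import Groth.Agent.Lib.SiteCoh.CechPush
import Groth.Agent.Lib.SiteRlim16.Instances

/-!
# Restriction of modules to an open formal subsystem
-/

set_option autoImplicit false
set_option linter.style.haveILetI false
set_option linter.unusedSectionVars false
set_option backward.isDefEq.respectTransparency false
set_option backward.isDefEq.respectTransparency.types false
set_option synthInstance.maxHeartbeats 400000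
set_option maxHeartbeats 1000000
universe u

open CategoryTheory CategoryTheory.Limits AlgebraicGeometry Opposite TopologicalSpace

noncomputable section

namespace Groth.Agent.ProperFormalH7

open FormalModH7 ModFlat16

variable {𝔛 : FSch.Sys.{u}} (hX : 𝔛.IsLocNoethFormal) (U : (𝔛.X 0).Opens)

/-- The open subsystem is a locally Noetherian formal scheme. -/
abbrev hS : (sub hX U).IsLocNoethFormal := isLocNoethFormal_restrictOpen hX U

instance isCocontinuous_imF : (imF hX U).IsCocontinuous (Opens.grothendieckTopology ((sub hX U).X 0))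
    (Opens.grothendieckTopology (𝔛.X 0)) :=
  inferInstanceAs ((𝔛.lvU hX.1 0 U).ι.opensFunctor.IsCocontinuous (Opens.grothendieckTopology _) (Opens.grothendieckTopology _))

instance isLeftAdjoint_imF : (imF hX U).IsLeftAdjoint :=
  inferInstanceAs ((𝔛.lvU hX.1 0 U).ι.opensFunctor.IsLeftAdjoint)

/-- The ring isomorphisms on opens of the subsystem. -/
def thetaE (V : ((sub hX U).X 0).Opens) :
    AV 𝔛 hX.1 ((imF hX U).obj V) ≃+* AV (sub hX U) (hS hX U).1 V :=
  RingEquiv.ofBijective _ (bijective_theta hX U V)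

theorem thetaE_apply (V : ((sub hX U).X 0).Opens) (a : AV 𝔛 hX.1 ((imF hX U).obj V)) :
    thetaE hX U V a = theta hX U V a := rfl

theorem rA_thetaE_symm {V V' : ((sub hX U).X 0).Opens} (i : V' ≤ V) (b : AV (sub hX U) (hS hX U).1 V) :
    rA hX.1 ((imF hX U).map (homOfLE i)).le ((thetaE hX U V).symm b) =
      (thetaE hX U V').symm (rA (hS hX U).1 i b) :=
  (thetaE hX U V').injective (by
    rw [RingEquiv.apply_symm_apply, thetaE_apply, theta_rA, ← thetaE_apply, RingEquiv.apply_symm_apply])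

/-- The structure sheaves of rings. -/
def ringMap : ModSite.ringSh ((sub hX U).Osh (hS hX U).1) ⟶
    ((imF hX U).sheafPushforwardContinuous RingCat.{u} (Opens.grothendieckTopology _)
      (Opens.grothendieckTopology _)).obj (ModSite.ringSh (𝔛.Osh hX.1)) :=
  ⟨{ app := fun V => RingCat.ofHom (thetaE hX U V.unop).symm.toRingHom
     naturality := fun V V' l => RingCat.hom_ext (RingHom.ext fun b =>
       (rA_thetaE_symm hX U l.unop.le b).symm) }⟩

instance isIso_ringMap : IsIso (ringMap hX U) := by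
  haveI : ∀ V, IsIso ((ringMap hX U).hom.app V) := fun V =>
    (inferInstance : IsIso ((thetaE hX U V.unop).symm.toRingCatIso).hom)
  haveI : IsIso (ringMap hX U).hom := NatIso.isIso_of_isIso_app _
  exact (isIso_iff_of_reflects_iso (ringMap hX U) (sheafToPresheaf _ _)).1 ‹_›

/-- Restriction of modules. -/
abbrev rho : FSch.ModF 𝔛 hX.1 ⥤ FSch.ModF (sub hX U) (hS hX U).1 :=
  SheafOfModules.pushforward.{u} (ringMap hX U)

instance preservesFiniteLimits_rho : PreservesFiniteLimits (rho hX U) :=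
  haveI : PreservesLimitsOfSize.{0, 0} (rho hX U) :=
    (Adjunction.ofIsRightAdjoint (rho hX U)).rightAdjoint_preservesLimits
  PreservesLimitsOfSize.preservesFiniteLimits _

instance preservesFiniteColimits_rho : PreservesFiniteColimits (rho hX U) :=
  haveI : (rho hX U).IsLeftAdjoint := inferInstance
  haveI : PreservesColimitsOfSize.{0, 0} (rho hX U) :=
    (Adjunction.ofIsLeftAdjoint (rho hX U)).leftAdjoint_preservesColimits
  PreservesColimitsOfSize.preservesFiniteColimits _

instance additive_rho : (rho hX U).Additive := Functor.additive_of_preserves_binary_products _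

variable {M N : FSch.ModF 𝔛 hX.1}

/-- Sections of the restriction. -/
def secRho (M : FSch.ModF 𝔛 hX.1) (V : ((sub hX U).X 0).Opens) :
    ModSite.sect M ((imF hX U).obj V) ≃+ ModSite.sect ((rho hX U).obj M) V where
  toFun x := x
  invFun x := x
  left_inv _ := rfl
  right_inv _ := rfl
  map_add' _ _ := rfl

theorem secRho_smul (V : ((sub hX U).X 0).Opens) (a : AV 𝔛 hX.1 ((imF hX U).obj V))
    (x : ModSite.sect M ((imF hX U).obj V)) :
    secRho hX U M V (a • x) = thetaE hX U V a • secRho hX U M V x := by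
  refine Eq.trans ?_ (show secRho hX U M V ((thetaE hX U V).symm (thetaE hX U V a) • x) =
    thetaE hX U V a • secRho hX U M V x from rfl)
  rw [RingEquiv.symm_apply_apply]

theorem smap_secRho {V V' : ((sub hX U).X 0).Opens} (l : V' ⟶ V) (x : ModSite.sect M ((imF hX U).obj V)) :
    smap ((rho hX U).obj M) l (secRho hX U M V x) = secRho hX U M V' (smap M ((imF hX U).map l) x) := rfl

/-- Restriction preserves coherence. -/
theorem isCohF_rho (hM : FSch.IsCohF 𝔛 hX.1 M) : FSch.IsCohF (sub hX U) (hS hX U).1 ((rho hX U).obj M) := by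
  haveI : SheafOfModules.IsFinitePresentation (R := ModSite.ringSh (𝔛.Osh hX.1)) M := hM
  refine isFinitePresentation_of_covd fun V₀ => ?_
  obtain ⟨S, hS₀, hS'⟩ := covd_hasPres (O := 𝔛.Osh hX.1) (M := M) ((imF hX U).obj V₀)
  refine ⟨S.functorPullback (imF hX U), (imF hX U).cover_lift _ (Opens.grothendieckTopology _) hS₀, fun V l hl => ?_⟩
  obtain ⟨ι, κ, _, _, s, R, hs, hR⟩ := hS' _ hl
  refine ⟨ι, κ, inferInstance, inferInstance, fun j => secRho hX U M V (s j), fun r j => thetaE hX U V (R r j),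
    gens_mk _ fun {W} k x => ?_, rels_mk _ _ (fun r => ?_) fun {W} k c hc => ?_⟩
  · obtain ⟨T, hT, h'⟩ := gens_apply hs ((imF hX U).map k) ((secRho hX U M W).symm x)
    refine ⟨T.functorPullback (imF hX U), (imF hX U).cover_lift _ (Opens.grothendieckTopology _) hT, fun W' l' hl' => ?_⟩
    obtain ⟨c, hc⟩ := h' _ hl'
    refine ⟨fun j => thetaE hX U W' (c j), ?_⟩
    refine (smap_secRho hX U l' ((secRho hX U M W).symm x)).trans ?_
    rw [hc, map_sum]
    refine Finset.sum_congr rfl fun j _ => ?_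
    rw [secRho_smul, smap_secRho, Functor.map_comp]
  · rw [← (secRho hX U M V).map_zero, ← hR.1 r, map_sum]
    exact Finset.sum_congr rfl fun j _ => (secRho_smul hX U V _ _).symm
  · obtain ⟨T, hT, h'⟩ := rels_apply hR ((imF hX U).map k) (fun j => (thetaE hX U W).symm (c j)) (by
      apply (secRho hX U M W).injective
      rw [map_sum, map_zero]
      refine Eq.trans (Finset.sum_congr rfl fun j _ => ?_) hc
      rw [secRho_smul, RingEquiv.apply_symm_apply, smap_secRho])
    refine ⟨T.functorPullback (imF hX U), (imF hX U).cover_lift _ (Opens.grothendieckTopology _) hT, fun W' l' hl' => ?_⟩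
    obtain ⟨d, hd⟩ := h' _ hl'
    refine ⟨fun r => thetaE hX U W' (d r), fun j => ?_⟩
    have h1 := congrArg (thetaE hX U W') (hd j)
    rw [map_sum] at h1
    simp only [map_mul] at h1
    refine Eq.trans ?_ (h1.trans (Finset.sum_congr rfl fun r _ => congrArg (thetaE hX U W' (d r) * ·) ?_))
    · refine Eq.trans ?_ (congrArg (thetaE hX U W') (rA_thetaE_symm hX U (V := W) (V' := W') l'.le (c j)).symm)
      rw [RingEquiv.apply_symm_apply]
      rfl
    · rw [← Functor.map_comp]
      exact theta_rA hX U (V := V) (V' := W') (l' ≫ k).le (R r j)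

section Ext

variable [HasExt.{u} (ModSite.Mod (𝔛.Osh hX.1))] [HasExt.{u} (ModSite.Mod ((sub hX U).Osh (hS hX U).1))]
  [EnoughInjectives (ModSite.Mod (𝔛.Osh hX.1))]

/-- The universal section. -/
def etaR (V : ((sub hX U).X 0).Opens) :
    ModSite.freeOn ((sub hX U).Osh (hS hX U).1) V ⟶ (rho hX U).obj (ModSite.freeOn (𝔛.Osh hX.1) ((imF hX U).obj V)) :=
  (ev _ V).symm (secRho hX U _ V (ev _ ((imF hX U).obj V) (𝟙 _)))

theorem ev_etaR_comp (V : ((sub hX U).X 0).Opens) (ψ : ModSite.freeOn (𝔛.Osh hX.1) ((imF hX U).obj V) ⟶ M) :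
    ev _ V (etaR hX U V ≫ (rho hX U).map ψ) = secRho hX U M V (ev _ ((imF hX U).obj V) ψ) := by
  refine (ev_comp _ (etaR hX U V) ((rho hX U).map ψ)).trans ?_
  rw [etaR, Equiv.apply_symm_apply]
  exact congrArg (secRho hX U M V) ((ev_comp _ (𝟙 _) ψ).symm.trans (congrArg _ (Category.id_comp ψ)))

/-- Classes restrict to the subsystem. -/
def xr (V : ((sub hX U).X 0).Opens) (M : FSch.ModF 𝔛 hX.1) (n : ℕ) :
    XC (𝔛.Osh hX.1) ((imF hX U).obj V) M n →+ XC ((sub hX U).Osh (hS hX U).1) V ((rho hX U).obj M) n :=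
  SiteCoh.extCompHom (R := rho hX U) (etaR hX U V) M n

theorem subsingleton_ext_rho_injective (V : ((sub hX U).X 0).Opens) (I : FSch.ModF 𝔛 hX.1) [Injective I] (k : ℕ) :
    Subsingleton (Abelian.Ext.{u} (ModSite.freeOn ((sub hX U).Osh (hS hX U).1) V) ((rho hX U).obj I) (k + 1)) := by
  haveI : HasPullbacks ((sub hX U).X 0).Opens := inferInstance
  refine SiteRlim.subsingleton_ext_freeOn _ V _ (k + 1) ?_
  obtain ⟨e⟩ := SiteCoh.nonempty_pushEquiv (imF hX U) (Opens.grothendieckTopology _) (Opens.grothendieckTopology _)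
    (ModSite.toAb I) V (k + 1)
  haveI := SiteCoh.subsingleton_HU_of_totallyAcyclic (SiteCoh.isTotallyAcyclic_injective _ I) ((imF hX U).obj V) k
  exact e.symm.injective.subsingleton

theorem bijective_xr (V : ((sub hX U).X 0).Opens) (M : FSch.ModF 𝔛 hX.1) (n : ℕ) :
    Function.Bijective (xr hX U V M n) :=
  SiteCoh.bijective_extCompHom (R := rho hX U) (etaR hX U V)
    (fun Y => by
      have e : (fun ψ : ModSite.freeOn (𝔛.Osh hX.1) ((imF hX U).obj V) ⟶ Y => etaR hX U V ≫ (rho hX U).map ψ) =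
          (ev _ V).symm ∘ (secRho hX U Y V) ∘ (ev _ ((imF hX U).obj V)) := funext fun ψ =>
        (ev _ V).injective (by rw [ev_etaR_comp]; exact ((ev _ V).apply_symm_apply _).symm)
      rw [e]
      exact (ev _ V).symm.bijective.comp ((secRho hX U Y V).bijective.comp (ev _ _).bijective))
    (fun I hI k => subsingleton_ext_rho_injective hX U V I k) n M

theorem xr_pre {V V' : ((sub hX U).X 0).Opens}
    (φ : ModSite.freeOn (𝔛.Osh hX.1) ((imF hX U).obj V') ⟶ ModSite.freeOn (𝔛.Osh hX.1) ((imF hX U).obj V))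
    (φ' : ModSite.freeOn ((sub hX U).Osh (hS hX U).1) V' ⟶ ModSite.freeOn ((sub hX U).Osh (hS hX U).1) V)
    (h : etaR hX U V' ≫ (rho hX U).map φ = φ' ≫ etaR hX U V) (n : ℕ) (ξ : XC (𝔛.Osh hX.1) ((imF hX U).obj V) M n) :
    xr hX U V' M n (show XC (𝔛.Osh hX.1) ((imF hX U).obj V') M n from
      (Abelian.Ext.mk₀ φ).comp ξ (zero_add n)) =
    (show XC ((sub hX U).Osh (hS hX U).1) V' ((rho hX U).obj M) n from
      (Abelian.Ext.mk₀ φ').comp (xr hX U V M n ξ) (zero_add n)) := by
  change (Abelian.Ext.mk₀ (etaR hX U V')).comp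
      (((Abelian.Ext.mk₀ φ).comp (ξ : Abelian.Ext.{u} _ _ n) (zero_add n)).mapExactFunctor (rho hX U)) (zero_add n) =
    (Abelian.Ext.mk₀ φ').comp ((Abelian.Ext.mk₀ (etaR hX U V)).comp
      ((ξ : Abelian.Ext.{u} _ _ n).mapExactFunctor (rho hX U)) (zero_add n)) (zero_add n)
  rw [Abelian.Ext.mapExactFunctor_comp, Abelian.Ext.mapExactFunctor_mk₀, Abelian.Ext.mk₀_comp_mk₀_assoc,
    Abelian.Ext.mk₀_comp_mk₀_assoc, h]

theorem xr_smul (V : ((sub hX U).X 0).Opens) (n : ℕ) (a : AV 𝔛 hX.1 ((imF hX U).obj V))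
    (ξ : XC (𝔛.Osh hX.1) ((imF hX U).obj V) M n) :
    xr hX U V M n (a • ξ) = thetaE hX U V a • xr hX U V M n ξ :=
  xr_pre hX U _ _ ((ev _ V).injective (by
    rw [ev_etaR_comp, ev_smF, secRho_smul, ev_smF_comp, etaR, Equiv.apply_symm_apply])) n ξ

theorem xr_res {V V' : ((sub hX U).X 0).Opens} (l : V' ⟶ V) (n : ℕ)
    (ξ : XC (𝔛.Osh hX.1) ((imF hX U).obj V) M n) :
    xr hX U V' M n (XC.res ((imF hX U).map l) ξ) = XC.res l (xr hX U V M n ξ) :=
  xr_pre hX U _ _ ((ev _ V').injective (by
    rw [ev_etaR_comp, ev_gen_comp, etaR, Equiv.apply_symm_apply, smap_secRho]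
    refine congrArg (secRho hX U _ V') ?_
    exact (congrArg _ (Category.comp_id _).symm).trans (ev_gen_comp _ ((imF hX U).map l) (𝟙 _)))) n ξ

end Ext

end Groth.Agent.ProperFormalH7
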