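import Groth.Agent.Lib.ProperFormalH7.Affine
import Groth.Agent.Lib.ProperFormalH7.Restrict

/-!
# Presentations of the classes over affine opens of the target
-/

set_option autoImplicit false
set_option linter.style.haveILetI false
set_option linter.unusedSectionVars false
set_option backward.isDefEq.respectTransparency false
set_option backward.isDefEq.respectTransparency.types false
set_option maxHeartbeats 1000000
set_option synthInstance.maxHeartbeats 400000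
set_option synthInstance.maxSize 1024
universe u

open CategoryTheory CategoryTheory.Limits AlgebraicGeometry Opposite TopologicalSpace

noncomputable section

namespace Groth.Agent.ProperFormalH7

open FormalModH7 ModFlat16

attribute [local instance] HasDerivedCategory.standard

variable {𝔛 𝔜 : FSch.Sys.{u}} (hX : 𝔛.IsLocNoethFormal) (hY : 𝔜.IsLocNoethFormal) (f : 𝔛 ⟶ 𝔜)
  [HasExt.{u} (ModSite.Mod (𝔛.Osh hX.1))] [HasExt.{u} (ModSite.Mod (𝔜.Osh hY.1))]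

/-- A finite presentation of the classes over `W` which stays one on the smaller affine opens. -/
def PresW (W : (𝔜.X 0).Opens) (M : FSch.ModF 𝔛 hX.1) (n : ℕ) : Prop :=
  ∃ (ι κ : Type u) (_ : Fintype ι) (_ : Fintype κ) (s : ι → XW (FSch.homMor f hX.1 hY.1) W M n)
    (R : κ → ι → AV 𝔜 hY.1 W), (∀ r, ∑ j, R r j • s j = 0) ∧
    ∀ (W' : (𝔜.X 0).Opens), IsAffineOpen W' → ∀ (i : W' ≤ W),
      Submodule.span (AV 𝔜 hY.1 W') (Set.range fun j => XW.res (homOfLE i) (s j)) = ⊤ ∧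
      ∀ c : ι → AV 𝔜 hY.1 W', ∑ j, c j • XW.res (homOfLE i) (s j) = 0 →
        c ∈ Submodule.span (AV 𝔜 hY.1 W') (Set.range fun r j => rA hY.1 i (R r j))

theorem presW_of_finBC [CompactSpace (𝔛.X 0)] [CompactSpace (𝔜.X 0)]
    [EnoughInjectives (ModSite.Mod (𝔛.Osh hX.1))] [SiteCmp.HasRpushD (FSch.homMor f hX.1 hY.1)]
    [HasInjectiveResolutions (FSch.ModF 𝔛 hX.1)] (M : FSch.ModF 𝔛 hX.1) (h : FinBC hX hY f M)
    (W : (𝔜.X 0).Opens) (hW : IsAffineOpen W) (n : ℕ) : PresW hX hY f W M n := by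
  classical
  haveI := (structure_AV hY hW).1
  haveI := h.fin W hW n
  obtain ⟨p, s, hs⟩ := Module.Finite.exists_fin (R := AV 𝔜 hY.1 W) (M := XW (FSch.homMor f hX.1 hY.1) W M n)
  let s' : ULift.{u} (Fin p) → XW (FSch.homMor f hX.1 hY.1) W M n := fun j => s j.down
  have hs' : Submodule.span (AV 𝔜 hY.1 W) (Set.range s') = ⊤ := by
    rw [← hs]; congr 1
    exact Equiv.ulift.surjective.range_comp s
  obtain ⟨q, R, hR⟩ := (Submodule.fg_iff_exists_fin_generating_family (N := LinearMap.ker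
    (Fintype.linearCombination (AV 𝔜 hY.1 W) s'))).1 (IsNoetherian.noetherian _)
  let R' : ULift.{u} (Fin q) → ULift.{u} (Fin p) → AV 𝔜 hY.1 W := fun r => R r.down
  have hR' : Submodule.span (AV 𝔜 hY.1 W) (Set.range R') =
      LinearMap.ker (Fintype.linearCombination (AV 𝔜 hY.1 W) s') := by
    rw [← hR]; congr 1
    exact Equiv.ulift.surjective.range_comp R
  refine ⟨_, _, inferInstance, inferInstance, s', R', fun r => ?_, fun W' hW' i => ?_⟩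
  · have : R' r ∈ LinearMap.ker (Fintype.linearCombination (AV 𝔜 hY.1 W) s') :=
      hR' ▸ Submodule.subset_span ⟨r, rfl⟩
    exact this
  · letI : Algebra (AV 𝔜 hY.1 W) (AV 𝔜 hY.1 W') := (rA hY.1 i).toAlgebra
    have hb := h.bc W W' hW hW' i n
    refine ⟨eq_top_iff.2 fun y _ => ?_, fun c hc => ?_⟩
    · obtain ⟨z, rfl⟩ := hb.2 y
      induction z using TensorProduct.induction_on with
      | zero => rw [map_zero]; exact Submodule.zero_mem _
      | tmul b x =>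
        rw [bcLift_tmul]
        refine Submodule.smul_mem _ b ?_
        have hx : x ∈ Submodule.span (AV 𝔜 hY.1 W) (Set.range s') := hs' ▸ Submodule.mem_top
        induction hx using Submodule.span_induction with
        | mem y hy => obtain ⟨j, rfl⟩ := hy; exact Submodule.subset_span ⟨j, rfl⟩
        | zero => rw [map_zero]; exact Submodule.zero_mem _
        | add a b _ _ ha hb => rw [map_add]; exact Submodule.add_mem _ (ha trivial) (hb trivial)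
        | smul a y _ hy => rw [resW_smul]; exact Submodule.smul_mem _ _ (hy trivial)
      | add a b ha hb => rw [map_add]; exact Submodule.add_mem _ (ha trivial) (hb trivial)
    · have h0 : ∑ j, c j ⊗ₜ[AV 𝔜 hY.1 W] s' j = 0 := hb.1 (by
        rw [map_zero, map_sum]
        exact hc)
      have h1 : ∑ j, s' j ⊗ₜ[AV 𝔜 hY.1 W] c j = 0 := by
        have h2 := congrArg (TensorProduct.comm (AV 𝔜 hY.1 W) (AV 𝔜 hY.1 W') _) h0
        rw [map_sum, map_zero] at h2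
        simpa only [TensorProduct.comm_tmul] using h2
      obtain ⟨k, a, y, hca, hsa⟩ := TensorProduct.vanishesTrivially_of_sum_tmul_eq_zero (AV 𝔜 hY.1 W) hs' h1
      have hc' : c = ∑ l, y l • fun j => rA hY.1 i (a j l) := funext fun j => by
        rw [hca j, Finset.sum_apply]
        exact Finset.sum_congr rfl fun l _ => mul_comm _ _
      rw [hc']
      refine Submodule.sum_mem _ fun l _ => Submodule.smul_mem _ _ ?_
      have hl : (fun j => a j l) ∈ Submodule.span (AV 𝔜 hY.1 W) (Set.range R') := by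
        rw [hR']
        exact hsa l
      obtain ⟨e, he⟩ := (Submodule.mem_span_range_iff_exists_fun (AV 𝔜 hY.1 W)).1 hl
      refine (Submodule.mem_span_range_iff_exists_fun (AV 𝔜 hY.1 W')).2 ⟨fun r => rA hY.1 i (e r), funext fun j => ?_⟩
      rw [← congrFun he j, Finset.sum_apply, Finset.sum_apply, map_sum]
      exact Finset.sum_congr rfl fun r _ => (map_mul _ _ _).symm

theorem bijective_res_of_eq {X : TopCat.{u}} (O : Sheaf (Opens.grothendieckTopology X) CommRingCat.{u})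
    [HasExt.{u} (ModSite.Mod O)] {P P' : Opens X} (h : P = P') (M : ModSite.Mod O) (n : ℕ) :
    Function.Bijective (XC.res (O := O) (M := M) (n := n) (homOfLE h.le)) := by
  subst h
  exact ⟨fun a b hab => (XC.res_id a).symm.trans (hab.trans (XC.res_id b)), fun a => ⟨a, XC.res_id a⟩⟩

section Transfer

variable (W : (𝔜.X 0).Opens)

/-- The restriction of the morphism over an open. -/
abbrev fW : sub hX (((f : FSch.Hom 𝔛 𝔜).app 0) ⁻¹ᵁ W) ⟶ sub hY W := FSch.Hom.restrictOpen f hX.1 hY.1 W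

theorem im_preimage (V : ((sub hY W).X 0).Opens) :
    (imF hX (((f : FSch.Hom 𝔛 𝔜).app 0) ⁻¹ᵁ W)).obj ((fW hX hY f W : FSch.Hom _ _).app 0 ⁻¹ᵁ V) =
      ((f : FSch.Hom 𝔛 𝔜).app 0) ⁻¹ᵁ ((imF hY W).obj V) := by
  have hpt : ∀ y, ((f : FSch.Hom 𝔛 𝔜).app 0) ((𝔛.lvU hX.1 0 (((f : FSch.Hom 𝔛 𝔜).app 0) ⁻¹ᵁ W)).ι y) =
      (𝔜.lvU hY.1 0 W).ι ((fW hX hY f W : FSch.Hom _ _).app 0 y) := fun y =>
    (congrArg (fun φ : (sub hX _).X 0 ⟶ 𝔜.X 0 => φ y)
      (congrArg (fun φ : sub hX _ ⟶ 𝔜 => (φ : FSch.Hom _ _).app 0) (FSch.Hom.restrictOpen_ι f hX.1 hY.1 W))).symm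
  refine Opens.ext (Set.ext fun x => ⟨?_, ?_⟩)
  · rintro ⟨y, hy, rfl⟩
    exact ⟨_, hy, (hpt y).symm⟩
  · rintro ⟨z, hz, e⟩
    have hzW : ((f : FSch.Hom 𝔛 𝔜).app 0) x ∈ W := by
      rw [show ((f : FSch.Hom 𝔛 𝔜).app 0) x = (𝔜.lvU hY.1 0 W).ι z from e.symm]
      exact (toX_preimage_lvU hY.1 0 W).le z.2
    let y : (𝔛.lvU hX.1 0 (((f : FSch.Hom 𝔛 𝔜).app 0) ⁻¹ᵁ W) : Scheme.{u}) :=
      ⟨x, (toX_preimage_lvU hX.1 0 (((f : FSch.Hom 𝔛 𝔜).app 0) ⁻¹ᵁ W)).ge hzW⟩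
    refine ⟨y, ?_, rfl⟩
    have hz' : z = (fW hX hY f W : FSch.Hom _ _).app 0 y :=
      (𝔜.lvU hY.1 0 W).ι.isOpenEmbedding.injective ((e.trans (hpt y) : _))
    exact (congrArg (· ∈ V) hz').mp hz

variable [HasExt.{u} (ModSite.Mod ((sub hX (((f : FSch.Hom 𝔛 𝔜).app 0) ⁻¹ᵁ W)).Osh (hS hX (((f : FSch.Hom 𝔛 𝔜).app 0) ⁻¹ᵁ W)).1))]
  [HasExt.{u} (ModSite.Mod ((sub hY W).Osh (hS hY W).1))] [EnoughInjectives (ModSite.Mod (𝔛.Osh hX.1))]
  (M : FSch.ModF 𝔛 hX.1) (n : ℕ)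

/-- Classes of the restricted morphism. -/
def tW (V : ((sub hY W).X 0).Opens) :
    XW (FSch.homMor f hX.1 hY.1) ((imF hY W).obj V) M n →+
      XW (FSch.homMor (fW hX hY f W) (hS hX _).1 (hS hY W).1) V ((rho hX (((f : FSch.Hom 𝔛 𝔜).app 0) ⁻¹ᵁ W)).obj M) n :=
  (XW.toXC (f := FSch.homMor (fW hX hY f W) (hS hX _).1 (hS hY W).1) (W := V)).symm.toAddMonoidHom.comp
    ((xr hX (((f : FSch.Hom 𝔛 𝔜).app 0) ⁻¹ᵁ W) ((fW hX hY f W : FSch.Hom _ _).app 0 ⁻¹ᵁ V) M n).comp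
      ((XC.res (O := 𝔛.Osh hX.1) (homOfLE (im_preimage hX hY f W V).le)).comp
        (XW.toXC (f := FSch.homMor f hX.1 hY.1) (W := (imF hY W).obj V) (M := M) (n := n)).toAddMonoidHom))

theorem toXC_tW (V : ((sub hY W).X 0).Opens) (ξ : XW (FSch.homMor f hX.1 hY.1) ((imF hY W).obj V) M n) :
    XW.toXC (f := FSch.homMor (fW hX hY f W) (hS hX _).1 (hS hY W).1) (W := V) (tW hX hY f W M n V ξ) =
      xr hX (((f : FSch.Hom 𝔛 𝔜).app 0) ⁻¹ᵁ W) ((fW hX hY f W : FSch.Hom _ _).app 0 ⁻¹ᵁ V) M n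
        (XC.res (O := 𝔛.Osh hX.1) (homOfLE (im_preimage hX hY f W V).le)
          ((XW.toXC (f := FSch.homMor f hX.1 hY.1) (W := (imF hY W).obj V) (M := M) (n := n)) ξ)) := rfl

theorem bijective_tW (V : ((sub hY W).X 0).Opens) : Function.Bijective (tW hX hY f W M n V) := by
  refine (Function.Bijective.of_comp_iff' (XW.toXC (f := FSch.homMor (fW hX hY f W) (hS hX _).1 (hS hY W).1)
    (W := V) (M := (rho hX (((f : FSch.Hom 𝔛 𝔜).app 0) ⁻¹ᵁ W)).obj M) (n := n)).bijective _).1 ?_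
  rw [show (⇑XW.toXC ∘ ⇑(tW hX hY f W M n V)) = _ from funext fun ξ => toXC_tW hX hY f W M n V ξ]
  exact (bijective_xr hX _ ((fW hX hY f W : FSch.Hom _ _).app 0 ⁻¹ᵁ V) M n).comp
    ((bijective_res_of_eq (𝔛.Osh hX.1) (im_preimage hX hY f W V) M n).comp XW.toXC.bijective)

theorem theta_compat (V : ((sub hY W).X 0).Opens) (a : AV 𝔜 hY.1 ((imF hY W).obj V)) :
    theta hX (((f : FSch.Hom 𝔛 𝔜).app 0) ⁻¹ᵁ W) ((fW hX hY f W : FSch.Hom _ _).app 0 ⁻¹ᵁ V)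
      (rA hX.1 (im_preimage hX hY f W V).le (shp (FSch.homMor f hX.1 hY.1) ((imF hY W).obj V) a)) =
    shp (FSch.homMor (fW hX hY f W) (hS hX _).1 (hS hY W).1) V (theta hY W V a) := by
  have e₁ : (fW hX hY f W : FSch.Hom _ _).app 0 ⁻¹ᵁ V ≤
      (((fW hX hY f W ≫ 𝔜.restrictOpenι hY.1 W : _ ⟶ 𝔜) : FSch.Hom _ _).app 0) ⁻¹ᵁ ((imF hY W).obj V) :=
    fun _ hy => le_im hY W V hy
  have e₂ : (fW hX hY f W : FSch.Hom _ _).app 0 ⁻¹ᵁ V ≤
      (((𝔛.restrictOpenι hX.1 (((f : FSch.Hom 𝔛 𝔜).app 0) ⁻¹ᵁ W) ≫ f : _ ⟶ 𝔜) : FSch.Hom _ _).app 0) ⁻¹ᵁ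
        ((imF hY W).obj V) :=
    fun _ hy => (im_preimage hX hY f W V).le (le_im hX _ _ hy)
  have h1 := phiV_phiV (hS hX (((f : FSch.Hom 𝔛 𝔜).app 0) ⁻¹ᵁ W)) (hS hY W) hY (fW hX hY f W)
    (𝔜.restrictOpenι hY.1 W) (V := (fW hX hY f W : FSch.Hom _ _).app 0 ⁻¹ᵁ V) (W := V) le_rfl (le_im hY W V) e₁ a
  have h2 := phiV_phiV (hS hX (((f : FSch.Hom 𝔛 𝔜).app 0) ⁻¹ᵁ W)) hX hY
    (𝔛.restrictOpenι hX.1 (((f : FSch.Hom 𝔛 𝔜).app 0) ⁻¹ᵁ W)) f
    (le_im hX (((f : FSch.Hom 𝔛 𝔜).app 0) ⁻¹ᵁ W) ((fW hX hY f W : FSch.Hom _ _).app 0 ⁻¹ᵁ V))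
    (im_preimage hX hY f W V).le e₂ a
  refine h2.trans ((phiV_congr (hS hX (((f : FSch.Hom 𝔛 𝔜).app 0) ⁻¹ᵁ W)) hY
    (FSch.Hom.restrictOpen_ι f hX.1 hY.1 W) e₁ e₂ a).symm.trans (h1.symm.trans ?_))
  exact congrFun (congrArg DFunLike.coe (congrArg CommRingCat.Hom.hom
    (((sub hX (((f : FSch.Hom 𝔛 𝔜).app 0) ⁻¹ᵁ W)).Osh (hS hX _).1).obj.map_id _))) _

theorem tW_smul (V : ((sub hY W).X 0).Opens) (a : AV 𝔜 hY.1 ((imF hY W).obj V))
    (ξ : XW (FSch.homMor f hX.1 hY.1) ((imF hY W).obj V) M n) :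
    tW hX hY f W M n V (a • ξ) = thetaE hY W V a • tW hX hY f W M n V ξ := by
  refine (XW.toXC (f := FSch.homMor (fW hX hY f W) (hS hX _).1 (hS hY W).1) (W := V)
    (M := (rho hX (((f : FSch.Hom 𝔛 𝔜).app 0) ⁻¹ᵁ W)).obj M) (n := n)).injective ?_
  refine (toXC_tW hX hY f W M n V (a • ξ)).trans ?_
  refine Eq.trans ?_ (XW.toXC_smul (f := FSch.homMor (fW hX hY f W) (hS hX _).1 (hS hY W).1) (W := V)
    (thetaE hY W V a) (tW hX hY f W M n V ξ)).symm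
  refine Eq.trans ?_ (congrArg (shp (FSch.homMor (fW hX hY f W) (hS hX _).1 (hS hY W).1) V (thetaE hY W V a) • ·)
    (toXC_tW hX hY f W M n V ξ)).symm
  have h1 := XC.res_smul (O := 𝔛.Osh hX.1) (homOfLE (im_preimage hX hY f W V).le)
    (shp (FSch.homMor f hX.1 hY.1) ((imF hY W).obj V) a)
    (XW.toXC (f := FSch.homMor f hX.1 hY.1) (W := (imF hY W).obj V) (M := M) (n := n) ξ)
  refine (congrArg (xr hX (((f : FSch.Hom 𝔛 𝔜).app 0) ⁻¹ᵁ W) ((fW hX hY f W : FSch.Hom _ _).app 0 ⁻¹ᵁ V) M n) h1).trans ?_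
  refine (xr_smul hX (((f : FSch.Hom 𝔛 𝔜).app 0) ⁻¹ᵁ W) ((fW hX hY f W : FSch.Hom _ _).app 0 ⁻¹ᵁ V) n _ _).trans ?_
  refine congr (congrArg HSMul.hSMul ?_) ?_
  · exact theta_compat hX hY f W V a
  · rfl

theorem tW_res {V V' : ((sub hY W).X 0).Opens} (i : V' ≤ V) (ξ : XW (FSch.homMor f hX.1 hY.1) ((imF hY W).obj V) M n) :
    tW hX hY f W M n V' (XW.res ((imF hY W).map (homOfLE i)) ξ) = XW.res (homOfLE i) (tW hX hY f W M n V ξ) := by
  apply XW.toXC.injective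
  rw [toXC_tW]
  refine Eq.trans ?_ ((congrArg (XC.res ((FSch.homMor (fW hX hY f W) (hS hX _).1 (hS hY W).1).fn.map (homOfLE i)))
    (toXC_tW hX hY f W M n V ξ).symm).symm.symm)
  refine Eq.trans ?_ (xr_res hX _ _ n _)
  refine congrArg (xr hX _ _ M n) ?_
  refine (XC.res_res _ _ (XW.toXC ξ)).trans ((XC.res_res _ _ (XW.toXC ξ)).trans ?_).symm
  exact congrArg (fun l => XC.res l (XW.toXC ξ)) (Subsingleton.elim _ _)

end Transfer

end Groth.Agent.ProperFormalH7
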