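import Groth.Agent.Lib.ProperFormalH7.Main
import Groth.Agent.Lib.FTorsH7.RpushQCT

/-!
# Finiteness for proper morphisms of formal schemes
-/

set_option autoImplicit false
set_option linter.style.haveILetI false
set_option linter.unusedSectionVars false
set_option backward.isDefEq.respectTransparency false
set_option backward.isDefEq.respectTransparency.types false
set_option maxHeartbeats 1000000
set_option synthInstance.maxHeartbeats 400000
set_option synthInstance.maxSize 1024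
universe u

open CategoryTheory CategoryTheory.Limits AlgebraicGeometry Opposite TopologicalSpace

noncomputable section

namespace Groth.Agent.ProperFormalH7

open FormalModH7 ModFlat16 FTorsH7

attribute [local instance] HasDerivedCategory.standard

variable {𝔛 𝔜 : FSch.Sys.{u}} (hX : 𝔛.IsLocNoethFormal) (hY : 𝔜.IsLocNoethFormal) (f : 𝔛 ⟶ 𝔜)

/-- The higher direct images of coherent modules under proper morphisms are coherent. -/
theorem isCohF_rpushF_of_isProperHom (hf : FSch.IsProperHom f) [HasInjectiveResolutions (FSch.ModF 𝔛 hX.1)]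
    (M : FSch.ModF 𝔛 hX.1) (hM : FSch.IsCohF 𝔛 hX.1 M) (q : ℕ) :
    FSch.IsCohF 𝔜 hY.1 ((FSch.RpushF f hX.1 hY.1 q).obj M) := by
  haveI : IsGrothendieckAbelian.{u} (FSch.ModF 𝔛 hX.1) :=
    CohFound.isGrothendieckAbelian_sheafOfModules (ModSite.ringSh (𝔛.Osh hX.1))
  haveI : SiteCmp.HasRpushD (FSch.homMor f hX.1 hY.1) :=
    KInjLib.hasRightDerivedFunctor KInjLib.enoughKInj_of_grothendieck _
  obtain ⟨e⟩ := RpushTrunc.nonempty_homology_inD_iso (FSch.homMor f hX.1 hY.1) M q
  exact (SheafOfModules.isFinitePresentation (R := ModSite.ringSh (𝔜.Osh hY.1))).prop_of_iso e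
    (isCohF_Rq_of_isProperHom hX hY f hf M hM q)

/-- The direct image of the structure sheaf under a finite morphism is coherent. -/
theorem isCohF_pushF_unit_of_isFiniteHom (hf : FSch.IsFiniteHom f) :
    FSch.IsCohF 𝔜 hY.1 ((FSch.pushF f hX.1 hY.1).obj (FSch.unitF 𝔛 hX.1)) := by
  haveI : IsGrothendieckAbelian.{u} (FSch.ModF 𝔛 hX.1) :=
    CohFound.isGrothendieckAbelian_sheafOfModules (ModSite.ringSh (𝔛.Osh hX.1))
  haveI := IsGrothendieckAbelian.enoughInjectives (C := FSch.ModF 𝔛 hX.1)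
  haveI : PreservesFiniteLimits (FSch.pushF f hX.1 hY.1) :=
    haveI := (FSch.homMor f hX.1 hY.1).adj.rightAdjoint_preservesLimits
    inferInstance
  haveI := hf.2
  exact (SheafOfModules.isFinitePresentation (R := ModSite.ringSh (𝔜.Osh hY.1))).prop_of_iso
    ((FSch.pushF f hX.1 hY.1).rightDerivedZeroIsoSelf.app (FSch.unitF 𝔛 hX.1))
    (isCohF_rpushF_of_isProperHom hX hY f ⟨hf.1, inferInstance⟩ (FSch.unitF 𝔛 hX.1)
      (isFinitePresentation_unit (O := 𝔛.Osh hX.1)) 0)

section Derived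

variable [SiteCmp.HasRpushD (FSch.homMor f hX.1 hY.1)]

theorem isClosedUnderIsomorphisms_isCohF {𝔷 : FSch.Sys.{u}} (hZ : 𝔷.IsLocNoethFormal) :
    ObjectProperty.IsClosedUnderIsomorphisms (fun M => FSch.IsCohF 𝔷 hZ.1 M : ObjectProperty (FSch.ModF 𝔷 hZ.1)) :=
  ⟨fun e h => (SheafOfModules.isFinitePresentation (R := ModSite.ringSh (𝔷.Osh hZ.1))).prop_of_iso e h⟩

theorem five_isCohF {𝔷 : FSch.Sys.{u}} (hZ : 𝔷.IsLocNoethFormal) [CompactSpace (𝔷.X 0)] :
    Five (fun M => FSch.IsCohF 𝔷 hZ.1 M : ObjectProperty (FSch.ModF 𝔷 hZ.1)) :=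
  fun _ _ _ _ _ a b c d hab hbc hcd e₁ e₂ e₃ h₀ h₁ h₃ h₄ =>
    isFinitePresentation_of_five hZ a b c d hab hbc hcd e₁ e₂ e₃ h₀ h₁ h₃ h₄
      (by
        haveI := isQuasicoherent_of_ind hZ (ind_coh hZ h₀)
        haveI := isQuasicoherent_of_ind hZ (ind_coh hZ h₁)
        haveI := isQuasicoherent_of_ind hZ (ind_coh hZ h₃)
        haveI := isQuasicoherent_of_ind hZ (ind_coh hZ h₄)
        exact isQuasicoherent_of_five hZ a b c d hab hbc hcd e₁ e₂ e₃)

variable [CompactSpace (𝔜.X 0)]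

/-- Coherent modules have derived direct images with coherent cohomology. -/
theorem good_inD_isCohF (hf : FSch.IsProperHom f) (M : FSch.ModF 𝔛 hX.1) (hM : FSch.IsCohF 𝔛 hX.1 M) :
    Good (SiteCmp.RpushD (FSch.homMor f hX.1 hY.1)) (fun M => FSch.IsCohF 𝔜 hY.1 M)
      (SiteCmp.inD (𝔛.Osh hX.1) M) := by
  intro i
  rcases lt_or_ge i 0 with hi | hi
  · refine (cohTors_of_isZero hY ?_).2
    haveI := RpushTrunc.isGE_rpushD (FSch.homMor f hX.1 hY.1) (SiteCmp.inD (𝔛.Osh hX.1) M) 0 inferInstance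
    exact DerivedCategory.isZero_of_isGE _ 0 i hi
  · obtain ⟨q, rfl⟩ := Int.eq_ofNat_of_zero_le hi
    exact isCohF_Rq_of_isProperHom hX hY f hf M hM q

variable [CompactSpace (𝔛.X 0)]

/-- Direct images of complexes with coherent cohomology have coherent cohomology. -/
theorem isCohF_HMod_rpushD (hf : FSch.IsProperHom f) (G : DerivedCategory (FSch.ModF 𝔛 hX.1))
    (hG : ∀ i : ℤ, FSch.IsCohF 𝔛 hX.1 (SiteCmp.HMod G i)) (i : ℤ) :
    FSch.IsCohF 𝔜 hY.1 (SiteCmp.HMod ((SiteCmp.RpushD (FSch.homMor f hX.1 hY.1)).obj G) i) := by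
  haveI := isClosedUnderIsomorphisms_isCohF hY
  haveI := isClosedUnderIsomorphisms_isCohF hX
  obtain ⟨_, _⟩ := SitePAdj.exists_commShift_isTriangulated_rpushD (FSch.homMor f hX.1 hY.1)
  obtain ⟨B, d, hB, hd⟩ := exists_basis_bound hX f
  exact good_of_amplitude (five_isCohF hY) (fun M => FSch.IsCohF 𝔛 hX.1 M)
    (fun M hM => good_inD_isCohF hX hY f hf M hM)
    (fun _ h => (cohTors_of_isZero hX h).2) d (fun X a h => RpushTrunc.isGE_rpushD _ X a h)
    (fun X e hX' he m hm => isZero_HMod_rpushD_ind hX hY.1 f B hB d hd X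
      (fun i => ind_coh hX (hX' i)) e he m hm) G hG i

theorem indC_of_isZero {𝔷 : FSch.Sys.{u}} (hZ : 𝔷.IsLocNoethFormal) [CompactSpace (𝔷.X 0)]
    {M : FSch.ModF 𝔷 hZ.1} (h : IsZero M) : IndC hZ M :=
  ind_coh hZ (cohTors_of_isZero hZ h).2

theorem indC_HMod_inD {M : FSch.ModF 𝔛 hX.1} (h : IndC hX M) (i : ℤ) :
    IndC hX (SiteCmp.HMod (SiteCmp.inD (𝔛.Osh hX.1) M) i) := by
  by_cases hi : i = 0
  · subst hi
    exact ObjectProperty.prop_of_iso _
      ((DerivedCategory.singleFunctorCompHomologyFunctorIso (FSch.ModF 𝔛 hX.1) 0).app M).symm h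
  · refine indC_of_isZero hX ?_
    rcases lt_or_gt_of_ne hi with hi | hi
    · exact DerivedCategory.isZero_of_isGE _ 0 i hi
    · exact DerivedCategory.isZero_of_isLE _ 0 i hi

/-- Ind-coherent modules have derived direct images with ind-coherent cohomology. -/
theorem good_inD_indC (hf : FSch.IsProperHom f) (M : FSch.ModF 𝔛 hX.1) (hM : IndC hX M) :
    Good (SiteCmp.RpushD (FSch.homMor f hX.1 hY.1)) (IndC hY) (SiteCmp.inD (𝔛.Osh hX.1) M) := by
  haveI : IsGrothendieckAbelian.{u} (FSch.ModF 𝔛 hX.1) :=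
    CohFound.isGrothendieckAbelian_sheafOfModules (ModSite.ringSh (𝔛.Osh hX.1))
  obtain ⟨_, _⟩ := SitePAdj.exists_commShift_isTriangulated_rpushD (FSch.homMor f hX.1 hY.1)
  obtain ⟨B, d, hB, hd⟩ := exists_basis_bound hX f
  refine good_of_resolution (P := IndC hY)
    (fun _ _ _ _ _ a b c d hab hbc hcd e₁ e₂ e₃ => ind_of_five hY a b c d hab hbc hcd e₁ e₂ e₃)
    (IndC hX) (fun M hM => ?_) d (fun M hM m hm => ?_) M hM
  · haveI := isQuasicoherent_of_ind hX hM
    obtain ⟨A, C, g, hC, hg⟩ := exists_covers hX hM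
    obtain ⟨J, i₁, i₂, pres, hp, -⟩ := exists_mono_pres hX hC hg
    let p : (∐ fun j => pres.diag.obj j) ⟶ M := Sigma.desc fun j => pres.ι.app j
    haveI : Epi p := ⟨fun a b h => pres.isColimit.hom_ext fun j => by
      have := Sigma.ι (fun j => pres.diag.obj j) j ≫= h
      simpa [p] using this⟩
    refine ⟨_, p, inferInstance, ind_kernel hX p (ind_sigma hX _ fun j => ind_coh hX (hp j)) hM, ?_⟩
    haveI : ∀ i, PreservesColimitsOfShape (Discrete J) (DerivedCategory.homologyFunctor (FSch.ModF 𝔜 hY.1) i) :=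
      fun i => DPush.preservesColimitsOfShape_homology (A := FSch.ModF 𝔜 hY.1) (T := J) i
    haveI : (IndC hY).IsClosedUnderColimitsOfShape (Discrete J) := by
      refine ⟨fun X hX' => ?_⟩
      obtain ⟨data⟩ := hX'
      exact ind_colimit hY data.diag (Cocone.mk _ data.ι) data.isColimit data.prop_diag_obj
    haveI : PreservesColimit (Discrete.functor fun j =>
        (DerivedCategory.singleFunctor (FSch.ModF 𝔛 hX.1) 0).obj (pres.diag.obj j))
        (SiteCmp.RpushD (FSch.homMor f hX.1 hY.1)) :=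
      preservesColimit_rpushD_ind hX hY.1 f (fun j =>
        (DerivedCategory.singleFunctor (FSch.ModF 𝔛 hX.1) 0).obj (pres.diag.obj j)) fun j i =>
        indC_HMod_inD hX (ind_coh hX (hp j)) i
    exact good_sigma (fun j => pres.diag.obj j) fun j i =>
      ind_coh hY (good_inD_isCohF hX hY f hf _ (hp j) i)
  · exact isZero_HMod_rpushD_ind hX hY.1 f B hB d hd _ (indC_HMod_inD hX hM) 0
      (fun i hi => DerivedCategory.isZero_of_isLE _ 0 i hi) m (by omega)

/-- Direct images of complexes with ind-coherent cohomology have ind-coherent cohomology. -/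
theorem indC_HMod_rpushD (hf : FSch.IsProperHom f) (G : DerivedCategory (FSch.ModF 𝔛 hX.1))
    (hG : ∀ i : ℤ, IndC hX (SiteCmp.HMod G i)) (i : ℤ) :
    IndC hY (SiteCmp.HMod ((SiteCmp.RpushD (FSch.homMor f hX.1 hY.1)).obj G) i) := by
  obtain ⟨_, _⟩ := SitePAdj.exists_commShift_isTriangulated_rpushD (FSch.homMor f hX.1 hY.1)
  obtain ⟨B, d, hB, hd⟩ := exists_basis_bound hX f
  exact good_of_amplitude (P := IndC hY)
    (fun _ _ _ _ _ a b c d hab hbc hcd e₁ e₂ e₃ => ind_of_five hY a b c d hab hbc hcd e₁ e₂ e₃)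
    (IndC hX) (fun M hM => good_inD_indC hX hY f hf M hM)
    (fun _ h => indC_of_isZero hX h) d (fun X a h => RpushTrunc.isGE_rpushD _ X a h)
    (fun X e hX' he m hm => isZero_HMod_rpushD_ind hX hY.1 f B hB d hd X hX' e he m hm) G hG i

end Derived

end Groth.Agent.ProperFormalH7
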