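import Groth.Agent.Lib.ProperFormalH7.LevelsLoc
import Groth.Agent.Lib.ProperFormalH7.RqIso
import Groth.Agent.Lib.Algz27.ML27

/-!
# The theorem on formal functions for the higher direct image sheaves
-/

set_option autoImplicit false
set_option linter.style.haveILetI false
set_option linter.unusedSectionVars false
set_option backward.isDefEq.respectTransparency false
set_option backward.isDefEq.respectTransparency.types false
set_option maxHeartbeats 1000000
set_option synthInstance.maxHeartbeats 400000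
set_option synthInstance.maxSize 1024
universe u

open CategoryTheory CategoryTheory.Limits AlgebraicGeometry Opposite TopologicalSpace

noncomputable section

namespace Groth.Agent.ProperFormalH7

open FormalModH7

section Limit

variable {𝔜 : FSch.Sys.{u}} (hY : 𝔜.IsLocNoethFormal) (D : ℕᵒᵖ ⥤ FSch.ModF 𝔜 hY.1) (W : (𝔜.X 0).Opens)

/-- Sections of a limit are determined by their projections. -/
theorem limit_sect_ext (x : FSec hY (limit D) W) (h : ∀ k, (limit.π D (op k)).val.app (op W) x = 0) : x = 0 := by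
  have hlim := isLimitOfPreserves (evT hY.1 W) (limit.isLimit D)
  apply (Types.isLimitEquivSections hlim).injective
  refine Subtype.ext (funext fun k => ?_)
  refine (Types.isLimitEquivSections_apply hlim k x).trans
    (Eq.trans ?_ (Types.isLimitEquivSections_apply hlim k (0 : FSec hY (limit D) W)).symm)
  exact (h k.unop).trans (map_zero ((limit.π D k).val.app (op W)).hom).symm

/-- Compatible sections come from the limit. -/
theorem exists_limit_sect (y : ∀ k, FSec hY (D.obj (op k)) W)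
    (hy : ∀ {l m : ℕ} (h : m ≤ l), (D.map (homOfLE h).op).val.app (op W) (y l) = y m) :
    ∃ x : FSec hY (limit D) W, ∀ k, (limit.π D (op k)).val.app (op W) x = y k := by
  have hlim := isLimitOfPreserves (evT hY.1 W) (limit.isLimit D)
  let sec : (D ⋙ evT hY.1 W).sections := ⟨fun k => y k.unop, fun {a b} e => by
    rw [show e = (homOfLE e.unop.le).op from Subsingleton.elim _ _]
    exact hy _⟩
  exact ⟨(Types.isLimitEquivSections hlim).symm sec, fun k => Types.isLimitEquivSections_symm_apply hlim sec (op k)⟩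

end Limit

theorem subsingleton_xc_aff {𝔜 : FSch.Sys.{u}} (hY : 𝔜.IsLocNoethFormal) [HasExt.{u} (ModSite.Mod (𝔜.Osh hY.1))]
    [EnoughInjectives (ModSite.Mod (𝔜.Osh hY.1))] (R : FSch.ModF 𝔜 hY.1) (hR : FSch.IsCohF 𝔜 hY.1 R)
    {W : (𝔜.X 0).Opens} (hW : IsAffineOpen W) (k : ℕ) (hk : 0 < k) : Subsingleton (XC (𝔜.Osh hY.1) W R k) := by
  haveI : SheafOfModules.IsFinitePresentation (R := ModSite.ringSh (𝔜.Osh hY.1)) R := hR
  obtain ⟨m, rfl⟩ : ∃ m, k = m + 1 := ⟨k - 1, by omega⟩
  haveI : Subsingleton (CohFound.Hc ((abO (𝔜.Osh hY.1)).obj R) (m + 1) W) := subsingleton_hc_coh hY R hW m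
  exact (bijective_extFree (𝔜.Osh hY.1) W R (m + 1)).1.subsingleton

attribute [local instance] HasDerivedCategory.standard

variable {𝔛 𝔜 : FSch.Sys.{u}} (hX : 𝔛.IsLocNoethFormal) (hY : 𝔜.IsLocNoethFormal) (f : 𝔛 ⟶ 𝔜)
  [HasExt.{u} (ModSite.Mod (𝔛.Osh hX.1))] [HasExt.{u} (ModSite.Mod (𝔜.Osh hY.1))]
  [EnoughInjectives (ModSite.Mod (𝔛.Osh hX.1))]
  [SiteCmp.HasRpushD (FSch.homMor f hX.1 hY.1)] [HasInjectiveResolutions (FSch.ModF 𝔛 hX.1)]

/-- Classes as sections of the higher direct image. -/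
def sigma (W : (𝔜.X 0).Opens) (N : FSch.ModF 𝔛 hX.1) (n : ℕ) :
    XW (FSch.homMor f hX.1 hY.1) W N n →ₗ[AV 𝔜 hY.1 W] FSec hY ((FSch.RpushF f hX.1 hY.1 n).obj N) W where
  toFun ξ := ((rqIso (FSch.homMor f hX.1 hY.1) n).hom.app N).val.app (op W) (eta (FSch.homMor f hX.1 hY.1) W N n (XW.toXC ξ))
  map_add' ξ η := by rw [map_add, map_add, map_add]
  map_smul' a ξ := by
    rw [XW.toXC_smul, eta_smul, RingHom.id_apply]
    exact (((rqIso (FSch.homMor f hX.1 hY.1) n).hom.app N).val.app (op W)).hom.map_smul a _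

theorem sigma_post (W : (𝔜.X 0).Opens) {N N' : FSch.ModF 𝔛 hX.1} (φ : N ⟶ N') (n : ℕ)
    (ξ : XW (FSch.homMor f hX.1 hY.1) W N n) :
    sigma hX hY f W N' n (XW.post φ ξ) = ((FSch.RpushF f hX.1 hY.1 n).map φ).val.app (op W) (sigma hX hY f W N n ξ) := by
  change ((rqIso (FSch.homMor f hX.1 hY.1) n).hom.app N').val.app (op W)
    (eta (FSch.homMor f hX.1 hY.1) W N' n (XC.post φ (XW.toXC ξ))) = _
  rw [eta_post]
  exact congrArg (fun χ : (Rq (FSch.homMor f hX.1 hY.1) n).obj N ⟶ _ => χ.val.app (op W)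
    (eta (FSch.homMor f hX.1 hY.1) W N n (XW.toXC ξ))) ((rqIso (FSch.homMor f hX.1 hY.1) n).hom.naturality φ)

theorem sigma_res {W W' : (𝔜.X 0).Opens} (i : W' ≤ W) (N : FSch.ModF 𝔛 hX.1) (n : ℕ)
    (ξ : XW (FSch.homMor f hX.1 hY.1) W N n) :
    sigma hX hY f W' N n (XW.res (homOfLE i) ξ) = rF hY _ i (sigma hX hY f W N n ξ) := by
  change ((rqIso (FSch.homMor f hX.1 hY.1) n).hom.app N).val.app (op W')
    (eta (FSch.homMor f hX.1 hY.1) W' N n (XC.res ((FSch.homMor f hX.1 hY.1).fn.map (homOfLE i)) (XW.toXC ξ))) = _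
  rw [eta_res]
  exact ModFlat16.app_smap ((rqIso (FSch.homMor f hX.1 hY.1) n).hom.app N) (homOfLE i) _

/-- Over affine opens the classes are all the sections. -/
theorem bijective_sigma (hf : FSch.IsProperHom f) {W : (𝔜.X 0).Opens} (hW : IsAffineOpen W)
    (N : FSch.ModF 𝔛 hX.1) (hN : FSch.IsCohF 𝔛 hX.1 N) (n : ℕ) : Function.Bijective (sigma hX hY f W N n) :=
  (ConcreteCategory.bijective_of_isIso ((SheafOfModules.evaluation.{u} (ModSite.ringSh (𝔜.Osh hY.1)) (op W)).map
      ((rqIso (FSch.homMor f hX.1 hY.1) n).hom.app N))).comp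
    ((bijective_eta (FSch.homMor f hX.1 hY.1) W N n fun q _ k hk =>
      subsingleton_xc_aff hY _ (isCohF_Rq_of_isProperHom hX hY f hf N hN q) hW k hk).comp XW.toXC.bijective)

theorem isCohF_lvS (M : FSch.ModF 𝔛 hX.1) (hM : FSch.IsCohF 𝔛 hX.1 M) (k : ℕ) :
    FSch.IsCohF 𝔛 hX.1 ((lvS hX M).obj (op k)) := by
  haveI : SheafOfModules.IsFinitePresentation (R := ModSite.ringSh (𝔛.Osh hX.1)) M := hM
  haveI : Coh.IsQCoh (PL hX M k) := (isCoh_sysL hX M k).1
  exact FTorsH7.isCohF_jPush hX k (PL hX M k) (isCoh_sysL hX M k)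

/-- The higher direct images of the levels. -/
abbrev rlS (M : FSch.ModF 𝔛 hX.1) (q : ℕ) : ℕᵒᵖ ⥤ FSch.ModF 𝔜 hY.1 :=
  Functor.ofOpSequence
    (X := fun k => (FSch.RpushF f hX.1 hY.1 q).obj
      ((FSch.levelMor 𝔛 hX.1 k).push.obj ((FSch.levelMor 𝔛 hX.1 k).pull.obj M)))
    (fun k => (FSch.RpushF f hX.1 hY.1 q).map (FSch.levelTrans 𝔛 hX.1 M k))

theorem rlS_map (M : FSch.ModF 𝔛 hX.1) (q : ℕ) : ∀ {l m : ℕ} (h : m ≤ l),
    (rlS hX hY f M q).map (homOfLE h).op = (FSch.RpushF f hX.1 hY.1 q).map ((lvS hX M).map (homOfLE h).op) := by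
  intro l m h
  induction l, h using Nat.le_induction with
  | base =>
    rw [show (homOfLE (le_refl m)).op = 𝟙 (op m) from rfl, CategoryTheory.Functor.map_id,
      CategoryTheory.Functor.map_id, CategoryTheory.Functor.map_id]
    rfl
  | succ l h ih =>
    refine Eq.trans ?_ (congrArg (FSch.RpushF f hX.1 hY.1 q).map (lvS_succ hX M h)).symm
    refine (congrArg (rlS hX hY f M q).map (show (homOfLE (Nat.le_succ_of_le h)).op =
      (homOfLE (Nat.le_add_right l 1)).op ≫ (homOfLE h).op from Subsingleton.elim _ _)).trans ?_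
    rw [Functor.map_comp, Functor.map_comp, Functor.ofOpSequence_map_homOfLE_succ, ih]

/-- The comparison with the higher direct images of the levels. -/
def rlCone (M : FSch.ModF 𝔛 hX.1) (q : ℕ) : Cone (rlS hX hY f M q) where
  pt := (FSch.RpushF f hX.1 hY.1 q).obj M
  π := NatTrans.ofOpSequence (fun k => (FSch.RpushF f hX.1 hY.1 q).map ((FSch.levelMor 𝔛 hX.1 k).adj.unit.app M))
    fun k => by
      rw [Functor.ofOpSequence_map_homOfLE_succ]
      refine (Category.id_comp _).trans ?_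
      exact ((congrArg (FSch.RpushF f hX.1 hY.1 q).map (FSch.unit_levelTrans 𝔛 hX.1 M k)).symm.trans
        (Functor.map_comp _ _ _))

theorem sigma_unit_lift (M : FSch.ModF 𝔛 hX.1) (q k : ℕ) (W : (𝔜.X 0).Opens)
    (ξ : XW (FSch.homMor f hX.1 hY.1) W M q) :
    (limit.π (rlS hX hY f M q) (op k)).val.app (op W)
      ((limit.lift _ (rlCone hX hY f M q)).val.app (op W) (sigma hX hY f W M q ξ)) =
    sigma hX hY f W _ q (XW.post (unitL hX M k) ξ) := by
  refine Eq.trans ?_ (sigma_post hX hY f W (unitL hX M k) q ξ).symm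
  exact congrArg (fun χ : (rlCone hX hY f M q).pt ⟶ _ => χ.val.app (op W) (sigma hX hY f W M q ξ))
    (limit.lift_π (rlCone hX hY f M q) (op k))

/-- The higher direct image is the limit of those of the levels. -/
theorem isIso_lift_rlCone (hf : FSch.IsProperHom f) (M : FSch.ModF 𝔛 hX.1) (hM : FSch.IsCohF 𝔛 hX.1 M) (q : ℕ) :
    IsIso (limit.lift _ (rlCone hX hY f M q)) := by
  let θ := limit.lift _ (rlCone hX hY f M q)
  have key : ∀ W : (𝔜.X 0).Opens, IsAffineOpen W → Function.Bijective (θ.val.app (op W)) := fun W hW => by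
    have hff := ffw_coh hX hY f hf M hM W hW q
    have hb := fun k => bijective_sigma hX hY f hf hW _ (isCohF_lvS hX M hM k) q
    have hbM := bijective_sigma hX hY f hf hW M hM q
    refine ⟨(injective_iff_map_eq_zero (θ.val.app (op W)).hom).2 fun x hx => ?_, fun y => ?_⟩
    · obtain ⟨ξ, rfl⟩ := hbM.2 x
      rw [hff.inj ξ fun k => (hb k).1 ?_, map_zero]
      refine ((sigma_unit_lift hX hY f M q k W ξ).symm.trans ?_).trans (map_zero _).symm
      exact (congrArg ((limit.π (rlS hX hY f M q) (op k)).val.app (op W)) hx).trans (map_zero _)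
    · choose z hz using fun k => (hb k).2 ((limit.π (rlS hX hY f M q) (op k)).val.app (op W) y)
      obtain ⟨ξ, hξ⟩ := hff.lift z fun {l m} h => (hb m).1 (by
        refine (sigma_post hX hY f W _ q (z l)).trans ?_
        refine (congrArg (fun χ : (rlS hX hY f M q).obj (op l) ⟶ _ => χ.val.app (op W) (sigma hX hY f W _ q (z l)))
          (rlS_map hX hY f M q h)).symm.trans ?_
        refine (congrArg _ (hz l)).trans (Eq.trans ?_ (hz m).symm)
        exact congrArg (fun χ : limit (rlS hX hY f M q) ⟶ _ => χ.val.app (op W) y)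
          (limit.w (rlS hX hY f M q) (homOfLE h).op))
      refine ⟨sigma hX hY f W M q ξ, sub_eq_zero.1 (limit_sect_ext hY _ W _ fun k => ?_)⟩
      rw [map_sub, sub_eq_zero]
      exact (sigma_unit_lift hX hY f M q k W ξ).trans ((congrArg _ (hξ k)).trans (hz k))
  haveI : Mono θ := mono_of_sections θ fun V x hx => by
    refine sect_ext _ (affSieve V) (affSieve_mem V) fun W l hl => ?_
    obtain ⟨A, hA, h1, h2⟩ := hl
    rw [show l = homOfLE h1 ≫ homOfLE h2 from Subsingleton.elim _ _, ModFlat16.smap_comp, ModFlat16.smap_comp]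
    refine congrArg _ ((key A hA).1 ?_)
    refine (ModFlat16.app_smap θ (homOfLE h2) x).trans ?_
    exact ((congrArg (ModFlat16.smap _ (homOfLE h2)) hx).trans (map_zero _)).trans
      (((congrArg (θ.val.app (op A)) (map_zero (ModFlat16.smap _ (homOfLE h2)))).trans
        (map_zero (θ.val.app (op A)).hom)).symm)
  haveI : Epi θ := epi_of_affine hY θ fun V hV => (key V hV).2
  exact isIso_of_mono_of_epi θ

/-- The higher direct images of the levels satisfy the Mittag-Leffler condition. -/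
theorem rlS_isML [CompactSpace (𝔜.X 0)] (hf : FSch.IsProperHom f) (M : FSch.ModF 𝔛 hX.1)
    (hM : FSch.IsCohF 𝔛 hX.1 M) (q : ℕ) : ARSys.IsML (rlS hX hY f M q) := by
  classical
  intro m
  have hc : ∀ x : 𝔜.X 0, ∃ V : (𝔜.X 0).Opens, IsAffineOpen V ∧ x ∈ V := fun x => by
    obtain ⟨V, hV, hxV, -⟩ := exists_isAffineOpen_mem_and_subset (U := (⊤ : (𝔜.X 0).Opens)) (show x ∈ ⊤ from trivial)
    exact ⟨V, hV, hxV⟩
  choose V hV hxV using hc
  obtain ⟨G, hG⟩ := isCompact_univ.elim_finite_subcover (fun x => (V x : Set (𝔜.X 0))) (fun x => (V x).2)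
    fun x _ => Set.mem_iUnion.2 ⟨x, hxV x⟩
  choose m₀ hm₀ h₀ using fun x => (ffw_coh hX hY f hf M hM (V x) (hV x) q).stab m
  refine ⟨G.sup m₀, fun s hs => le_antisymm ?_ ?_⟩
  · refine AlgzLib.imageSubobject_le_of_comp_cokernel _ _ ?_
    have e : ARSys.shiftMap (rlS hX hY f M q) s m =
        (rlS hX hY f M q).map (homOfLE (show m + G.sup m₀ ≤ m + s by omega)).op ≫
          ARSys.shiftMap (rlS hX hY f M q) (G.sup m₀) m := by
      change (rlS hX hY f M q).map _ = (rlS hX hY f M q).map _ ≫ (rlS hX hY f M q).map _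
      rw [← (rlS hX hY f M q).map_comp]
      rfl
    change ARSys.shiftMap (rlS hX hY f M q) s m ≫ cokernel.π (ARSys.shiftMap (rlS hX hY f M q) (G.sup m₀) m) = 0
    rw [e, Category.assoc, cokernel.condition, comp_zero]
  · refine AlgzLib.imageSubobject_le_of_comp_cokernel _ _ ?_
    let r := m + G.sup m₀
    let φ := ARSys.shiftMap (rlS hX hY f M q) (G.sup m₀) m ≫ cokernel.π (ARSys.shiftMap (rlS hX hY f M q) s m)
    change φ = 0
    have hA : ∀ x ∈ G, ∀ (A : (𝔜.X 0).Opens), IsAffineOpen A → A ≤ V x →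
        ∀ z : FSec hY ((rlS hX hY f M q).obj (op r)) A, φ.val.app (op A) z = 0 := by
      intro x hx A hA hAx z
      obtain ⟨ι, κ, _, _, g, R, -, hloc⟩ := presW_coh hX hY f hf _ (isCohF_lvS hX M hM r) (V x) (hV x) q
      obtain ⟨ζ, rfl⟩ := (bijective_sigma hX hY f hf hA _ (isCohF_lvS hX M hM r) q).2 z
      have hζ : ζ ∈ Submodule.span (AV 𝔜 hY.1 A) (Set.range fun j => XW.res (homOfLE hAx) (g j)) :=
        (hloc A hA hAx).1 ▸ Submodule.mem_top
      induction hζ using Submodule.span_induction with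
      | mem w hw =>
        obtain ⟨j, rfl⟩ := hw
        obtain ⟨v, hv⟩ := h₀ x r (le_trans (Finset.le_sup (f := m₀) hx) (Nat.le_add_left _ _))
          (Nat.le_add_right m _) (g j)
        rw [sigma_res]
        refine (ModFlat16.app_smap φ (homOfLE hAx) _).trans ((congrArg _ ?_).trans (map_zero _))
        let w := sigma hX hY f (V x) _ q (XW.post (unitL hX M (m + s)) v)
        have hw : (ARSys.shiftMap (rlS hX hY f M q) s m).val.app (op (V x)) w =
            (ARSys.shiftMap (rlS hX hY f M q) (G.sup m₀) m).val.app (op (V x)) (sigma hX hY f (V x) _ q (g j)) := by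
          refine (congrArg (fun χ : (rlS hX hY f M q).obj (op (m + s)) ⟶ _ => χ.val.app (op (V x)) w)
            (rlS_map hX hY f M q (Nat.le_add_right m s))).trans ?_
          refine Eq.trans ?_ (congrArg (fun χ : (rlS hX hY f M q).obj (op r) ⟶ _ => χ.val.app (op (V x))
            (sigma hX hY f (V x) _ q (g j))) (rlS_map hX hY f M q (Nat.le_add_right m (G.sup m₀)))).symm
          refine (sigma_post hX hY f (V x) _ q _).symm.trans (Eq.trans ?_ (sigma_post hX hY f (V x) _ q _))
          refine congrArg _ (Eq.trans ?_ hv)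
          refine (XW.post_post (unitL hX M (m + s)) ((lvS hX M).map (homOfLE (Nat.le_add_right m s)).op) v).trans ?_
          exact congrArg (fun χ => XW.post χ v) (unitL_tr hX M (Nat.le_add_right m s))
        change (cokernel.π (ARSys.shiftMap (rlS hX hY f M q) s m)).val.app (op (V x))
          ((ARSys.shiftMap (rlS hX hY f M q) (G.sup m₀) m).val.app (op (V x)) (sigma hX hY f (V x) _ q (g j))) = 0
        rw [← hw]
        exact ModFlat16.app_smap_comp_zero _ _ (cokernel.condition _) w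
      | zero => rw [map_zero]; exact map_zero _
      | add b c _ _ hb hc => rw [map_add]; exact (map_add _ _ _).trans (by rw [hb, hc, add_zero])
      | smul a b _ hb =>
        rw [map_smul]
        exact ((φ.val.app (op A)).hom.map_smul a _).trans (by erw [hb, smul_zero])
    refine SheafOfModules.Hom.ext (PresheafOfModules.hom_ext fun U => ModuleCat.hom_ext (LinearMap.ext fun y => ?_))
    obtain ⟨U⟩ := U
    refine sect_ext _
      { arrows := fun W _ => ∃ A : (𝔜.X 0).Opens, IsAffineOpen A ∧ W ≤ A ∧ A ≤ U ∧ ∃ x ∈ G, A ≤ V x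
        downward_closed := fun ⟨A, h1, h2, h3⟩ e => ⟨A, h1, e.le.trans h2, h3⟩ } (fun z hz => ?_) fun W l hl => ?_
    · obtain ⟨x, hx, hzx⟩ := Set.mem_iUnion₂.1 (hG (Set.mem_univ z))
      obtain ⟨A, hA', hzA, hAU⟩ := exists_isAffineOpen_mem_and_subset (U := U ⊓ V x) ⟨hz, hzx⟩
      exact ⟨A, homOfLE (le_trans hAU inf_le_left), ⟨A, hA', le_rfl, le_trans hAU inf_le_left, x, hx,
        le_trans hAU inf_le_right⟩, hzA⟩
    · obtain ⟨A, hA', h1, h2, x, hx, hAx⟩ := hl
      show ModFlat16.smap _ l (φ.val.app (op U) y) = ModFlat16.smap _ l 0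
      rw [show l = homOfLE h1 ≫ homOfLE h2 from Subsingleton.elim _ _, ModFlat16.smap_comp, ← ModFlat16.app_smap,
        hA x hx A hA' hAx, map_zero, map_zero]

end Groth.Agent.ProperFormalH7
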