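import Groth.Agent.Lib.ProperFormalH7.FormalFun
import Groth.Agent.Lib.SiteCmp16.RpushTrunc

/-!
# Formal functions over a formal spectrum
-/

set_option autoImplicit false
set_option linter.style.haveILetI false
set_option linter.unusedSectionVars false
set_option backward.isDefEq.respectTransparency false
set_option backward.isDefEq.respectTransparency.types false
set_option maxHeartbeats 1000000
set_option synthInstance.maxHeartbeats 400000
set_option synthInstance.maxSize 1024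
universe u

open CategoryTheory CategoryTheory.Limits AlgebraicGeometry Opposite TopologicalSpace

noncomputable section

namespace Groth.Agent.ProperFormalH7

attribute [local instance] HasDerivedCategory.standard

theorem formalFunctions_spf (A : Type u) [CommRing A] [IsNoetherianRing A] (J : Ideal A)
    (h𝔜 : (FSch.spf A J).IsLocNoethFormal) (𝔛 : FSch.Sys.{u}) (h𝔛 : 𝔛.IsLocNoethFormal)
    (f : 𝔛 ⟶ FSch.spf A J) (hf : FSch.IsProperHom f) [HasInjectiveResolutions (FSch.ModF 𝔛 h𝔛.1)]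
    (M : FSch.ModF 𝔛 h𝔛.1) (hM : FSch.IsCohF 𝔛 h𝔛.1 M) (n : ℕ) :
    ARSys.IsML (Functor.ofOpSequence
      (X := fun k => AddCommGrpCat.of (FSch.HF 𝔛 h𝔛.1 ((FSch.levelMor 𝔛 h𝔛.1 k).push.obj ((FSch.levelMor 𝔛 h𝔛.1 k).pull.obj M)) n))
      (fun k => AddCommGrpCat.ofHom
        (Sheaf.H.map ((SheafOfModules.toSheaf _).map (FSch.levelTrans 𝔛 h𝔛.1 M k)) n))) ∧
    (∀ x : FSch.HF 𝔛 h𝔛.1 M n,
      (∀ k : ℕ, Sheaf.H.map ((SheafOfModules.toSheaf _).map ((FSch.levelMor 𝔛 h𝔛.1 k).adj.unit.app M)) n x = 0) → x = 0) ∧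
    (∀ y : ∀ k : ℕ, FSch.HF 𝔛 h𝔛.1 ((FSch.levelMor 𝔛 h𝔛.1 k).push.obj ((FSch.levelMor 𝔛 h𝔛.1 k).pull.obj M)) n,
      (∀ k : ℕ, Sheaf.H.map ((SheafOfModules.toSheaf _).map (FSch.levelTrans 𝔛 h𝔛.1 M k)) n (y (k + 1)) = y k) →
      ∃ x : FSch.HF 𝔛 h𝔛.1 M n, ∀ k : ℕ,
        Sheaf.H.map ((SheafOfModules.toSheaf _).map ((FSch.levelMor 𝔛 h𝔛.1 k).adj.unit.app M)) n x = y k) := by
  haveI : IsAffine ((FSch.spf A J).X 0) := inferInstanceAs (IsAffine (Spec (CommRingCat.of (A ⧸ J ^ (0 + 1)))))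
  haveI := hf.2
  haveI : CompactSpace (𝔛.X 0) := QuasiCompact.compactSpace_of_compactSpace ((f : FSch.Hom _ _).app 0)
  haveI : IsGrothendieckAbelian.{u} (FSch.ModF 𝔛 h𝔛.1) :=
    CohFound.isGrothendieckAbelian_sheafOfModules (ModSite.ringSh (𝔛.Osh h𝔛.1))
  haveI := IsGrothendieckAbelian.enoughInjectives (C := FSch.ModF 𝔛 h𝔛.1)
  haveI : IsGrothendieckAbelian.{u} (FSch.ModF (FSch.spf A J) h𝔜.1) :=
    CohFound.isGrothendieckAbelian_sheafOfModules (ModSite.ringSh ((FSch.spf A J).Osh h𝔜.1))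
  haveI : SiteCmp.HasRpushD (FSch.homMor f h𝔛.1 h𝔜.1) :=
    KInjLib.hasRightDerivedFunctor KInjLib.enoughKInj_of_grothendieck _
  exact ⟨hF_isML h𝔛 h𝔜 f hf.1 M hM n, hF_bijective h𝔛 h𝔜 f hf.1 M hM n⟩

end Groth.Agent.ProperFormalH7
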